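import Cfsg.Agent.OddHalf.D7Ex.Tri
import Cfsg.Agent.OddHalf.SL.Base0

/-!
# ODD D7, `q = 2`: the doubled root group, `J = I ∖ {j}` (helper57)

* `Full f j` : every node other than `j` lies in `J`; `PR_eq` : `P = L Q`; `hirr` : the hypothesis of `krTwo`;
* `base0_of_out` : `SL.Base0.Base0` from `KR.Out`, `P = ⟨X b : (b, r) ≥ 0⟩`;
* **`exists_base`** : `Base0` at the highest root from a Sylow `2`-subgroup `S` of `C(t)` and `m ∈ N(S)`,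
  `m t m⁻¹ = t z` (`E₆(2)`, `E₇(2)`, `E₈(2)`).
-/

set_option autoImplicit false
set_option linter.unusedSectionVars false

namespace Cfsg.Agent.OddHalf.D7Ex.TriE

open Cfsg.Agent.OddHalf.SL Cfsg.Agent.KFacts CoxeterSystem Cfsg.Agent.ChevalleyStructure.CoxeterGeom
  Cfsg.Agent.Tits.Roots Cfsg.Agent.Tits.Core
  Cfsg.Agent.Tits.RootComb Cfsg.Agent.Nodes.Comb Cfsg.Agent.Nodes.Reps Cfsg.Agent.Nodes.BNOf
  Cfsg.Agent.Nodes.Bruhat Cfsg.Agent.Nodes.Coroot Cfsg.Agent.OddHalf.SL.Index Cfsg.Agent.OddHalf.SL.OfRGD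
  Cfsg.Agent.Nodes.StabComb Cfsg.Agent.Nodes.LeviDec Cfsg.Agent.Nodes.Sub Cfsg.Agent.Nodes.SubComb
  Cfsg.Agent.OddHalf.D7Ex.KTwo Cfsg.Agent.OddHalf.D7Ex.TriComb Cfsg.Agent.OddHalf.D7Ex.TriAux
  Cfsg.Agent.OddHalf.D7Ex.TriGrp Cfsg.Agent.OddHalf.D7Ex.TriFix Cfsg.Agent.OddHalf.D7Ex.TriLevi
  Cfsg.Agent.OddHalf.D7Ex.Tri Cfsg.Agent.OddHalf.D7Ex.GamAut Cfsg.Agent.OddHalf.SL.OfDatum
  Cfsg.Agent.KFacts.RgdCent Cfsg.Agent.KFacts.RgdPar Cfsg.Agent.KFacts.RgdTI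
  Cfsg.Agent.OddHalf.D7Ex.KData Cfsg.Agent.KFacts.SLRow.Def
open scoped commutatorElement

variable {I J W G : Type*} [Fintype I] [DecidableEq I] [Fintype J] [DecidableEq J] [Group W] [Group G]
  {M : CoxeterMatrix I} {cs : CoxeterSystem M W} {A : I → I → ℤ} {h : IsCartan M A} {T : Subgroup G} {n : I → G}
  {X : (I → ℤ) → Subgroup G} {K : Subgroup G} {t : G}

variable [Finite W] [Finite G] {f : J ↪ I} {j : I} {κ : J} {r : I → ℤ} (D : Datum K 2 cs h T n X)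

include D

/-- `Base0` from `KR.Out` -/
theorem base0_of_out (Kt : ∀ k ∈ K, t * k = k * t) (hr : IsRoot cs h r) {V : Subgroup G}
    (O : KR.Out t (X r) (PR (Bf A) {x | IsRoot cs h x} X r) T V) : SL.Base0.Base0 D.rgd t r V := by
  have hN : ∀ w k, Rp cs D.rgd.nsys w k → k ∈ K := by
    intro w k hk
    rw [← D.GG_eq]
    exact NN_le_GG D.rgd ⟨_, hk⟩
  refine ⟨hr, O.dbl.XW, O.sq, O.dbl.brk, O.dbl.cent, O.dbl.surj, ?_, ?_, fun w k hk => Kt k (hN w k hk)⟩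
  · intro a ha h0 w hw x hx
    exact O.dbl.WP w hw x (le_PR X ha h0 hx)
  · intro w k hk hwr v hv
    refine O.nrm k ?_ v hv
    have h1 := ((lr D r hr).mem_normalizer_iff hk).2 hwr
    have h2 : k ∈ PS T X (Ge cs h r) := by
      rw [← (lr D r hr).normalizer]
      exact ⟨h1, by rw [D.GG_eq]; exact hN w k hk⟩
    unfold PS at h2
    rwa [sup_Ge D hr] at h2

omit D [Finite G] in
/-- a root of `J` has a neighbour in `J` -/
theorem exists_nb (h4 : ∀ i j, M i j ≠ 4) (h6 : ∀ i j, M i j ≠ 6)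
    (hnb : ∀ i, ∃ i', Bf A (sr (f i)) (sr (f i')) = -1) {b : I → ℤ} (hb : b ∈ RootsJ cs h (Set.range f)) :
    ∃ d ∈ RootsJ cs h (Set.range f), Bf A b d = 1 := by
  have hR := roots cs h h4 h6
  obtain ⟨w, hw, _, ⟨i, rfl⟩, rfl⟩ := exists_of_mem_RootsJ hb
  obtain ⟨i', hi'⟩ := hnb i
  have h1 : -sr (f i') ∈ RootsJ cs h (Set.range f) := RootsJ.neg (PosJ_subset _ (sr_mem_PosJ ⟨i', rfl⟩))
  refine ⟨rep cs h w (-sr (f i')), RootsJ.act hw h1, ?_⟩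
  rw [bf_rep h4 h6, hR.neg_right, hi']; norm_num

variable (N : Nd cs h f j κ r)

include N

omit D [Finite G] in
/-- the roots orthogonal to `r` -/
theorem mem_RootsJ_of (h4 : ∀ i j, M i j ≠ 4) (h6 : ∀ i j, M i j ≠ 6) (hfull : ∀ b, b ≠ j → ∃ i, f i = b)
    {a : I → ℤ} (ha : IsRoot cs h a) (h0 : Bf A a r = 0) : a ∈ RootsJ cs h (Set.range f) := by
  rw [bf_r h4 h6 N] at h0
  refine ⟨ha, fun k hk => ?_⟩
  by_cases hkj : k = j
  · rw [hkj, h0]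
  · exact absurd (hfull k hkj) hk

/-- `P = L Q` -/
theorem PR_eq (hfull : ∀ b, b ≠ j → ∃ i, f i = b) :
    PR (Bf A) {x | IsRoot cs h x} X r = Lv cs h X f ⊔ Qr cs h X r := by
  have hR := roots cs h D.h4 D.h6
  apply le_antisymm
  · refine PR_le fun b hb h0 => ?_
    have h1 := hR.le b hb r N.hr
    rcases (show Bf A b r = 0 ∨ Bf A b r = 1 ∨ Bf A b r = 2 by omega) with h2 | h2 | h2
    · exact (RGD.le_Sup (mem_RootsJ_of N D.h4 D.h6 hfull hb h2)).trans le_sup_left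
    · exact (le_QS X r (show b ∈ Ph1 (Bf A) {x | IsRoot cs h x} r from ⟨hb, h2⟩)).trans le_sup_right
    · rw [hR.eq b hb r N.hr h2]
      exact (X_le_QS X _ r).trans le_sup_right
  · exact sup_le (Lv_le_PR D N) (Q_le_PR D N)

/-- the action on `P / Q` -/
theorem hin {c u z : G} (hz : z ∈ X r) (hz1 : z ≠ 1) {P : Subgroup G}
    (HK : KR t (Bf A) {x | IsRoot cs h x} X r P T) (hc : Gd t z c) (hu : u ∈ Lv cs h X f)
    (hl : ∀ l ∈ Lv cs h X f, ∃ q ∈ Qr cs h X r, c * l * c⁻¹ = (u * l * u⁻¹) * q) :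
    ∀ p ∈ Lv cs h X f ⊔ Qr cs h X r, c * p * c⁻¹ * (u * p * u⁻¹)⁻¹ ∈ Qr cs h X r := by
  intro p hp
  obtain ⟨l, hlL, q, hq, rfl⟩ := (mem_sup_norm (nQ D N)).1 hp
  obtain ⟨q', hq', e⟩ := hl l hlL
  have h1 : c * q * c⁻¹ ∈ Qr cs h X r := Gd.gQ D N HK hz hz1 hc q hq
  have h2 : u * q * u⁻¹ ∈ Qr cs h X r := nQ D N u hu q hq
  have e2 : c * (l * q) * c⁻¹ * (u * (l * q) * u⁻¹)⁻¹ =
      (u * l * u⁻¹) * (q' * (c * q * c⁻¹) * (u * q * u⁻¹)⁻¹) * (u * l * u⁻¹)⁻¹ := by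
    calc c * (l * q) * c⁻¹ * (u * (l * q) * u⁻¹)⁻¹ = (c * l * c⁻¹) * (c * q * c⁻¹) * (u * (l * q) * u⁻¹)⁻¹ := by
          group
      _ = (u * l * u⁻¹) * q' * (c * q * c⁻¹) * (u * (l * q) * u⁻¹)⁻¹ := by rw [e]
      _ = _ := by group
  rw [e2]
  exact nQ D N _ (mul_mem (mul_mem hu hlL) (inv_mem hu)) _ (mul_mem (mul_mem hq' h1) (inv_mem h2))

/-- the hypothesis of `krTwo` -/
theorem hirr (hfull : ∀ b, b ≠ j → ∃ i, f i = b) (hnb : ∀ i, ∃ i', Bf A (sr (f i)) (sr (f i')) = -1) :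
    ∀ b, IsRoot cs h b → Bf A b r = 0 → ∃ d, IsRoot cs h d ∧ Bf A d r = 0 ∧ Bf A b d = 1 := by
  intro b hb h0
  obtain ⟨d, hd, h1⟩ := exists_nb (f := f) D.h4 D.h6 hnb (mem_RootsJ_of N D.h4 D.h6 hfull hb h0)
  exact ⟨d, hd.1, RootsJ_zero D.h4 D.h6 N hd, h1⟩

/-- **The doubled root group, `J = I ∖ {j}`.** -/
theorem exists_base (C : Fl t K) (hs : ∀ P' : Subgroup G, (∀ x ∈ P', x * t = t * x) → P' ≤ ⁅P', P'⁆ → P' ≤ K)
    (hI : 4 ≤ Fintype.card I) (hfull : ∀ b, b ≠ j → ∃ i, f i = b)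
    (hnb : ∀ i, ∃ i', Bf A (sr (f i)) (sr (f i')) = -1)
    (haut : ∀ σ τ : Equiv.Perm J, (∀ i k, M (f (σ i)) (f (σ k)) = M (f i) (f k)) → σ κ = κ →
      (∀ i k, M (f (τ i)) (f (τ k)) = M (f i) (f k)) → τ κ = κ → σ ≠ 1 → τ ≠ 1 → σ = τ)
    {z : G} (hz : z ∈ X r) (hz1 : z ≠ 1) {S : Subgroup G} {m : G}
    (Y : Syl K (RGD.Sup X (RGD.Pos cs h)) t z S m) : ∃ V, SL.Base0.Base0 D.rgd t r V := by
  have HK := krTwo D C hs N.hr (hirr D N hfull hnb)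
  have hP := PR_eq D N hfull
  obtain ⟨c, ct, cz, u, hu, hl⟩ := exists_inner D C N hz hz1 HK hP (fun b b' h1 h2 _ _ => by
    obtain ⟨i, hi⟩ := hfull b h1
    exact absurd hi (h2 i)) haut Y
  have hc : Gd t z c := ⟨cz, Or.inr ct⟩
  have hzz : ∀ x ∈ X r, x = 1 ∨ x = z := by
    intro x hx
    by_cases hx1 : x = 1
    · exact Or.inl hx1
    · exact Or.inr (eq_of_ne D N.hr hx hz hx1 hz1)
  obtain ⟨V, O, -, -⟩ := HK.exists_two (pt D hI N.hr) hzz (Gd.gX D hz hz1 N.hr hc) (Gd.gt HK hz hc)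
    (by rw [ct]; intro e; exact hz1 (mul_eq_left.1 e)) (p0 := u)
    (by rw [hP]; exact Subgroup.mem_sup_left (Uv_le_Lv hu)) (by
      intro p hp
      rw [hP] at hp
      exact hin D N hz hz1 HK hc (Uv_le_Lv hu) hl p hp)
  exact ⟨V, base0_of_out D C.Kt N.hr O⟩

end Cfsg.Agent.OddHalf.D7Ex.TriE
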