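import Cfsg.Agent.OddHalf.D7Ex.TriLevi

/-!
# ODD D7, `q = 2`: an element of `N(S)` acts on `P / Q` as an element of `P` (helper57)

`S` a Sylow `2`-subgroup of `C(t)` with `S ∩ K = U`, `m ∈ N(S)`, `m t m⁻¹ = t z`, `z ∈ X r`, `r` the highest root:
**`exists_inner`** : some `c` with `c t c⁻¹ = t z`, `c z = z c` acts on `L Q / Q` as an element of `U_J`.
If `S = ⟨t⟩ U` then `c = m` or `c = k [x', m] k⁻¹` (`TriAux.Rel`), otherwise `c = m` or `c = g m`, `g ∈ S`.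
-/

set_option autoImplicit false
set_option linter.unusedSectionVars false

namespace Cfsg.Agent.OddHalf.D7Ex.Tri

open Cfsg.Agent.OddHalf.SL Cfsg.Agent.KFacts CoxeterSystem Cfsg.Agent.ChevalleyStructure.CoxeterGeom
  Cfsg.Agent.Tits.Roots Cfsg.Agent.Tits.Core
  Cfsg.Agent.Tits.RootComb Cfsg.Agent.Nodes.Comb Cfsg.Agent.Nodes.Reps Cfsg.Agent.Nodes.BNOf
  Cfsg.Agent.Nodes.Bruhat Cfsg.Agent.Nodes.Coroot Cfsg.Agent.OddHalf.SL.Index Cfsg.Agent.OddHalf.SL.OfRGD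
  Cfsg.Agent.Nodes.StabComb Cfsg.Agent.Nodes.LeviDec Cfsg.Agent.Nodes.Sub Cfsg.Agent.Nodes.SubComb
  Cfsg.Agent.OddHalf.D7Ex.KTwo Cfsg.Agent.OddHalf.D7Ex.TriComb Cfsg.Agent.OddHalf.D7Ex.TriAux
  Cfsg.Agent.OddHalf.D7Ex.TriGrp Cfsg.Agent.OddHalf.D7Ex.TriFix Cfsg.Agent.OddHalf.D7Ex.TriLevi
  Cfsg.Agent.OddHalf.D7Ex.GamAut
  Cfsg.Agent.OddHalf.D7Ex.KData Cfsg.Agent.KFacts.SLRow.Def
open scoped commutatorElement

/-- a Sylow `2`-subgroup `S` of `C(t)` and an element `m` of its normaliser -/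
structure Syl {G : Type*} [Group G] (K U : Subgroup G) (t z : G) (S : Subgroup G) (m : G) : Prop where
  US : U ≤ S
  SK : ∀ y ∈ S, y ∈ K → y ∈ U
  tS : t ∈ S
  St : ∀ y ∈ S, y * t = t * y
  Sz : ∀ y ∈ S, y * z = z * y
  mS : ∀ y, m * y * m⁻¹ ∈ S ↔ y ∈ S
  mt : m * t * m⁻¹ = t * z
  mz : m * z = z * m

variable {I J W G : Type*} [Fintype I] [DecidableEq I] [Fintype J] [DecidableEq J] [Group W] [Group G]
  {M : CoxeterMatrix I} {cs : CoxeterSystem M W} {A : I → I → ℤ} {h : IsCartan M A} {T : Subgroup G} {n : I → G}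
  {X : (I → ℤ) → Subgroup G} {K : Subgroup G} {t : G}

variable [Finite W] [Finite G] {f : J ↪ I} {j : I} {κ : J} {r : I → ℤ} (D : Datum K 2 cs h T n X)
  (C : Fl t K) (N : Nd cs h f j κ r) {P : Subgroup G} (HK : KR t (Bf A) {x | IsRoot cs h x} X r P T)
  (hP : P = Lv cs h X f ⊔ Qr cs h X r) {z zs : G} (hz : z ∈ X r) (hz1 : z ≠ 1) (hzs : zs ∈ X (r - sr j))
  (hzs1 : zs ≠ 1) {S : Subgroup G} {m : G}

/-- `g` centralises `z` and fixes `t` or moves it to `t z` -/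
def Gd (t z g : G) : Prop := g * z = z * g ∧ (g * t * g⁻¹ = t ∨ g * t * g⁻¹ = t * z)

include D N hz hz1

omit N in
theorem Gd.gX (hr : IsRoot cs h r) {g : G} (hg : Gd t z g) : ∀ x ∈ X r, g * x * g⁻¹ ∈ X r := by
  intro x hx
  by_cases hx1 : x = 1
  · rw [hx1, mul_one, mul_inv_cancel]; exact one_mem _
  · rw [eq_of_ne D hr hx hz hx1 hz1, fix hg.1]; exact hz

include HK in
omit D N hz1 in
theorem Gd.gt {g : G} (hg : Gd t z g) : t * (g * t * g⁻¹) ∈ X r := by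
  rcases hg.2 with h1 | h1
  · rw [h1, HK.tt]; exact one_mem _
  · rw [h1, ← mul_assoc, HK.tt, one_mul]; exact hz

include HK in
omit N in
theorem Gd.inv {g : G} (hg : Gd t z g) : Gd t z g⁻¹ := by
  have h1 : g⁻¹ * z = z * g⁻¹ := by
    rw [inv_mul_eq_iff_eq_mul, ← mul_assoc, hg.1, mul_inv_cancel_right]
  refine ⟨h1, ?_⟩
  rcases hg.2 with h2 | h2
  · exact Or.inl (inv_conj h2)
  · right
    have h3 := inv_conj h2
    rw [cm g⁻¹, fix h1] at h3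
    have zz := pow_two_X D HK.hr hz
    calc g⁻¹ * t * g⁻¹⁻¹ = (g⁻¹ * t * g⁻¹⁻¹) * z * z := by rw [mul_assoc _ z z, zz, mul_one]
      _ = t * z := by rw [h3]

include HK in
theorem Gd.gQ {g : G} (hg : Gd t z g) : ∀ q ∈ Qr cs h X r, g * q * g⁻¹ ∈ Qr cs h X r := fun _ hq =>
  HK.nQ1 (Gd.gX D hz hz1 N.hr hg) (Gd.gt HK hz hg) hq

include HK in
theorem Gd.gP {g : G} (hg : Gd t z g) : ∀ p ∈ P, g * p * g⁻¹ ∈ P :=
  HK.nP0 g (Gd.gX D hz hz1 N.hr hg) (Gd.gt HK hz hg)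

include HK hP in
theorem Gd.act {g : G} (hg : Gd t z g) : Act (Lv cs h X f) (Qr cs h X r) g :=
  TriLevi.act D N HK hP (Gd.gX D hz hz1 N.hr hg) (Gd.gt HK hz hg)

include hP in
omit hz hz1 in
theorem P_le_K : P ≤ K := by
  rw [hP]
  exact sup_le (RGD.Sup_le fun a ha => D.XK ha.1) (QS_le (D.XK N.hr) fun b hb => D.XK hb.1)

omit N hz hz1 in
theorem U_le_K : RGD.Sup X (RGD.Pos cs h) ≤ K := RGD.Sup_le fun _ ha => D.XK ha.1

include hP in
omit hz hz1 in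
/-- `S ∩ P = U_J Q` -/
theorem SP (Y : Syl K (RGD.Sup X (RGD.Pos cs h)) t z S m) {y : G} (hy : y ∈ S) (hyP : y ∈ P) :
    y ∈ Uv cs h X f ⊔ Qr cs h X r :=
  inf_U D N (Y.SK y hy (P_le_K D N hP hyP)) (by rw [← hP]; exact hyP)

include HK hP in
/-- an element normalising `S` normalises `U_J Q` -/
theorem norm_U1 (Y : Syl K (RGD.Sup X (RGD.Pos cs h)) t z S m) {g : G} (hg : Gd t z g)
    (gS : ∀ y ∈ S, g * y * g⁻¹ ∈ S) : ∀ x ∈ Uv cs h X f, g * x * g⁻¹ ∈ Uv cs h X f ⊔ Qr cs h X r := by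
  intro x hx
  refine SP D N hP Y (gS x (Y.US (Uv_le_U hx))) (Gd.gP D N HK hz hz1 hg x ?_)
  rw [hP]
  exact Subgroup.mem_sup_left (Uv_le_Lv hx)

omit D N hz hz1 in
theorem gd_S (Y : Syl K (RGD.Sup X (RGD.Pos cs h)) t z S m) {y : G} (hy : y ∈ S) : Gd t z y :=
  ⟨Y.Sz y hy, Or.inl (fix (Y.St y hy))⟩

omit D N hz hz1 in
theorem gd_m (Y : Syl K (RGD.Sup X (RGD.Pos cs h)) t z S m) : Gd t z m := ⟨Y.mz, Or.inr Y.mt⟩

include hzs hzs1 HK C in
theorem S_le_NE (Y : Syl K (RGD.Sup X (RGD.Pos cs h)) t z S m) : S ≤ NE z zs (pow_two_X D N.hr hz) := by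
  intro y hy
  refine mem_NE_of D N hz hz1 hzs hzs1 (Y.Sz y hy) (Gd.gQ D N HK hz hz1 (gd_S Y hy)) fun u hu => ?_
  refine U_le_NE D N hz hz1 hzs hzs1 (Y.SK _ (mul_mem (mul_mem (inv_mem hy) (Y.US hu)) hy) ?_)
  have h1 := C.nrm y⁻¹ (Y.St _ (inv_mem hy)) u (U_le_K D hu)
  rwa [inv_inv] at h1

omit D N hz hz1 in
theorem mS' (Y : Syl K (RGD.Sup X (RGD.Pos cs h)) t z S m) {y : G} (hy : y ∈ S) : m⁻¹ * y * m⁻¹⁻¹ ∈ S := by
  rw [← Y.mS]
  have e : m * (m⁻¹ * y * m⁻¹⁻¹) * m⁻¹ = y := by group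
  rwa [e]

include hzs hzs1 HK C in
theorem m_mem_NE (Y : Syl K (RGD.Sup X (RGD.Pos cs h)) t z S m) : m ∈ NE z zs (pow_two_X D N.hr hz) := by
  refine mem_NE_of D N hz hz1 hzs hzs1 Y.mz (Gd.gQ D N HK hz hz1 (gd_m Y)) fun u hu => ?_
  have h1 := mS' Y (Y.US hu)
  rw [inv_inv] at h1
  exact S_le_NE D C N HK hz hz1 hzs hzs1 Y h1

include hzs hzs1 in
/-- `PF i Q ≤ NE` for `i ≠ κ` -/
theorem PF_le_NE {i : J} (hi : i ≠ κ) : PF cs h X f i ⊔ Qr cs h X r ≤ NE z zs (pow_two_X D N.hr hz) :=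
  sup_le (sup_le (Uv_le_U.trans (U_le_NE D N hz hz1 hzs hzs1)) (neg_le_NE D N hz hz1 hzs hzs1 hi))
    ((Q_le_U D N).trans (U_le_NE D N hz hz1 hzs hzs1))

include hzs hzs1 in
/-- the permutation of an element of `NE` fixes `κ` -/
theorem sigma_kappa {g : G} (hg : g ∈ NE z zs (pow_two_X D N.hr hz)) {σ : Equiv.Perm J}
    (hσ : ∀ i, ∀ x ∈ PF cs h X f i, g * x * g⁻¹ ∈ PF cs h X f (σ i) ⊔ Qr cs h X r) : σ κ = κ := by
  by_contra hne
  obtain ⟨x, hx, hx1⟩ := exists_ne D.rgd (isRoot_sr cs h (f κ)).neg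
  have h1 := PF_le_NE D N hz hz1 hzs hzs1 hne (hσ κ x (Subgroup.mem_sup_right hx))
  have h2 := mul_mem (mul_mem (inv_mem hg) h1) hg
  have e : g⁻¹ * (g * x * g⁻¹) * g = x := by group
  rw [e] at h2
  exact kappa_not_NE D N hz hz1 hzs hzs1 hx hx1 h2

omit hz hz1 in
/-- the minimal parabolic subgroups are different -/
theorem eq_of_le {i k : J} (hik : ∀ x ∈ X (-sr (f i)), x ∈ PF cs h X f k ⊔ Qr cs h X r) : k = i := by
  have hA : Act (Lv cs h X f) (Qr cs h X r) 1 := by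
    refine ⟨nQ D N, inf D N, fun q => by rw [one_mul, inv_one, mul_one], fun l hl => ⟨l, hl, 1, one_mem _, by group⟩⟩
  obtain ⟨σ, -, h2, -⟩ := levi_sym D hA (fun x hx => by
    rw [one_mul, inv_one, mul_one]; exact Subgroup.mem_sup_left hx)
  have e1 := h2 i k fun x hx => by rw [one_mul, inv_one, mul_one]; exact hik x hx
  have e2 := h2 i i fun x hx => by
    rw [one_mul, inv_one, mul_one]
    exact Subgroup.mem_sup_left (Subgroup.mem_sup_right hx)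
  rw [← e1, e2]

/-! ### The clean case -/

/-- the centraliser of `z'` in `S` -/
def SE (S : Subgroup G) (zs : G) : Subgroup G := S ⊓ Subgroup.centralizer ({zs} : Set G)

omit D N hz hz1 [Finite G] in
theorem mem_SE {y : G} : y ∈ SE S zs ↔ y ∈ S ∧ y * zs = zs * y := by
  unfold SE
  rw [Subgroup.mem_inf, Subgroup.mem_centralizer_singleton_iff]

section Clean

variable (Y : Syl K (RGD.Sup X (RGD.Pos cs h)) t z S m)
  (hcl : ∀ y ∈ S, y ∈ RGD.Sup X (RGD.Pos cs h) ∨ y * t ∈ RGD.Sup X (RGD.Pos cs h))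

include hzs hzs1 C

include Y hcl in
theorem mem_SE_iff {y : G} : y ∈ SE S zs ↔ y ∈ V1 cs h X j ∨ y * t ∈ V1 cs h X j := by
  have hzsK : zs ∈ K := D.XK (hs D.h4 D.h6 N) hzs
  have hts : t * zs = zs * t := C.Kt zs hzsK
  obtain ⟨x0, hx0, hx1⟩ := exists_ne D.rgd (isRoot_sr cs h j)
  have key : ∀ y ∈ RGD.Sup X (RGD.Pos cs h), y * zs = zs * y → y ∈ V1 cs h X j := by
    intro y hy hyz
    rcases mem_U D hx0 hx1 hy with h1 | h1
    · exact h1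
    · exfalso
      have h2 := V1_s D N h1 hzs
      have h3 : x0 * zs = zs * x0 := by
        have : y * (x0 * zs) = y * (zs * x0) := by
          calc y * (x0 * zs) = y * x0 * zs := by group
            _ = zs * (y * x0) := h2
            _ = (zs * y) * x0 := by group
            _ = y * (zs * x0) := by rw [← hyz]; group
        exact mul_left_cancel this
      have h4 := rel_os D N hx0 hx1 hz hz1 hzs hzs1
      rw [fix h3] at h4
      exact hz1 (mul_eq_left.1 h4.symm)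
  rw [mem_SE]
  constructor
  · rintro ⟨hy, hyz⟩
    rcases hcl y hy with h1 | h1
    · exact Or.inl (key y h1 hyz)
    · right
      refine key _ h1 ?_
      rw [mul_assoc, hts, ← mul_assoc, hyz, mul_assoc]
  · rintro (h1 | h1)
    · exact ⟨Y.US (V1_le_U h1), V1_s D N h1 hzs⟩
    · have h2 : y = y * t * t⁻¹ := by group
      have h3 : t ∈ SE S zs := mem_SE.2 ⟨Y.tS, hts⟩
      have h4 : y * t ∈ SE S zs := mem_SE.2 ⟨Y.US (V1_le_U h1), V1_s D N h1 hzs⟩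
      rw [← mem_SE, h2]
      exact mul_mem h4 (inv_mem h3)

include Y hcl in
/-- `X (± j)` normalises `S_E` -/
theorem conj_SE {a : I → ℤ} (ha : a = sr j ∨ a = -sr j) {x y : G} (hx : x ∈ X a) (hy : y ∈ SE S zs) :
    x * y * x⁻¹ ∈ SE S zs := by
  have har : IsRoot cs h a := by
    rcases ha with rfl | rfl
    · exact isRoot_sr cs h j
    · exact (isRoot_sr cs h j).neg
  have htx : t * x = x * t := C.Kt x (D.XK har hx)
  have htx' : x⁻¹ * t = t * x⁻¹ := by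
    rw [inv_mul_eq_iff_eq_mul, ← mul_assoc, ← htx, mul_inv_cancel_right]
  rw [mem_SE_iff D C N hz hz1 hzs hzs1 Y hcl] at hy ⊢
  rcases hy with hy | hy
  · exact Or.inl (conj_V1 D ha hx hy)
  · right
    have h1 := conj_V1 D ha hx hy
    have e : x * (y * t) * x⁻¹ = x * y * x⁻¹ * t := by
      calc x * (y * t) * x⁻¹ = x * y * (t * x⁻¹) := by group
        _ = x * y * (x⁻¹ * t) := by rw [htx']
        _ = _ := by group
    rwa [e] at h1

/-- `M_i` -/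
def Mi (X : (I → ℤ) → Subgroup G) (f : J ↪ I) (S : Subgroup G) (zs : G) (i : J) : Subgroup G :=
  SE S zs ⊔ X (-sr (f i))

include Y hcl in
theorem conj_Mi {i : J} (hi : i ≠ κ) {a : I → ℤ} (ha : a = sr j ∨ a = -sr j) {x y : G} (hx : x ∈ X a)
    (hy : y ∈ Mi X f S zs i) : x * y * x⁻¹ ∈ Mi X f S zs i := by
  have hle : Mi X f S zs i ≤ (Mi X f S zs i).comap (MulAut.conj x).toMonoidHom := by
    refine sup_le (fun y hy => ?_) fun y hy => ?_
    · exact Subgroup.mem_sup_left (conj_SE D C N hz hz1 hzs hzs1 Y hcl ha hx hy)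
    · show x * y * x⁻¹ ∈ Mi X f S zs i
      rw [← neg_j D N hi ha hy hx, mul_inv_cancel_right]
      exact Subgroup.mem_sup_right hy
  exact hle hy

omit C hzs1 hz hz1 in
theorem Mi_zs {i : J} (hi : i ≠ κ) {y : G} (hy : y ∈ Mi X f S zs i) : y * zs = zs * y := by
  have hle : Mi X f S zs i ≤ Subgroup.centralizer ({zs} : Set G) :=
    sup_le inf_le_right fun x hx => by
      rw [Subgroup.mem_centralizer_singleton_iff]; exact neg_s D N hi hx hzs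
  exact Subgroup.mem_centralizer_singleton_iff.1 (hle hy)

include Y hcl in
/-- `PF i Q ∩ C(z') ≤ M_i` -/
theorem PF_inf {i : J} (hi : i ≠ κ) {y : G} (hy : y ∈ PF cs h X f i ⊔ Qr cs h X r) (hyz : y * zs = zs * y) :
    y ∈ Mi X f S zs i := by
  obtain ⟨x0, hx0, hx1⟩ := exists_ne D.rgd (isRoot_sr cs h j)
  have hV : V1 cs h X j ≤ Mi X f S zs i := fun y hy =>
    Subgroup.mem_sup_left ((mem_SE_iff D C N hz hz1 hzs hzs1 Y hcl).2 (Or.inl hy))
  have hU : RGD.Sup X (RGD.Pos cs h) ≤ Two (Mi X f S zs i) x0 (pow_two_X D (isRoot_sr cs h j) hx0)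
      (fun y hy => conj_Mi D C N hz hz1 hzs hzs1 Y hcl hi (Or.inl rfl) hx0 hy) := by
    intro y hy
    rcases mem_U D hx0 hx1 hy with h1 | h1
    · exact Or.inl (hV h1)
    · exact Or.inr (hV h1)
  have hle : PF cs h X f i ⊔ Qr cs h X r ≤ Two (Mi X f S zs i) x0 (pow_two_X D (isRoot_sr cs h j) hx0)
      (fun y hy => conj_Mi D C N hz hz1 hzs hzs1 Y hcl hi (Or.inl rfl) hx0 hy) :=
    sup_le (sup_le (Uv_le_U.trans hU) (le_sup_right.trans le_Two)) ((Q_le_U D N).trans hU)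
  rcases hle hy with h1 | h1
  · exact h1
  · exfalso
    have h2 := Mi_zs D N hzs hi h1
    have h3 : x0 * zs = zs * x0 := by
      have : y * (x0 * zs) = y * (zs * x0) := by
        calc y * (x0 * zs) = y * x0 * zs := by group
          _ = zs * (y * x0) := h2
          _ = (zs * y) * x0 := by group
          _ = y * (zs * x0) := by rw [← hyz]; group
      exact mul_left_cancel this
    have h4 := rel_os D N hx0 hx1 hz hz1 hzs hzs1
    rw [fix h3] at h4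
    exact hz1 (mul_eq_left.1 h4.symm)

include Y hcl hP in
/-- `M_i ∩ P ≤ PF i Q` -/
theorem Mi_inf {i : J} {y : G} (hy : y ∈ Mi X f S zs i) (hyP : y ∈ P) :
    y ∈ PF cs h X f i ⊔ Qr cs h X r := by
  have hFK : RGD.Sup X (RGD.Pos cs h) ⊔ X (-sr (f i)) ≤ K :=
    sup_le (U_le_K D) (D.XK (isRoot_sr cs h (f i)).neg)
  have hn : ∀ y ∈ RGD.Sup X (RGD.Pos cs h) ⊔ X (-sr (f i)),
      t * y * t⁻¹ ∈ RGD.Sup X (RGD.Pos cs h) ⊔ X (-sr (f i)) := by
    intro y hy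
    rw [fix (C.Kt y (hFK hy))]; exact hy
  have hle : Mi X f S zs i ≤ Two (RGD.Sup X (RGD.Pos cs h) ⊔ X (-sr (f i))) t C.tt hn := by
    refine sup_le (fun y hy => ?_) (le_sup_right.trans le_Two)
    rcases (mem_SE_iff D C N hz hz1 hzs hzs1 Y hcl).1 hy with h1 | h1
    · exact Or.inl (Subgroup.mem_sup_left (V1_le_U h1))
    · exact Or.inr (Subgroup.mem_sup_left (V1_le_U h1))
  rcases hle hy with h1 | h1
  · exact inf_F D N h1 (by rw [← hP]; exact hyP)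
  · exfalso
    apply C.tK
    have h2 := mul_mem (inv_mem (P_le_K D N hP hyP)) (hFK h1)
    rwa [inv_mul_cancel_left] at h2

/-- **The clean case.** -/
theorem exists_clean (HK : KR t (Bf A) {x | IsRoot cs h x} X r P T) (hP : P = Lv cs h X f ⊔ Qr cs h X r)
    (Y : Syl K (RGD.Sup X (RGD.Pos cs h)) t z S m)
    (hcl : ∀ y ∈ S, y ∈ RGD.Sup X (RGD.Pos cs h) ∨ y * t ∈ RGD.Sup X (RGD.Pos cs h)) (ms : m * zs = zs * m) :
    ∃ c, c * t * c⁻¹ = t * z ∧ c * z = z * c ∧ (∀ x ∈ Uv cs h X f, c * x * c⁻¹ ∈ Uv cs h X f ⊔ Qr cs h X r) ∧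
      ∀ i, i ≠ κ → ∀ x ∈ X (-sr (f i)), c * x * c⁻¹ ∈ PF cs h X f i ⊔ Qr cs h X r := by
  obtain ⟨x0, hx0, hx01⟩ := exists_ne D.rgd (isRoot_sr cs h j)
  obtain ⟨x', hx', hx'1⟩ := exists_ne D.rgd (isRoot_sr cs h j).neg
  have R := rel D N (m := m) C.Kt Y.mz ms Y.mt hx' hx'1 hx0 hx01 hz hz1 hzs hzs1
  have hm : Gd t z m := gd_m Y
  have hm' := Gd.inv D HK hz hz1 hm
  have ms' : m⁻¹ * zs = zs * m⁻¹ := by
    rw [inv_mul_eq_iff_eq_mul, ← mul_assoc, ms, mul_inv_cancel_right]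
  -- the permutations of `m` and `m⁻¹`
  obtain ⟨σ, hσ, -, -⟩ := levi_sym D (Gd.act D N HK hP hz hz1 hm)
    (norm_U1 D N HK hP hz hz1 Y hm fun y hy => (Y.mS y).2 hy)
  obtain ⟨τ, hτ, -, -⟩ := levi_sym D (Gd.act D N HK hP hz hz1 hm')
    (norm_U1 D N HK hP hz hz1 Y hm' fun y hy => mS' Y hy)
  have hmN := m_mem_NE D C N HK hz hz1 hzs hzs1 Y
  have hσκ := sigma_kappa D N hz hz1 hzs hzs1 hmN hσ
  have hτκ := sigma_kappa D N hz hz1 hzs hzs1 (inv_mem hmN) hτ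
  have hστ : ∀ i, σ (τ i) = i := by
    intro i
    refine eq_of_le D N fun x hx => ?_
    have h1 := hτ i x (Subgroup.mem_sup_right hx)
    have hle : PF cs h X f (τ i) ⊔ Qr cs h X r ≤
        (PF cs h X f (σ (τ i)) ⊔ Qr cs h X r).comap (MulAut.conj m).toMonoidHom :=
      sup_le (hσ (τ i)) fun q hq => Subgroup.mem_sup_right (Gd.gQ D N HK hz hz1 hm q hq)
    have h2 : m * (m⁻¹ * x * m⁻¹⁻¹) * m⁻¹ ∈ PF cs h X f (σ (τ i)) ⊔ Qr cs h X r := hle h1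
    have e : m * (m⁻¹ * x * m⁻¹⁻¹) * m⁻¹ = x := by group
    rwa [e] at h2
  -- `S_E` and `M_i`
  have SEm : ∀ y ∈ SE S zs, m * y * m⁻¹ ∈ SE S zs := by
    intro y hy
    rw [mem_SE] at hy ⊢
    refine ⟨(Y.mS y).2 hy.1, ?_⟩
    calc m * y * m⁻¹ * zs = m * y * (m⁻¹ * zs) := by group
      _ = m * (y * zs) * m⁻¹ := by rw [ms']; group
      _ = (m * zs) * y * m⁻¹ := by rw [hy.2]; group
      _ = zs * (m * y * m⁻¹) := by rw [ms]; group
  have SEm' : ∀ y ∈ SE S zs, m⁻¹ * y * m⁻¹⁻¹ ∈ SE S zs := by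
    intro y hy
    rw [mem_SE] at hy ⊢
    refine ⟨mS' Y hy.1, ?_⟩
    calc m⁻¹ * y * m⁻¹⁻¹ * zs = m⁻¹ * y * (m * zs) := by group
      _ = m⁻¹ * (y * zs) * m := by rw [ms]; group
      _ = (m⁻¹ * zs) * y * m := by rw [hy.2]; group
      _ = zs * (m⁻¹ * y * m⁻¹⁻¹) := by rw [ms']; group
  have Mm : ∀ i, i ≠ κ → ∀ y ∈ Mi X f S zs i, m * y * m⁻¹ ∈ Mi X f S zs (σ i) := by
    intro i hi y hy
    have hi' : σ i ≠ κ := fun e => hi (σ.injective (e.trans hσκ.symm))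
    have hle : Mi X f S zs i ≤ (Mi X f S zs (σ i)).comap (MulAut.conj m).toMonoidHom := by
      refine sup_le (fun y hy => Subgroup.mem_sup_left (SEm y hy)) fun x hx => ?_
      refine PF_inf D C N hz hz1 hzs hzs1 Y hcl hi' (hσ i x (Subgroup.mem_sup_right hx)) ?_
      calc m * x * m⁻¹ * zs = m * x * (m⁻¹ * zs) := by group
        _ = m * (x * zs) * m⁻¹ := by rw [ms']; group
        _ = (m * zs) * x * m⁻¹ := by rw [neg_s D N hi hx hzs]; group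
        _ = zs * (m * x * m⁻¹) := by rw [ms]; group
    exact hle hy
  have Mm' : ∀ i, i ≠ κ → ∀ y ∈ Mi X f S zs i, m⁻¹ * y * m⁻¹⁻¹ ∈ Mi X f S zs (τ i) := by
    intro i hi y hy
    have hi' : τ i ≠ κ := fun e => hi (τ.injective (e.trans hτκ.symm))
    have hle : Mi X f S zs i ≤ (Mi X f S zs (τ i)).comap (MulAut.conj m⁻¹).toMonoidHom := by
      refine sup_le (fun y hy => Subgroup.mem_sup_left (SEm' y hy)) fun x hx => ?_
      refine PF_inf D C N hz hz1 hzs hzs1 Y hcl hi' (hτ i x (Subgroup.mem_sup_right hx)) ?_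
      calc m⁻¹ * x * m⁻¹⁻¹ * zs = m⁻¹ * x * (m * zs) := by group
        _ = m⁻¹ * (x * zs) * m := by rw [ms]; group
        _ = (m⁻¹ * zs) * x * m := by rw [neg_s D N hi hx hzs]; group
        _ = zs * (m⁻¹ * x * m⁻¹⁻¹) := by rw [ms']; group
    exact hle hy
  -- conjugation by `k` and `x'`
  have kinv : (x' * x0 * x')⁻¹ = x' * x0 * x' := R.k_inv
  have kc : ∀ H : Subgroup G, (∀ y ∈ H, x' * y * x'⁻¹ ∈ H) → (∀ y ∈ H, x0 * y * x0⁻¹ ∈ H) → ∀ y ∈ H,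
      (x' * x0 * x') * y * (x' * x0 * x')⁻¹ ∈ H := by
    intro H h1 h2 y hy
    rw [cc, cc]
    exact h1 _ (h2 _ (h1 _ hy))
  have kc' : ∀ H : Subgroup G, (∀ y ∈ H, x' * y * x'⁻¹ ∈ H) → (∀ y ∈ H, x0 * y * x0⁻¹ ∈ H) → ∀ y ∈ H,
      (x' * x0 * x')⁻¹ * y * (x' * x0 * x')⁻¹⁻¹ ∈ H := by
    intro H h1 h2 y hy
    have := kc H h1 h2 y hy
    rw [kinv]
    exact this
  refine ⟨(x' * x0 * x') * (x' * m * x'⁻¹ * m⁻¹) * (x' * x0 * x')⁻¹, R.trick_t, cof R.trick_z, ?_, ?_⟩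
  · intro x hx
    have hxS : x ∈ SE S zs := (mem_SE_iff D C N hz hz1 hzs hzs1 Y hcl).2 (Or.inl (Uv_le_V1 D N hx))
    have j1 : ∀ y ∈ SE S zs, x' * y * x'⁻¹ ∈ SE S zs := fun y hy =>
      conj_SE D C N hz hz1 hzs hzs1 Y hcl (Or.inr rfl) hx' hy
    have j0 : ∀ y ∈ SE S zs, x0 * y * x0⁻¹ ∈ SE S zs := fun y hy =>
      conj_SE D C N hz hz1 hzs hzs1 Y hcl (Or.inl rfl) hx0 hy
    have h1 : (x' * x0 * x') * (x' * m * x'⁻¹ * m⁻¹) * (x' * x0 * x')⁻¹ * x *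
        ((x' * x0 * x') * (x' * m * x'⁻¹ * m⁻¹) * (x' * x0 * x')⁻¹)⁻¹ ∈ SE S zs := by
      rw [cc, cc]
      refine kc _ j1 j0 _ ?_
      rw [cc, cc, cc, R.p_conj]
      exact j1 _ (SEm _ (j1 _ (SEm' _ (kc' _ j1 j0 _ hxS))))
    refine SP D N hP Y (mem_SE.1 h1).1 (Gd.gP D N HK hz hz1 ⟨cof R.trick_z, Or.inr R.trick_t⟩ x ?_)
    rw [hP]; exact Subgroup.mem_sup_left (Uv_le_Lv hx)
  · intro i hi x hx
    have hxM : x ∈ Mi X f S zs i := Subgroup.mem_sup_right hx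
    have j1 : ∀ i, i ≠ κ → ∀ y ∈ Mi X f S zs i, x' * y * x'⁻¹ ∈ Mi X f S zs i := fun i hi y hy =>
      conj_Mi D C N hz hz1 hzs hzs1 Y hcl hi (Or.inr rfl) hx' hy
    have j0 : ∀ i, i ≠ κ → ∀ y ∈ Mi X f S zs i, x0 * y * x0⁻¹ ∈ Mi X f S zs i := fun i hi y hy =>
      conj_Mi D C N hz hz1 hzs hzs1 Y hcl hi (Or.inl rfl) hx0 hy
    have hi' : τ i ≠ κ := fun e => hi (τ.injective (e.trans hτκ.symm))
    have h1 : (x' * x0 * x') * (x' * m * x'⁻¹ * m⁻¹) * (x' * x0 * x')⁻¹ * x *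
        ((x' * x0 * x') * (x' * m * x'⁻¹ * m⁻¹) * (x' * x0 * x')⁻¹)⁻¹ ∈ Mi X f S zs i := by
      rw [cc, cc]
      refine kc _ (j1 i hi) (j0 i hi) _ ?_
      rw [cc, cc, cc, R.p_conj]
      refine j1 i hi _ ?_
      have h2 := Mm (τ i) hi' _ (j1 (τ i) hi' _ (Mm' i hi _ (kc' _ (j1 i hi) (j0 i hi) _ hxM)))
      rwa [hστ] at h2
    refine Mi_inf D C N hP hz hz1 hzs hzs1 Y hcl h1 (Gd.gP D N HK hz hz1 ⟨cof R.trick_z, Or.inr R.trick_t⟩ x ?_)
    rw [hP]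
    exact Subgroup.mem_sup_left (PF_le i (Subgroup.mem_sup_right hx))

end Clean

/-! ### Outer elements -/

include hzs hzs1 C in
/-- an element of `S` outside `⟨t⟩ U` induces a nontrivial permutation of the diagram of `L` -/
theorem outer_ne_one (HK : KR t (Bf A) {x | IsRoot cs h x} X r P T) (hP : P = Lv cs h X f ⊔ Qr cs h X r)
    (hrest : ∀ b b', b ≠ j → (∀ i, f i ≠ b) → b' ≠ j → (∀ i, f i ≠ b') → b = b')
    (Y : Syl K (RGD.Sup X (RGD.Pos cs h)) t z S m) {g : G} (hg : g ∈ S)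
    (h1 : g ∉ RGD.Sup X (RGD.Pos cs h)) (h2 : g * t ∉ RGD.Sup X (RGD.Pos cs h))
    (hσ : ∀ i, ∀ x ∈ X (-sr (f i)), g * x * g⁻¹ ∈ PF cs h X f i ⊔ Qr cs h X r) : False := by
  have hgK : ∀ k ∈ K, g * k * g⁻¹ ∈ K := fun k hk => C.nrm g (Y.St g hg) k hk
  have hgU : ∀ x ∈ RGD.Sup X (RGD.Pos cs h), g * x * g⁻¹ ∈ RGD.Sup X (RGD.Pos cs h) := fun x hx =>
    Y.SK _ (mul_mem (mul_mem hg (Y.US hx)) (inv_mem hg)) (hgK x (U_le_K D hx))
  obtain ⟨τ, hτ1, hτ2, -⟩ := K_sym D hgK hgU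
  have hf : ∀ i, τ (f i) = f i := by
    intro i
    refine hτ2 _ _ fun x hx => ?_
    exact (sup_le (sup_le_sup_right Uv_le_U _) ((Q_le_U D N).trans le_sup_left) :
      PF cs h X f i ⊔ Qr cs h X r ≤ RGD.Sup X (RGD.Pos cs h) ⊔ X (-sr (f i))) (hσ i x hx)
  have hj : τ j = j := by
    by_contra hne
    obtain ⟨x', hx', hx'1⟩ := exists_ne D.rgd (isRoot_sr cs h j).neg
    have h3 := hτ1 j x' (Subgroup.mem_sup_right hx')
    have hle : RGD.Sup X (RGD.Pos cs h) ⊔ X (-sr (τ j)) ≤ Subgroup.centralizer ({z} : Set G) := by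
      refine sup_le (fun y hy => ?_) fun y hy => ?_
      · rw [Subgroup.mem_centralizer_singleton_iff]; exact U_r D N hy hz
      · rw [Subgroup.mem_centralizer_singleton_iff]
        exact (rg D).pos _ (isRoot_sr cs h _).neg _ N.hr (by
          rw [(roots cs h D.h4 D.h6).neg_left, N.di _ hne, neg_zero]) y hy z hz
    have h4 := Subgroup.mem_centralizer_singleton_iff.1 (hle h3)
    have h5 := Y.Sz g hg
    have h6 : x' * z = z * x' := by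
      have h7 : g⁻¹ * z = z * g⁻¹ := by
        rw [inv_mul_eq_iff_eq_mul, ← mul_assoc, h5, mul_inv_cancel_right]
      calc x' * z = g⁻¹ * (g * x' * g⁻¹) * (g * z) := by group
        _ = g⁻¹ * ((g * x' * g⁻¹) * z) * g := by rw [h5]; group
        _ = (g⁻¹ * z) * g * x' * g⁻¹ * g := by rw [h4]; group
        _ = z * x' := by rw [h7]; group
    have h7 := rel_pz D N hx' hx'1 hz hz1 hzs hzs1
    rw [fix h6] at h7
    exact hzs1 (mul_eq_right.1 h7.symm)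
  have hτ : ∀ b, τ b = b := by
    intro b
    by_cases hb1 : ∃ i, f i = b
    · obtain ⟨i, rfl⟩ := hb1; exact hf i
    by_cases hb2 : b = j
    · rw [hb2, hj]
    push Not at hb1
    by_contra hne
    have hb3 : τ b ≠ j := fun e => hb2 (τ.injective (e.trans hj.symm))
    have hb4 : ∀ i, f i ≠ τ b := fun i e => hb1 i (τ.injective ((hf i).trans e))
    exact hne (hrest _ _ hb3 hb4 hb2 hb1)
  obtain ⟨u, hu, e⟩ := K_inner D hgK hgU fun i x hx => by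
    have := hτ1 i x (Subgroup.mem_sup_right hx)
    rwa [hτ i] at this
  have huK := U_le_K D hu
  have hut : t * u = u * t := C.Kt u huK
  have hut' : u⁻¹ * t = t * u⁻¹ := by
    rw [inv_mul_eq_iff_eq_mul, ← mul_assoc, ← hut, mul_inv_cancel_right]
  rcases C.cK (u⁻¹ * g) (by
    rw [mul_assoc, Y.St g hg, ← mul_assoc, hut', mul_assoc]) (fun l hl => by
    have e1 := e l hl
    calc u⁻¹ * g * l = u⁻¹ * (g * l * g⁻¹) * g := by group
      _ = l * (u⁻¹ * g) := by rw [e1]; group) with h3 | h3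
  · apply h1
    have : g = u := (inv_mul_eq_one.1 h3).symm
    rw [this]; exact hu
  · apply h2
    have : g = u * t := by rw [← h3]; group
    rw [this, mul_assoc, C.tt, mul_one]; exact hu

include hzs hzs1 C in
/-- an element `m` of the normaliser of `S` centralising `z'` -/
theorem exists_adj (HK : KR t (Bf A) {x | IsRoot cs h x} X r P T)
    (Y : Syl K (RGD.Sup X (RGD.Pos cs h)) t z S m) : ∃ m', Syl K (RGD.Sup X (RGD.Pos cs h)) t z S m' ∧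
      m' * zs = zs * m' := by
  rcases (mem_NE.1 (m_mem_NE D C N HK hz hz1 hzs hzs1 Y)).2 with h1 | h1
  · exact ⟨m, Y, cof h1⟩
  · obtain ⟨x0, hx0, hx1⟩ := exists_ne D.rgd (isRoot_sr cs h j)
    have hx0S : x0 ∈ S := Y.US (X_le_U (isRoot_sr cs h j) (sr_nonneg j) hx0)
    refine ⟨m * x0, ⟨Y.US, Y.SK, Y.tS, Y.St, Y.Sz, fun y => ?_, ?_, ?_⟩, cof ?_⟩
    · rw [cc, Y.mS]
      constructor
      · intro h2
        have := mul_mem (mul_mem (inv_mem hx0S) h2) hx0S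
        have e : x0⁻¹ * (x0 * y * x0⁻¹) * x0 = y := by group
        rwa [e] at this
      · exact fun h2 => mul_mem (mul_mem hx0S h2) (inv_mem hx0S)
    · rw [cc, fix (Y.St x0 hx0S), Y.mt]
    · rw [mul_assoc, Y.Sz x0 hx0S, ← mul_assoc, Y.mz, mul_assoc]
    · rw [cc, rel_os D N hx0 hx1 hz hz1 hzs hzs1, cm m, h1, fix Y.mz, mul_assoc, pow_two_X D N.hr hz, mul_one]

include C in
/-- **The action on `L Q / Q`.** -/
theorem exists_inner (HK : KR t (Bf A) {x | IsRoot cs h x} X r P T) (hP : P = Lv cs h X f ⊔ Qr cs h X r)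
    (hrest : ∀ b b', b ≠ j → (∀ i, f i ≠ b) → b' ≠ j → (∀ i, f i ≠ b') → b = b')
    (haut : ∀ σ τ : Equiv.Perm J, (∀ i k, M (f (σ i)) (f (σ k)) = M (f i) (f k)) → σ κ = κ →
      (∀ i k, M (f (τ i)) (f (τ k)) = M (f i) (f k)) → τ κ = κ → σ ≠ 1 → τ ≠ 1 → σ = τ)
    (Y : Syl K (RGD.Sup X (RGD.Pos cs h)) t z S m) :
    ∃ c, c * t * c⁻¹ = t * z ∧ c * z = z * c ∧
      ∃ u ∈ Uv cs h X f, ∀ l ∈ Lv cs h X f, ∃ q ∈ Qr cs h X r, c * l * c⁻¹ = (u * l * u⁻¹) * q := by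
  obtain ⟨zs, hzs, hzs1⟩ := exists_ne D.rgd (hs D.h4 D.h6 N)
  obtain ⟨m, Y, ms⟩ := exists_adj D C N hz hz1 hzs hzs1 HK Y
  have hm : Gd t z m := gd_m Y
  have hmN := m_mem_NE D C N HK hz hz1 hzs hzs1 Y
  have hmU := norm_U1 D N HK hP hz hz1 Y hm fun y hy => (Y.mS y).2 hy
  obtain ⟨σ, hσ, hσ2, hσM⟩ := levi_sym D (Gd.act D N HK hP hz hz1 hm) hmU
  have hσκ := sigma_kappa D N hz hz1 hzs hzs1 hmN hσ
  -- the end
  have fin : ∀ c, c * t * c⁻¹ = t * z → c * z = z * c →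
      (∀ x ∈ Uv cs h X f, c * x * c⁻¹ ∈ Uv cs h X f ⊔ Qr cs h X r) →
      (∀ i, ∀ x ∈ X (-sr (f i)), c * x * c⁻¹ ∈ PF cs h X f i ⊔ Qr cs h X r) →
      ∃ c, c * t * c⁻¹ = t * z ∧ c * z = z * c ∧
      ∃ u ∈ Uv cs h X f, ∀ l ∈ Lv cs h X f, ∃ q ∈ Qr cs h X r, c * l * c⁻¹ = (u * l * u⁻¹) * q := by
    intro c ct cz cU cP
    exact ⟨c, ct, cz, levi_inner D (Gd.act D N HK hP hz hz1 ⟨cz, Or.inr ct⟩) cU cP⟩
  by_cases hσ1 : σ = 1
  · refine fin m Y.mt Y.mz hmU fun i x hx => ?_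
    have := hσ i x (Subgroup.mem_sup_right hx)
    rwa [hσ1] at this
  by_cases hcl : ∀ y ∈ S, y ∈ RGD.Sup X (RGD.Pos cs h) ∨ y * t ∈ RGD.Sup X (RGD.Pos cs h)
  · obtain ⟨c, ct, cz, cU, cP⟩ := exists_clean D C N hz hz1 hzs hzs1 HK hP Y hcl ms
    obtain ⟨τ, hτ, hτ2, -⟩ := levi_sym D (Gd.act D N HK hP hz hz1 ⟨cz, Or.inr ct⟩) cU
    have h1 : ∀ i, i ≠ κ → τ i = i := fun i hi => hτ2 i i (cP i hi)
    have h2 : τ κ = κ := by
      by_contra hne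
      exact hne (τ.injective (h1 _ hne))
    refine fin c ct cz cU fun i x hx => ?_
    by_cases hi : i = κ
    · rw [hi] at hx ⊢
      have := hτ κ x (Subgroup.mem_sup_right hx)
      rwa [h2] at this
    · exact cP i hi x hx
  · push Not at hcl
    obtain ⟨g, hg, hg1, hg2⟩ := hcl
    have hgd : Gd t z g := gd_S Y hg
    have hgU := norm_U1 D N HK hP hz hz1 Y hgd fun y hy => mul_mem (mul_mem hg hy) (inv_mem hg)
    obtain ⟨τ, hτ, hτ2, hτM⟩ := levi_sym D (Gd.act D N HK hP hz hz1 hgd) hgU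
    have hτκ := sigma_kappa D N hz hz1 hzs hzs1 (S_le_NE D C N HK hz hz1 hzs hzs1 Y hg) hτ
    have hτ1 : τ ≠ 1 := by
      intro e
      refine outer_ne_one D C N hz hz1 hzs hzs1 HK hP hrest Y hg hg1 hg2 fun i x hx => ?_
      have := hτ i x (Subgroup.mem_sup_right hx)
      rwa [e] at this
    have e : τ = σ⁻¹ := by
      refine haut τ σ⁻¹ hτM hτκ (fun i k => ?_) ?_ hτ1 fun e => hσ1 (inv_eq_one.1 e)
      · have := hσM (σ⁻¹ i) (σ⁻¹ k)
        have e1 : ∀ i, σ (σ⁻¹ i) = i := σ.apply_symm_apply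
        rw [e1, e1] at this
        exact this.symm
      · rw [Equiv.Perm.inv_eq_iff_eq]; exact hσκ.symm
    refine fin (g * m) ?_ ?_ (fun x hx => ?_) fun i x hx => ?_
    · rw [cc, Y.mt, cm g, fix (Y.St g hg), fix (Y.Sz g hg)]
    · rw [mul_assoc, Y.mz, ← mul_assoc, Y.Sz g hg, mul_assoc]
    · rw [cc]
      have hle : Uv cs h X f ⊔ Qr cs h X r ≤
          (Uv cs h X f ⊔ Qr cs h X r).comap (MulAut.conj g).toMonoidHom :=
        sup_le hgU fun q hq => Subgroup.mem_sup_right (Gd.gQ D N HK hz hz1 hgd q hq)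
      exact hle (hmU x hx)
    · rw [cc]
      have hle : PF cs h X f (σ i) ⊔ Qr cs h X r ≤
          (PF cs h X f (τ (σ i)) ⊔ Qr cs h X r).comap (MulAut.conj g).toMonoidHom :=
        sup_le (hτ (σ i)) fun q hq => Subgroup.mem_sup_right (Gd.gQ D N HK hz hz1 hgd q hq)
      have h1 : g * (m * x * m⁻¹) * g⁻¹ ∈ PF cs h X f (τ (σ i)) ⊔ Qr cs h X r :=
        hle (hσ i x (Subgroup.mem_sup_right hx))
      have e1 : τ (σ i) = i := by
        rw [e]; exact σ.symm_apply_apply i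
      rwa [e1] at h1

end Cfsg.Agent.OddHalf.D7Ex.Tri
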