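import Cfsg.Agent.OddHalf.D7Ex.KData
import Cfsg.Agent.KFacts.RgdAutN

/-!
# ODD D7, simply laced `K`, `q = 2`: the facts on `K` in all of `C(t)` (helper57)

* `Fl t K` : `K ⊴ C(t)`, `C(t) ∩ C(K) = ⟨t⟩`, `t ∉ K` (outer automorphisms of `K` in `C(t)` are allowed);
* `T_eq_bot`, `eq_of_ne` : `T = 1`, `|X r| = 2`; `perfTwo` : `P = ⟨X b : (b, r) ≥ 0⟩` is perfect if every root
  orthogonal to `r` has a neighbour orthogonal to `r`; `k1` : (K1) in all of `C(t)`; `krTwo` : `KR`.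
-/

set_option autoImplicit false
set_option linter.unusedSectionVars false

namespace Cfsg.Agent.OddHalf.D7Ex.KTwo

open Cfsg.Agent.OddHalf.SL Cfsg.Agent.KFacts CoxeterSystem Cfsg.Agent.ChevalleyStructure.CoxeterGeom
  Cfsg.Agent.Tits.Roots Cfsg.Agent.Tits.Core
  Cfsg.Agent.Tits.RootComb Cfsg.Agent.Nodes.Comb Cfsg.Agent.Nodes.Reps Cfsg.Agent.Nodes.BNOf
  Cfsg.Agent.Nodes.Bruhat Cfsg.Agent.Nodes.Coroot Cfsg.Agent.OddHalf.SL.Index Cfsg.Agent.OddHalf.SL.OfRGD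
  Cfsg.Agent.OddHalf.SL.PreOf Cfsg.Agent.KFacts.RgdPar Cfsg.Agent.KFacts.RgdSL Cfsg.Agent.KFacts.RgdTI
  Cfsg.Agent.KFacts.RgdCent Cfsg.Agent.KFacts.RgdOdd Cfsg.Agent.KFacts.RgdEx Cfsg.Agent.KFacts.SLRow.Def
  Cfsg.Agent.OddHalf.SL.OfDatum Cfsg.Agent.OddHalf.D7Ex.KData Cfsg.Agent.Nodes.RGDLib
open scoped commutatorElement

/-- `K ⊴ C(t)`, `C(t) ∩ C(K) = ⟨t⟩`, `t ∉ K`. -/
structure Fl {G : Type*} [Group G] (t : G) (K : Subgroup G) : Prop where
  tt : t * t = 1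
  tK : t ∉ K
  Kt : ∀ k ∈ K, t * k = k * t
  nrm : ∀ g, g * t = t * g → ∀ u ∈ K, g * u * g⁻¹ ∈ K
  cK : ∀ g, g * t = t * g → (∀ u ∈ K, g * u = u * g) → g = 1 ∨ g = t

theorem Fl.of_clean {G : Type*} [Group G] {t : G} {K : Subgroup G} (C : Clean t K) : Fl t K :=
  ⟨C.tt, C.tK, C.Kt, C.nrm, C.cK⟩

variable {I W G : Type*} [Fintype I] [DecidableEq I] [Group W] [Group G] {M : CoxeterMatrix I}
  {cs : CoxeterSystem M W} {A : I → I → ℤ} {h : IsCartan M A} {T : Subgroup G} {n : I → G}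
  {X : (I → ℤ) → Subgroup G} {K : Subgroup G} {t : G}

variable [Finite W] [Finite G] (D : Datum K 2 cs h T n X)

include D

/-- `|X r| = 2` -/
theorem eq_of_ne {r : I → ℤ} (hr : IsRoot cs h r) {x y : G} (hx : x ∈ X r) (hy : y ∈ X r) (hx1 : x ≠ 1)
    (hy1 : y ≠ 1) : x = y := by
  have h1 := D.card r hr
  rw [Nat.card_eq_two_iff' (1 : ↥(X r))] at h1
  obtain ⟨z, -, hz⟩ := h1
  have e1 := hz ⟨x, hx⟩ (fun e => hx1 (congrArg Subtype.val e))
  have e2 := hz ⟨y, hy⟩ (fun e => hy1 (congrArg Subtype.val e))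
  exact congrArg Subtype.val (e1.trans e2.symm)

/-- `T = 1` -/
theorem T_eq_bot : T = ⊥ := by
  rw [Subgroup.eq_bot_iff_forall]
  intro g hg
  refine D.cent g hg fun b hb v hv => ?_
  by_cases hv1 : v = 1
  · rw [hv1, mul_one, one_mul]
  have h1 : g * v * g⁻¹ = v := eq_of_ne D hb (TX' D g hg b hb v hv) hv
    (fun e => hv1 (by rw [mul_inv_eq_one] at e; exact mul_eq_left.1 e)) hv1
  exact mul_inv_eq_iff_eq_mul.1 h1

/-- the root elements -/
theorem exists_z {r : I → ℤ} (hr : IsRoot cs h r) : ∃ z ∈ X r, z ≠ 1 ∧ ∀ x ∈ X r, x = 1 ∨ x = z := by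
  obtain ⟨z, hz, hz1⟩ := exists_ne D.rgd hr
  refine ⟨z, hz, hz1, fun x hx => ?_⟩
  by_cases hx1 : x = 1
  · exact Or.inl hx1
  · exact Or.inr (eq_of_ne D hr hx hz hx1 hz1)

/-- `K = ⟨X r⟩` -/
theorem LL_eq : RGD.Sup X {x | IsRoot cs h x} = K := D.gen

/-- `P` is perfect. -/
theorem perfTwo {r : I → ℤ} (hr : IsRoot cs h r)
    (hirr : ∀ b, IsRoot cs h b → Bf A b r = 0 → ∃ d, IsRoot cs h d ∧ Bf A d r = 0 ∧ Bf A b d = 1) :
    PR (Bf A) {x | IsRoot cs h x} X r ≤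
    ⁅PR (Bf A) {x | IsRoot cs h x} X r, PR (Bf A) {x | IsRoot cs h x} X r⁆ := by
  have hR := roots cs h D.h4 D.h6
  have key : ∀ b, IsRoot cs h b → 0 ≤ Bf A b r → (∃ d, IsRoot cs h d ∧ Bf A d r = 0 ∧ Bf A b d = 1) →
      X b ≤ ⁅PR (Bf A) {x | IsRoot cs h x} X r, PR (Bf A) {x | IsRoot cs h x} X r⁆ := by
    rintro b hb h0 ⟨d, hd, h3, h4⟩ y hy
    obtain ⟨p, hp, hp1⟩ := exists_ne D.rgd hd
    have h5 : Bf A d (b - d) = -1 := by rw [hR.sub_right, hR.symm d b, h4, hR.two d hd]; norm_num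
    obtain ⟨v, hv, e⟩ := (rg D).sur d hd (b - d) (hR.sub_mem hb hd h4) h5 p hp hp1 y (by rw [add_sub_cancel]; exact hy)
    rw [← e, ← commutatorElement_def]
    refine Subgroup.commutator_mem_commutator (le_PR X hd (by rw [h3]) hp)
      (le_PR X (hR.sub_mem hb hd h4) ?_ hv)
    rw [hR.sub_left, h3, sub_zero]; exact h0
  refine PR_le fun b hb h0 => ?_
  have h1 := hR.le b hb r hr
  rcases (show Bf A b r = 0 ∨ Bf A b r = 1 ∨ Bf A b r = 2 by omega) with h2 | h2 | h2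
  · exact key b hb h0 (hirr b hb h2)
  · exact key b hb h0 (exists_orth D hr (show b ∈ Ph1 (Bf A) {x | IsRoot cs h x} r from ⟨hb, h2⟩))
  · rw [hR.eq b hb r hr h2]
    exact ((rg D).XQQ hr).trans (Subgroup.commutator_mono ((rg D).QS_le_PR hr subset_rfl)
      ((rg D).QS_le_PR hr subset_rfl))

/-- `C_K(X r) = P` -/
theorem mem_PR {r : I → ℤ} (hr : IsRoot cs h r) {c z : G} (hz : z ∈ X r) (hz1 : z ≠ 1) (hc : c ∈ K)
    (hcX : c * z = z * c) : c ∈ PR (Bf A) {x | IsRoot cs h x} X r := by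
  have h1 := (lr D r hr).le_PS_of_comm (by rw [D.GG_eq]; exact hc) hz hz1 hcX
  unfold PS at h1
  rwa [T_eq_bot D, bot_sup_eq, sup_Ge D hr] at h1

variable (C : Fl t K)

include C

/-- **(K1) in all of `C(t)`** -/
theorem k1 {r : I → ℤ} (hr : IsRoot cs h r) {c : G} (hct : c * t = t * c)
    (hc : ∀ a, IsRoot cs h a → 1 ≤ Bf A a r → ∀ x ∈ X a, c * x = x * c) : c ∈ X r ∨ t * c ∈ X r := by
  have hR := roots cs h D.h4 D.h6
  -- the datum in `K`
  have hXK : ∀ x, IsRoot cs h x → X x ≤ K := fun x hx => D.XK hx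
  have hnK : ∀ i, n i ∈ K := fun i => by
    rw [← D.GG_eq]
    exact NN_le_GG D.rgd ⟨_, rp_simple cs D.rgd.nsys i⟩
  have R' := rgd_restrict D.rgd K hXK hnK
  have hG1 : RGD.Sup (fun x => (X x).subgroupOf K) {x | IsRoot cs h x} = ⊤ := by
    have h1 : RGD.Sup (fun x => (X x).subgroupOf K) {x | IsRoot cs h x} =
        (RGD.Sup X {x | IsRoot cs h x}).subgroupOf K :=
      (iSup_subgroupOf (K := K) (fun z : {x | IsRoot cs h x} => X z.1) (fun z => hXK z.1 z.2)).symm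
    rw [h1, D.gen]
    exact Subgroup.subgroupOf_self _
  -- the automorphism
  have hcN : c ∈ Subgroup.normalizer (K : Set G) := by
    rw [Subgroup.mem_normalizer_iff]
    intro k
    refine ⟨fun hk => C.nrm c hct k hk, fun hk => ?_⟩
    have hct' : c⁻¹ * t = t * c⁻¹ := by
      rw [inv_mul_eq_iff_eq_mul, ← mul_assoc, hct, mul_inv_cancel_right]
    have := C.nrm c⁻¹ hct' _ hk
    have e : c⁻¹ * (c * k * c⁻¹) * c⁻¹⁻¹ = k := by group
    rwa [e] at this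
  obtain ⟨α, hα⟩ : ∃ α : MulAut ↥K, ∀ k : ↥K, ((α k : ↥K) : G) = c * k * c⁻¹ :=
    ⟨K.normalizerMonoidHom ⟨c, hcN⟩, fun k => rfl⟩
  let f : (I → ℤ) →+ ℤ :=
    { toFun := fun a => Bf A a r
      map_zero' := hR.zero_left r
      map_add' := fun a b => hR.add_left a b r }
  have hf : ∀ a, f a = Bf A a r := fun a => rfl
  obtain ⟨z, hz, hz'⟩ := RgdAutN.autN R' hG1 (fun i a ha b hb => by
      have ha' : (a : G) ∈ X (sr i) := ha
      have hb' : (b : G) ∈ X (sr i) := hb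
      exact Subtype.ext ((rg D).pos _ (isRoot_sr cs h i) _ (isRoot_sr cs h i)
        (by rw [hR.two _ (isRoot_sr cs h i)]; norm_num) _ ha' _ hb')) f (S := {r}) (by
      rintro _ rfl
      obtain ⟨b, hb, hb1⟩ := (rg D).one _ hr
      refine ⟨hr, b, _ - b, hb, hR.sub_mem hr hb (by rw [hR.symm]; exact hb1), ?_, ?_, by rw [add_sub_cancel]⟩
      · rw [hf, hb1]; norm_num
      · rw [hf, hR.sub_left, hR.two _ hr, hb1]; norm_num) (by
      intro g hg
      have hN : NoCent cs h T X := D.cent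
      have h1 := f3_rad (PreOf.sl (cs := cs) (h := h) D.h4 D.h6) hr (orth' D hr) D.rgd (lr D) hN
        (g := (g : G)) (by rw [D.GG_eq]; exact g.2) (fun a ha v hv => by
          have ha2 := ha.2
          rw [← bf_eq_cpr D.h4 D.h6 _ hr] at ha2
          have := hg a ha.1 (by rw [hf]; omega) ⟨v, D.XK ha.1 hv⟩ hv
          exact congrArg Subtype.val this)
      exact RGD.le_Sup (X := fun x => (X x).subgroupOf K) (S := {r}) (z := r) (Set.mem_singleton r) h1) (α := α) (by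
      intro x hx hx0 v hv
      apply Subtype.ext
      rw [hα]
      have hv' : (v : G) ∈ X x := hv
      rw [hf] at hx0
      rw [hc x hx (by omega) _ hv', mul_inv_cancel_right])
  have hzr : (z : G) ∈ X r := by
    have : RGD.Sup (fun x => (X x).subgroupOf K) {r} ≤ (X r).subgroupOf K := RGD.Sup_le fun x hx => by
      rw [Set.mem_singleton_iff] at hx
      rw [hx]
    exact this hz
  -- `z⁻¹ c` centralises `K`
  have hzt : (z : G) * t = t * z := (C.Kt z z.2).symm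
  have h1 := C.cK ((z : G)⁻¹ * c) (by
    have : (z : G)⁻¹ * t = t * (z : G)⁻¹ := by
      rw [inv_mul_eq_iff_eq_mul, ← mul_assoc, hzt, mul_inv_cancel_right]
    rw [mul_assoc, hct, ← mul_assoc, this, mul_assoc]) (fun u hu => by
    have e1 : c * u * c⁻¹ = z * u * (z : G)⁻¹ := by
      have e2 := hα ⟨u, hu⟩
      rw [hz'] at e2
      exact e2.symm
    calc (z : G)⁻¹ * c * u = (z : G)⁻¹ * (c * u * c⁻¹) * c := by group
      _ = u * ((z : G)⁻¹ * c) := by rw [e1]; group)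
  rcases h1 with h1 | h1
  · left
    have : c = z := by
      calc c = z * ((z : G)⁻¹ * c) := by group
        _ = z := by rw [h1, mul_one]
    rw [this]; exact hzr
  · right
    have : c = z * t := by
      calc c = z * ((z : G)⁻¹ * c) := by group
        _ = z * t := by rw [h1]
    rw [this, hzt, ← mul_assoc, C.tt, one_mul]
    exact hzr

omit C in
/-- a perfect subgroup of `C(t)` is mapped into `C_K(X r)` by the elements normalising `X r` and `t X r` -/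
theorem conj_le_PR (tt : t * t = 1)
    (hs : ∀ P' : Subgroup G, (∀ x ∈ P', x * t = t * x) → P' ≤ ⁅P', P'⁆ → P' ≤ K) {r : I → ℤ} (hr : IsRoot cs h r)
    {P : Subgroup G} (hP : P ≤ CC t (X r)) (perf : P ≤ ⁅P, P⁆) {g : G} (hX : ∀ x ∈ X r, g * x * g⁻¹ ∈ X r)
    (ht : t * (g * t * g⁻¹) ∈ X r) :
    P.map (MulAut.conj g).toMonoidHom ≤ PR (Bf A) {x | IsRoot cs h x} X r := by
  have h1 : P.map (MulAut.conj g).toMonoidHom ≤ CC t (X r) := by
    rintro _ ⟨p, hp, rfl⟩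
    exact conj_CC tt hX ht (hP hp)
  have h2 : P.map (MulAut.conj g).toMonoidHom ≤
      ⁅P.map (MulAut.conj g).toMonoidHom, P.map (MulAut.conj g).toMonoidHom⁆ := by
    rw [← Subgroup.map_commutator]
    exact Subgroup.map_mono perf
  have h3 := hs _ (fun x hx => (mem_CC.1 (h1 hx)).1) h2
  obtain ⟨z, hz, hz1, -⟩ := exists_z D hr
  intro x hx
  exact mem_PR D hr hz hz1 (h3 hx) ((mem_CC.1 (h1 hx)).2 z hz)

/-- **`KR` for `q = 2`, in all of `C(t)`** -/
theorem krTwo (hs : ∀ P' : Subgroup G, (∀ x ∈ P', x * t = t * x) → P' ≤ ⁅P', P'⁆ → P' ≤ K)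
    {r : I → ℤ} (hr : IsRoot cs h r)
    (hirr : ∀ b, IsRoot cs h b → Bf A b r = 0 → ∃ d, IsRoot cs h d ∧ Bf A d r = 0 ∧ Bf A b d = 1) :
    KR t (Bf A) {x | IsRoot cs h x} X r (PR (Bf A) {x | IsRoot cs h x} X r) T := by
  have tX : ∀ a ∈ {x | IsRoot cs h x}, ∀ x ∈ X a, t * x = x * t := fun a ha x hx => C.Kt x (D.XK ha hx)
  have hPK : PR (Bf A) {x | IsRoot cs h x} X r ≤ K := PR_le fun b hb _ => D.XK hb
  have hPC : PR (Bf A) {x | IsRoot cs h x} X r ≤ CC t (X r) := fun p hp => by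
    rw [mem_CC]
    exact ⟨(C.Kt p (hPK hp)).symm, fun x hx => ((rg D).XP hr hx hp).symm⟩
  have hT := T_eq_bot D
  refine ⟨rg D, hr, pg D hr, C.tt, tX, fun ht => C.tK (D.XK hr ht), fun g hg => C.Kt g (D.TK hg),
    fun g hg => TX' D g hg r hr, TP' D, ?_, ?_, perfTwo D hr hirr, ?_, ?_⟩
  · intro g hg k hk
    rw [hT, Subgroup.mem_bot] at hg hk
    rw [hg, hk]
  · intro c hct hc
    exact k1 D C hr hct.symm fun a ha h1 x hx => hc x (le_PR X ha (by omega) hx)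
  · intro g hX ht p hp
    exact conj_le_PR D C.tt hs hr hPC (perfTwo D hr hirr) hX ht ⟨p, hp, rfl⟩
  · intro R' hR' h2 hn
    have : Fact (Nat.Prime 2) := ⟨Nat.prime_two⟩
    refine (core_le D.rgd hr (D := R') ?_ h2 ?_).trans (sup_Rad_le D hr)
    · rw [D.GG_eq]; exact hR'.trans hPK
    · intro u hu
      rw [sup_Ge D hr] at hu
      apply le_antisymm
      · rintro _ ⟨x, hx, rfl⟩
        exact hn u hu x hx
      · intro x hx
        have := hn u⁻¹ (inv_mem hu) x hx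
        rw [mem_cj]
        rwa [inv_inv] at this

end Cfsg.Agent.OddHalf.D7Ex.KTwo
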