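import Cfsg.Agent.OddHalf.D7Ex.One

/-!
# The doubled root group for `q > 2`: the kernel of the norm
-/

set_option autoImplicit false
set_option linter.style.haveILetI false

namespace Cfsg.Agent.OddHalf.D7Ex

open Subgroup

section norm

variable {A : Type*} [CommGroup A]

/-- The norm of an endomorphism. -/
def nrm (α : A →* A) (m : ℕ) : A →* A where
  toFun a := ∏ i ∈ Finset.range m, (α^[i]) a
  map_one' := Finset.prod_eq_one fun i _ => by
    induction i with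
    | zero => rfl
    | succ i ih => rw [Function.iterate_succ_apply, map_one]; exact ih (by
        rw [Finset.mem_range] at *; omega)
  map_mul' a b := by
    rw [← Finset.prod_mul_distrib]
    refine Finset.prod_congr rfl fun i _ => ?_
    exact iterate_map_mul α i a b

theorem nrm_apply (α : A →* A) (m : ℕ) (a : A) : nrm α m a = ∏ i ∈ Finset.range m, (α^[i]) a := rfl

theorem map_nrm (α : A →* A) {m : ℕ} (hm : ∀ a, (α^[m]) a = a) (a : A) : α (nrm α m a) = nrm α m a := by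
  rw [nrm_apply, map_prod]
  have h1 : ∏ i ∈ Finset.range m, α ((α^[i]) a) = ∏ i ∈ Finset.range m, (α^[i + 1]) a :=
    Finset.prod_congr rfl fun i _ => by rw [Function.iterate_succ_apply']
  rw [h1]
  have h2 := Finset.prod_range_succ' (fun i => (α^[i]) a) m
  have h3 := Finset.prod_range_succ (fun i => (α^[i]) a) m
  rw [h3] at h2
  have h4 : (α^[m]) a = (α^[0]) a := hm a
  rw [h4] at h2
  exact (mul_right_cancel h2).symm

theorem nrm_fixed (α : A →* A) (m : ℕ) {a : A} (ha : α a = a) : nrm α m a = a ^ m := by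
  rw [nrm_apply]
  have : ∀ i, (α^[i]) a = a := fun i => Function.iterate_fixed ha i
  simp only [this, Finset.prod_const, Finset.card_range]

theorem nrm_comm (α β : A →* A) (m : ℕ) (h : ∀ a, β (α a) = α (β a)) (a : A) : β (nrm α m a) = nrm α m (β a) := by
  rw [nrm_apply, map_prod, nrm_apply]
  refine Finset.prod_congr rfl fun i _ => ?_
  induction i with
  | zero => rfl
  | succ i ih =>
    rw [Function.iterate_succ_apply', Function.iterate_succ_apply', h, ih (by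
      rw [Finset.mem_range] at *; omega)]

end norm

variable {G : Type*} [Group G] {t : G} {X P : Subgroup G}

namespace Cent

/-- `X` inside `BG`. -/
def Xs (S : Cent t X P) : Subgroup S.BG := X.subgroupOf S.BG

instance Xs_normal (S : Cent t X P) : S.Xs.Normal := ⟨by
  rintro ⟨x, hxB⟩ hx ⟨b, hb⟩
  have hx' : x ∈ X := hx
  show b * x * b⁻¹ ∈ X
  rw [S.BX hb hx', mul_inv_cancel_right]
  exact hx'⟩

/-- The elementary abelian group `BG / X`. -/
abbrev Qt (S : Cent t X P) := S.BG ⧸ S.Xs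

instance comm_Qt (S : Cent t X P) : CommGroup S.Qt where
  mul_comm := by
    intro a b
    induction a using QuotientGroup.induction_on with
    | H a =>
    induction b using QuotientGroup.induction_on with
    | H b =>
    rw [← QuotientGroup.mk_mul, ← QuotientGroup.mk_mul, eq_comm, QuotientGroup.eq]
    show (((b : G) * (a : G))⁻¹ * ((a : G) * (b : G))) ∈ X
    have h1 := S.comm_mem (inv_mem a.2) (inv_mem b.2)
    have e : ((b : G) * a)⁻¹ * (a * b) = (a : G)⁻¹ * (b : G)⁻¹ * (a : G)⁻¹⁻¹ * (b : G)⁻¹⁻¹ := by group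
    rw [e]; exact h1

/-- Conjugation by a nice element. -/
def cB (S : Cent t X P) {h k : G} (hk : Nice t X P h k) : S.BG →* S.BG where
  toFun b := ⟨k * b * k⁻¹, S.nice_BG hk b.2⟩
  map_one' := Subtype.ext (by show k * 1 * k⁻¹ = 1; group)
  map_mul' a b := Subtype.ext (by
    show k * (a * b) * k⁻¹ = k * a * k⁻¹ * (k * b * k⁻¹)
    group)

/-- The induced map on `BG / X`. -/
def cQ (S : Cent t X P) {h k : G} (hk : Nice t X P h k) : S.Qt →* S.Qt :=
  QuotientGroup.map S.Xs S.Xs (S.cB hk) (by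
    rintro ⟨b, hb⟩ hbX
    exact (hk.kX b).1 hbX)

theorem cQ_mk (S : Cent t X P) {h k : G} (hk : Nice t X P h k) (b : S.BG) :
    S.cQ hk (b : S.Qt) = ((S.cB hk b : S.BG) : S.Qt) := rfl

theorem mk_eq_one (S : Cent t X P) (b : S.BG) : ((b : S.Qt) = 1) ↔ (b : G) ∈ X := by
  rw [QuotientGroup.eq_one_iff]; rfl

theorem cQ_comm (S : Cent t X P) {h k : G} (hh : Nice t X P h h) (hk : Nice t X P h k) (a : S.Qt) :
    S.cQ hk (S.cQ hh a) = S.cQ hh (S.cQ hk a) := by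
  induction a using QuotientGroup.induction_on with
  | H a =>
  rw [cQ_mk, cQ_mk, cQ_mk, cQ_mk]
  congr 1
  apply Subtype.ext
  show k * (h * a * h⁻¹) * k⁻¹ = h * (k * a * k⁻¹) * h⁻¹
  have h1 := S.nice_BG hh (S.nice_BG hk a.2)
  have h2 := h1.1 _ hk.kh
  calc k * (h * a * h⁻¹) * k⁻¹
      = (k * h * k⁻¹ * h⁻¹) * (h * (k * a * k⁻¹) * h⁻¹) * (k * h * k⁻¹ * h⁻¹)⁻¹ := by group
    _ = h * (k * a * k⁻¹) * h⁻¹ := by rw [← h2, mul_inv_cancel_right]

/-- The kernel of the norm. -/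
def Wbig (S : Cent t X P) {h : G} (hh : Nice t X P h h) (m : ℕ) : Subgroup G :=
  (((nrm (S.cQ hh) m).comp (QuotientGroup.mk' S.Xs)).ker).map S.BG.subtype

theorem mem_Wbig (S : Cent t X P) {h : G} (hh : Nice t X P h h) (m : ℕ) {w : G} :
    w ∈ S.Wbig hh m ↔ ∃ hw : w ∈ S.BG, nrm (S.cQ hh) m ((⟨w, hw⟩ : S.BG) : S.Qt) = 1 := by
  constructor
  · rintro ⟨⟨w, hw⟩, h1, rfl⟩
    exact ⟨hw, h1⟩
  · rintro ⟨hw, h1⟩
    exact ⟨⟨w, hw⟩, h1, rfl⟩

theorem iterate_cQ (S : Cent t X P) {h : G} (hh : Nice t X P h h) (i : ℕ) (b : S.BG) :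
    ∃ hb : h ^ i * (b : G) * (h ^ i)⁻¹ ∈ S.BG,
      ((S.cQ hh)^[i]) (b : S.Qt) = ((⟨h ^ i * b * (h ^ i)⁻¹, hb⟩ : S.BG) : S.Qt) := by
  induction i with
  | zero =>
    refine ⟨by simp, ?_⟩
    show (b : S.Qt) = _
    congr 1
    exact Subtype.ext (by simp)
  | succ i ih =>
    obtain ⟨hb, e⟩ := ih
    have e1 : h * (h ^ i * (b : G) * (h ^ i)⁻¹) * h⁻¹ = h ^ (i + 1) * b * (h ^ (i + 1))⁻¹ := by
      rw [pow_succ']; group
    refine ⟨e1 ▸ S.nice_BG hh hb, ?_⟩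
    rw [Function.iterate_succ_apply', e, cQ_mk]
    congr 1
    exact Subtype.ext e1

theorem nrm_t (S : Cent t X P) {h : G} (hh : Nice t X P h h) {m : ℕ} (hm : Odd m) :
    nrm (S.cQ hh) m ((⟨t, S.t_mem⟩ : S.BG) : S.Qt) = ((⟨t, S.t_mem⟩ : S.BG) : S.Qt) := by
  rw [nrm_fixed]
  · obtain ⟨k, rfl⟩ := hm
    have h1 : ((⟨t, S.t_mem⟩ : S.BG) : S.Qt) ^ 2 = 1 := by
      rw [← QuotientGroup.mk_pow, S.mk_eq_one]
      show t ^ 2 ∈ X
      rw [pow_two, S.tt]; exact one_mem _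
    rw [pow_add, pow_mul, h1, one_pow, one_mul, pow_one]
  · rw [cQ_mk]
    congr 1
    apply Subtype.ext
    show h * t * h⁻¹ = t
    rw [hh.kt, mul_inv_cancel_right]

/-- The norm takes the values `1` and `t`. -/
theorem nrm_val (S : Cent t X P) {h : G} (hh : Nice t X P h h) {m : ℕ} (hm : h ^ m = 1)
    (hf : ∀ x ∈ X, h * x * h⁻¹ = x → x = 1) (b : S.BG) :
    nrm (S.cQ hh) m (b : S.Qt) = 1 ∨ nrm (S.cQ hh) m (b : S.Qt) = ((⟨t, S.t_mem⟩ : S.BG) : S.Qt) := by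
  have hα : ∀ a : S.Qt, ((S.cQ hh)^[m]) a = a := by
    intro a
    induction a using QuotientGroup.induction_on with
    | H a =>
    obtain ⟨hb, e⟩ := S.iterate_cQ hh m a
    rw [e]
    congr 1
    apply Subtype.ext
    show h ^ m * a * (h ^ m)⁻¹ = a
    rw [hm, one_mul, inv_one, mul_one]
  have h1 := map_nrm (S.cQ hh) hα (b : S.Qt)
  obtain ⟨⟨c, hc⟩, hcn⟩ := QuotientGroup.mk_surjective (nrm (S.cQ hh) m (b : S.Qt))
  rw [← hcn] at h1 ⊢
  rw [cQ_mk, eq_comm, QuotientGroup.eq] at h1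
  have h2 : c⁻¹ * (h * c * h⁻¹) ∈ X := h1
  -- `d c` is fixed by `h`
  have h3 : h * c * h⁻¹ ∈ S.BG := S.nice_BG hh hc
  have h4 : t * ((h * c * h⁻¹) * t * (h * c * h⁻¹)⁻¹) = t * (c * t * c⁻¹) := by
    have e : h * c * h⁻¹ = c * (c⁻¹ * (h * c * h⁻¹)) := by group
    rw [e, S.d_mul hc (S.X_le h2), S.d_eq_one.2 (S.tx h2), mul_one]
  have h5 : h * (t * (c * t * c⁻¹)) * h⁻¹ = t * (c * t * c⁻¹) := by
    refine Eq.trans ?_ h4
    have e1 : h⁻¹ * t * h = t := by rw [mul_assoc, ← hh.kt, inv_mul_cancel_left]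
    calc h * (t * (c * t * c⁻¹)) * h⁻¹ = (h * t) * c * t * c⁻¹ * h⁻¹ := by group
      _ = (t * h) * c * (h⁻¹ * t * h) * c⁻¹ * h⁻¹ := by rw [e1, hh.kt]
      _ = _ := by group
  have h6 := S.d_eq_one.1 (hf _ hc.2 h5)
  rcases S.cP c h6 hc.1 with h7 | h7
  · left
    exact (S.mk_eq_one _).2 h7
  · right
    rw [QuotientGroup.eq]
    show c⁻¹ * t ∈ X
    have h8 := inv_mem h7
    rwa [mul_inv_rev, S.t_inv] at h8

theorem isDbl_big (S : Cent t X P) {h : G} (hh : Nice t X P h h) {m : ℕ} (hm : h ^ m = 1) (hodd : Odd m)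
    (hf : ∀ x ∈ X, h * x * h⁻¹ = x → x = 1) : IsDbl t X P (S.Wbig hh m) where
  XW := fun x hx => by
    rw [S.mem_Wbig]
    refine ⟨S.X_le hx, ?_⟩
    rw [(S.mk_eq_one ⟨x, S.X_le hx⟩).2 hx, map_one]
  WP := fun w hw => by
    obtain ⟨h1, -⟩ := (S.mem_Wbig hh m).1 hw
    exact h1.1
  brk := fun w hw => by
    obtain ⟨h1, -⟩ := (S.mem_Wbig hh m).1 hw
    rw [S.d_eq h1]; exact h1.2
  cent := fun w hw hc => by
    obtain ⟨h1, h2⟩ := (S.mem_Wbig hh m).1 hw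
    rcases S.cP w hc h1.1 with h3 | h3
    · exact h3
    · exfalso
      have e : ((⟨w, h1⟩ : S.BG) : S.Qt) = ((⟨t, S.t_mem⟩ : S.BG) : S.Qt) := by
        rw [QuotientGroup.eq]
        show w⁻¹ * t ∈ X
        have h8 := inv_mem h3
        rwa [mul_inv_rev, S.t_inv] at h8
      rw [e, S.nrm_t hh hodd, S.mk_eq_one] at h2
      exact S.tX h2
  surj := by
    intro x hx
    obtain ⟨b, hb, hbt⟩ := S.ex x hx
    have hbB : b ∈ S.BG := ⟨hb, by rw [hbt, ← mul_assoc, S.tt, one_mul]; exact hx⟩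
    have hd : t * (b * t * b⁻¹) = x := by rw [hbt, ← mul_assoc, S.tt, one_mul]
    rcases S.nrm_val hh hm hf ⟨b, hbB⟩ with h1 | h1
    · exact ⟨b, (S.mem_Wbig hh m).2 ⟨hbB, h1⟩, by rw [S.d_eq hbB, hd]⟩
    · have hc := mul_mem S.t_mem hbB
      refine ⟨t * b, (S.mem_Wbig hh m).2 ⟨hc, ?_⟩, ?_⟩
      · have e : ((⟨t * b, hc⟩ : S.BG) : S.Qt) = ((⟨t, S.t_mem⟩ : S.BG) : S.Qt) * ((⟨b, hbB⟩ : S.BG) : S.Qt) := rfl
        rw [e, map_mul, h1, S.nrm_t hh hodd, ← QuotientGroup.mk_mul, S.mk_eq_one]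
        show t * t ∈ X
        rw [S.tt]; exact one_mem _
      · rw [S.d_eq hc, S.d_mul S.t_mem hbB, hd, S.d_eq_one.2 rfl, one_mul]

theorem nice_big (S : Cent t X P) {h : G} (hh : Nice t X P h h) (m : ℕ) {k : G} (hk : Nice t X P h k)
    {w : G} (hw : w ∈ S.Wbig hh m) : k * w * k⁻¹ ∈ S.Wbig hh m := by
  obtain ⟨h1, h2⟩ := (S.mem_Wbig hh m).1 hw
  refine (S.mem_Wbig hh m).2 ⟨S.nice_BG hk h1, ?_⟩
  have h3 := nrm_comm (S.cQ hh) (S.cQ hk) m (S.cQ_comm hh hk) ((⟨w, h1⟩ : S.BG) : S.Qt)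
  rw [h2, map_one] at h3
  exact h3.symm

end Cent

end Cfsg.Agent.OddHalf.D7Ex
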