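import Cfsg.Agent.OddHalf.D7Ex.MoveH
import Cfsg.Agent.OddHalf.SL.Defs

/-!
# The torus commutes with `C4` on `Q / X_r` (helper991)

`Φ` simply laced, `X` its root groups, `P = ⟨X_a : (a, r) ≥ 0⟩`, `Q = ⟨X_a : (a, r) ≥ 1⟩`, `β ⊥ r`. Let `h`, `κ` normalise
all root groups, `κ ∈ P`, `h = κ` on `X_c` for `(c, r) = (c, β) = 1` (e.g. `h = h_r(λ)`, `κ = h_β(λ)`). If `y` normalises
`Q`, `X_r` and is trivial on `P / Q` then `[h, y]` is trivial on `Q / X_r` (`comm_D`).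
The only input on the root system is `orth`.
-/

set_option autoImplicit false
set_option linter.unusedSectionVars false

namespace Cfsg.Agent.OddHalf.D7Ex.Vzero

open Subgroup Cfsg.Agent.OddHalf.SL.Defs

variable {L : Type*} [AddCommGroup L] {G : Type*} [Group G]

/-- The subgroup generated by the root groups of `S`. -/
def SX (X : L → Subgroup G) (S : Set L) : Subgroup G := ⨆ z : S, X z.1

theorem le_SX {X : L → Subgroup G} {S : Set L} {a : L} (ha : a ∈ S) : X a ≤ SX X S :=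
  le_iSup (fun z : S => X z.1) ⟨a, ha⟩

theorem SX_le {X : L → Subgroup G} {S : Set L} {H : Subgroup G} (hH : ∀ a ∈ S, X a ≤ H) : SX X S ≤ H :=
  iSup_le fun z => hH z.1 z.2

theorem SX_mono {X : L → Subgroup G} {S S' : Set L} (hS : S ⊆ S') : SX X S ≤ SX X S' :=
  SX_le fun _ ha => le_SX (hS ha)

/-- Root groups of a simply laced root system. -/
structure RG (B : L → L → ℤ) (Φ : Set L) (X : L → Subgroup G) : Prop where
  roots : Roots B Φ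
  pos : ∀ a ∈ Φ, ∀ b ∈ Φ, 0 ≤ B a b → ∀ x ∈ X a, ∀ y ∈ X b, x * y = y * x
  neg : ∀ a ∈ Φ, ∀ b ∈ Φ, B a b = -1 → ∀ x ∈ X a, ∀ y ∈ X b, x * y * x⁻¹ * y⁻¹ ∈ X (a + b)
  onto : ∀ a ∈ Φ, ∀ b ∈ Φ, B a b = -1 → ∀ y ∈ X b, y ≠ 1 → ∀ z ∈ X (a + b), ∃ x ∈ X a, x * y * x⁻¹ * y⁻¹ = z
  ne : ∀ a ∈ Φ, ∃ x ∈ X a, x ≠ 1

/-- roots `a` with `(a, r) ≥ 1` -/
def Qs (B : L → L → ℤ) (Φ : Set L) (r : L) : Set L := {a | a ∈ Φ ∧ 1 ≤ B a r}

/-- roots `a` with `(a, r) ≥ 0` -/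
def Ps (B : L → L → ℤ) (Φ : Set L) (r : L) : Set L := {a | a ∈ Φ ∧ 0 ≤ B a r}

theorem Qs_sub {B : L → L → ℤ} {Φ : Set L} {r : L} : Qs B Φ r ⊆ Ps B Φ r := fun _ ha => ⟨ha.1, le_trans (by norm_num) ha.2⟩

variable {B : L → L → ℤ} {Φ : Set L} {X : L → Subgroup G} {r : L}

theorem Q_le_P : SX X (Qs B Φ r) ≤ SX X (Ps B Φ r) := SX_mono Qs_sub

namespace RG

variable (R : RG B Φ X)

include R

/-- `X_r` is central in `P`. -/
theorem XP (hr : r ∈ Φ) {x : G} (hx : x ∈ X r) {p : G} (hp : p ∈ SX X (Ps B Φ r)) : x * p = p * x := by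
  have h1 : SX X (Ps B Φ r) ≤ centralizer ({x} : Set G) := by
    refine SX_le fun a ha y hy => ?_
    rw [mem_centralizer_singleton_iff]
    exact R.pos a ha.1 r hr ha.2 y hy x hx
  exact (mem_centralizer_singleton_iff.1 (h1 hp)).symm

/-- `[P, Q] ≤ Q`. -/
theorem PQ {p q : G} (hp : p ∈ SX X (Ps B Φ r)) (hq : q ∈ SX X (Qs B Φ r)) : p * q * p⁻¹ ∈ SX X (Qs B Φ r) := by
  have h1 : SX X (Ps B Φ r) ≤ normalizer ((SX X (Qs B Φ r) : Subgroup G) : Set G) := by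
    have key : ∀ a ∈ Ps B Φ r, ∀ x ∈ X a, ∀ q ∈ SX X (Qs B Φ r), x * q * x⁻¹ ∈ SX X (Qs B Φ r) := by
      intro a ha x hx q hq
      have h2 : SX X (Qs B Φ r) ≤ (SX X (Qs B Φ r)).comap (MulAut.conj x).toMonoidHom := by
        refine SX_le fun b hb y hy => ?_
        rw [mem_comap]
        show x * y * x⁻¹ ∈ SX X (Qs B Φ r)
        have hy' : y ∈ SX X (Qs B Φ r) := le_SX hb hy
        rcases lt_or_ge (B a b) 0 with h0 | h0
        · have hge := R.roots.ge ha.1 hb.1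
          rcases (show B a b = -1 ∨ B a b = -2 by omega) with h3 | h3
          · have h4 := R.neg a ha.1 b hb.1 h3 x hx y hy
            have h5 : a + b ∈ Qs B Φ r := ⟨R.roots.add a ha.1 b hb.1 h3, by
              rw [R.roots.add_left]; have := ha.2; have := hb.2; omega⟩
            have e : x * y * x⁻¹ = (x * y * x⁻¹ * y⁻¹) * y := by group
            rw [e]
            exact mul_mem (le_SX h5 h4) hy'
          · exfalso
            have h4 := R.roots.eq_neg ha.1 hb.1 h3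
            have h5 := ha.2
            rw [h4, R.roots.neg_left] at h5
            have := hb.2
            omega
        · rw [R.pos a ha.1 b hb.1 h0 x hx y hy, mul_inv_cancel_right]
          exact hy'
      exact h2 hq
    refine SX_le fun a ha x hx => ?_
    rw [mem_normalizer_iff]
    intro q
    refine ⟨fun hq => key a ha x hx q hq, fun hq => ?_⟩
    have h3 := key a ha x⁻¹ (inv_mem hx) _ hq
    have e : x⁻¹ * (x * q * x⁻¹) * x⁻¹⁻¹ = q := by group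
    rwa [e] at h3
  exact (mem_normalizer_iff.1 (h1 hp) q).1 hq

/-- a root of `Q` other than `r` -/
theorem eq_or {a : L} (hr : r ∈ Φ) (ha : a ∈ Qs B Φ r) : a = r ∨ B a r = 1 := by
  have h1 := R.roots.le a ha.1 r hr
  have h2 := ha.2
  rcases (show B a r = 1 ∨ B a r = 2 by omega) with h3 | h3
  · exact Or.inr h3
  · exact Or.inl (R.roots.eq a ha.1 r hr h3)

theorem sub_props (hr : r ∈ Φ) {b : L} (hb : b ∈ Φ) (hbr : B b r = 1) : r - b ∈ Φ ∧ B (r - b) r = 1 ∧ B b (r - b) = -1 := by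
  have h1 := R.roots.symm b r
  have h2 := R.roots.two r hr
  have h3 := R.roots.two b hb
  refine ⟨R.roots.sub_mem hr hb (by omega), ?_, ?_⟩
  · rw [R.roots.sub_left]; omega
  · rw [R.roots.sub_right]; omega

/-- commutation of `X_b` and `X_a` in `Q` -/
theorem comm_Q (hr : r ∈ Φ) {a b : L} (hb : b ∈ Φ) (hbr : B b r = 1) (ha : a ∈ Qs B Φ r) (hne : a ≠ r - b)
    {x v : G} (hx : x ∈ X b) (hv : v ∈ X a) : x * v = v * x := by
  have h0 : 0 ≤ B b a := by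
    by_contra hlt
    have hge := R.roots.ge hb ha.1
    rcases (show B b a = -1 ∨ B b a = -2 by omega) with h3 | h3
    · apply hne
      have h4 := R.roots.add b hb a ha.1 h3
      have h5 : B (b + a) r = 2 := by
        have h6 := R.roots.le _ h4 r hr
        have := ha.2
        rw [R.roots.add_left] at h6 ⊢
        omega
      have h6 := R.roots.eq _ h4 r hr h5
      rw [← h6]; abel
    · have h4 := R.roots.eq_neg hb ha.1 h3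
      have := ha.2
      rw [h4, R.roots.neg_left] at hbr
      omega
  exact R.pos b hb a ha.1 h0 x hx v hv

/-- `[X_b, v] ≤ X_r` and `[xb, v] = [xb, d]` for a `d ∈ X_{r-b}`. -/
theorem comp (hr : r ∈ Φ) {b : L} (hb : b ∈ Φ) (hbr : B b r = 1) {v : G} (hv : v ∈ SX X (Qs B Φ r)) :
    ∃ d ∈ X (r - b), ∀ x ∈ X b, x * v * x⁻¹ * v⁻¹ = x * d * x⁻¹ * d⁻¹ := by
  obtain ⟨s1, s2, s3⟩ := R.sub_props hr hb hbr
  have hmem : ∀ x ∈ X b, ∀ d ∈ X (r - b), x * d * x⁻¹ * d⁻¹ ∈ X r := by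
    intro x hx d hd
    have := R.neg b hb (r - b) s1 s3 x hx d hd
    rwa [add_sub_cancel] at this
  unfold SX at hv
  induction hv using Subgroup.iSup_induction' with
  | hp a v hv =>
    obtain ⟨a, ha⟩ := a
    by_cases hne : a = r - b
    · exact ⟨v, by rw [← hne]; exact hv, fun _ _ => rfl⟩
    · refine ⟨1, one_mem _, fun x hx => ?_⟩
      rw [R.comm_Q hr hb hbr ha hne hx hv]
      group
  | h1 => exact ⟨1, one_mem _, fun _ _ => rfl⟩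
  | hmul v w hv hw ih1 ih2 =>
    obtain ⟨d, hd, h1⟩ := ih1
    obtain ⟨e, he, h2⟩ := ih2
    refine ⟨d * e, mul_mem hd he, fun x hx => ?_⟩
    have c1 : (x * w * x⁻¹ * w⁻¹) * v⁻¹ = v⁻¹ * (x * w * x⁻¹ * w⁻¹) := by
      rw [h2 x hx]
      exact R.XP hr (hmem x hx e he) (Q_le_P (inv_mem hv))
    have c2 : (x * e * x⁻¹ * e⁻¹) * d⁻¹ = d⁻¹ * (x * e * x⁻¹ * e⁻¹) := by
      refine R.XP hr (hmem x hx e he) (inv_mem ?_)
      exact le_SX (show r - b ∈ Ps B Φ r from ⟨s1, by omega⟩) hd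
    calc x * (v * w) * x⁻¹ * (v * w)⁻¹ = x * v * x⁻¹ * ((x * w * x⁻¹ * w⁻¹) * v⁻¹) := by group
      _ = (x * v * x⁻¹ * v⁻¹) * (x * w * x⁻¹ * w⁻¹) := by rw [c1]; group
      _ = (x * d * x⁻¹ * d⁻¹) * (x * e * x⁻¹ * e⁻¹) := by rw [h1 x hx, h2 x hx]
      _ = x * d * x⁻¹ * (d⁻¹ * (x * e * x⁻¹ * e⁻¹)) := by group
      _ = x * (d * e) * x⁻¹ * (d * e)⁻¹ := by rw [← c2]; group

theorem comm_mem (hr : r ∈ Φ) {b : L} (hb : b ∈ Φ) (hbr : B b r = 1) {v x : G} (hv : v ∈ SX X (Qs B Φ r))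
    (hx : x ∈ X b) : x * v * x⁻¹ * v⁻¹ ∈ X r := by
  obtain ⟨s1, s2, s3⟩ := R.sub_props hr hb hbr
  obtain ⟨d, hd, h1⟩ := R.comp hr hb hbr hv
  rw [h1 x hx]
  have := R.neg b hb (r - b) s1 s3 x hx d hd
  rwa [add_sub_cancel] at this

/-- `[Q, Q] ≤ X_r` -/
theorem QQ (hr : r ∈ Φ) {v w : G} (hv : v ∈ SX X (Qs B Φ r)) (hw : w ∈ SX X (Qs B Φ r)) :
    v * w * v⁻¹ * w⁻¹ ∈ X r := by
  unfold SX at hv
  induction hv using Subgroup.iSup_induction' with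
  | hp a v hv =>
    obtain ⟨a, ha⟩ := a
    rcases R.eq_or hr ha with h1 | h1
    · subst h1
      rw [R.XP hr hv (Q_le_P hw)]
      have : w * v * v⁻¹ * w⁻¹ = 1 := by group
      rw [this]
      exact one_mem _
    · exact R.comm_mem hr ha.1 h1 hw hv
  | h1 =>
    have : 1 * w * (1 : G)⁻¹ * w⁻¹ = 1 := by group
    rw [this]; exact one_mem _
  | hmul v v' hv hv' ih1 ih2 =>
    have c1 := R.XP hr ih2 (Q_le_P (inv_mem hv))
    have e : v * v' * w * (v * v')⁻¹ * w⁻¹ = (v' * w * v'⁻¹ * w⁻¹) * (v * w * v⁻¹ * w⁻¹) := by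
      have c2 := R.XP hr ih2 (Q_le_P hv)
      calc v * v' * w * (v * v')⁻¹ * w⁻¹ = (v * (v' * w * v'⁻¹ * w⁻¹)) * w * v⁻¹ * w⁻¹ := by group
        _ = _ := by rw [← c2]; group
    rw [e]
    exact mul_mem ih2 ih1

end RG

/-- The elements normalising `X`, `Q` and trivial on `P / Q`. -/
def Cq (X Q P : Subgroup G) : Subgroup G where
  carrier := {y | (∀ x ∈ X, y * x * y⁻¹ ∈ X) ∧ (∀ x ∈ X, y⁻¹ * x * y ∈ X) ∧ (∀ q ∈ Q, y * q * y⁻¹ ∈ Q) ∧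
    (∀ q ∈ Q, y⁻¹ * q * y ∈ Q) ∧ ∀ p ∈ P, y * p * y⁻¹ * p⁻¹ ∈ Q}
  one_mem' := by
    refine ⟨fun x hx => by simpa using hx, fun x hx => by simpa using hx, fun x hx => by simpa using hx,
      fun x hx => by simpa using hx, fun p _ => ?_⟩
    rw [one_mul, inv_one, mul_one, mul_inv_cancel]; exact one_mem _
  mul_mem' := by
    rintro a b ⟨ha1, ha2, ha3, ha4, ha5⟩ ⟨hb1, hb2, hb3, hb4, hb5⟩
    refine ⟨fun x hx => ?_, fun x hx => ?_, fun x hx => ?_, fun x hx => ?_, fun p hp => ?_⟩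
    · have e : a * b * x * (a * b)⁻¹ = a * (b * x * b⁻¹) * a⁻¹ := by group
      rw [e]; exact ha1 _ (hb1 x hx)
    · have e : (a * b)⁻¹ * x * (a * b) = b⁻¹ * (a⁻¹ * x * a) * b := by group
      rw [e]; exact hb2 _ (ha2 x hx)
    · have e : a * b * x * (a * b)⁻¹ = a * (b * x * b⁻¹) * a⁻¹ := by group
      rw [e]; exact ha3 _ (hb3 x hx)
    · have e : (a * b)⁻¹ * x * (a * b) = b⁻¹ * (a⁻¹ * x * a) * b := by group
      rw [e]; exact hb4 _ (ha4 x hx)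
    · have e : a * b * p * (a * b)⁻¹ * p⁻¹ = a * (b * p * b⁻¹ * p⁻¹) * a⁻¹ * (a * p * a⁻¹ * p⁻¹) := by group
      rw [e]; exact mul_mem (ha3 _ (hb5 p hp)) (ha5 p hp)
  inv_mem' := by
    rintro a ⟨ha1, ha2, ha3, ha4, ha5⟩
    refine ⟨fun x hx => by simpa using ha2 x hx, fun x hx => by simpa using ha1 x hx,
      fun x hx => by simpa using ha4 x hx, fun x hx => by simpa using ha3 x hx, fun p hp => ?_⟩
    have e : a⁻¹ * p * a⁻¹⁻¹ * p⁻¹ = (a⁻¹ * (a * p * a⁻¹ * p⁻¹) * a)⁻¹ := by group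
    rw [e]; exact inv_mem (ha4 _ (ha5 p hp))

theorem mem_Cq {X Q P : Subgroup G} {y : G} : y ∈ Cq X Q P ↔ (∀ x ∈ X, y * x * y⁻¹ ∈ X) ∧ (∀ x ∈ X, y⁻¹ * x * y ∈ X) ∧
    (∀ q ∈ Q, y * q * y⁻¹ ∈ Q) ∧ (∀ q ∈ Q, y⁻¹ * q * y ∈ Q) ∧ ∀ p ∈ P, y * p * y⁻¹ * p⁻¹ ∈ Q := Iff.rfl

/-- `V₀`: the fixed points modulo `X_r` of the radical of `β` in `L`. -/
def V0 (B : L → L → ℤ) (Φ : Set L) (X : L → Subgroup G) (r β : L) : Set G :=
  {v | v ∈ SX X (Qs B Φ r) ∧ ∀ a ∈ Φ, B a r = 0 → 1 ≤ B a β → ∀ u ∈ X a, v * u * v⁻¹ * u⁻¹ ∈ X r}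

namespace RG

variable (R : RG B Φ X)

include R

/-- `V₀` is invariant under `C4`. -/
theorem V0_conj (hr : r ∈ Φ) {β : L} {y v : G} (hy : y ∈ Cq (X r) (SX X (Qs B Φ r)) (SX X (Ps B Φ r)))
    (hv : v ∈ V0 B Φ X r β) : y * v * y⁻¹ ∈ V0 B Φ X r β := by
  obtain ⟨hv1, hv2⟩ := hv
  obtain ⟨hy1, hy2, hy3, hy4, hy5⟩ := hy
  have hv' := hy3 v hv1
  refine ⟨hv', fun a ha har haβ u hu => ?_⟩
  have huP : u ∈ SX X (Ps B Φ r) := le_SX (show a ∈ Ps B Φ r from ⟨ha, by omega⟩) hu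
  have h1 := hy1 _ (hv2 a ha har haβ u hu)
  have hq := hy5 u huP
  set q := y * u * y⁻¹ * u⁻¹ with hqd
  set v' := y * v * y⁻¹ with hvd
  have e1 : y * (v * u * v⁻¹ * u⁻¹) * y⁻¹ = (v' * q * v'⁻¹ * q⁻¹) * (q * (v' * u * v'⁻¹ * u⁻¹) * q⁻¹) := by
    have : y * (v * u * v⁻¹ * u⁻¹) * y⁻¹ = v' * (y * u * y⁻¹) * v'⁻¹ * (y * u * y⁻¹)⁻¹ := by rw [hvd]; group
    rw [this]
    have h2 : y * u * y⁻¹ = q * u := by rw [hqd]; group
    rw [h2]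
    group
  rw [e1] at h1
  have h2 := mul_mem (inv_mem (R.QQ hr hv' hq)) h1
  rw [inv_mul_cancel_left] at h2
  have h3 := R.XP hr h2 (Q_le_P hq)
  have e2 : v' * u * v'⁻¹ * u⁻¹ = q * (v' * u * v'⁻¹ * u⁻¹) * q⁻¹ := by
    have h4 : q⁻¹ * (q * (v' * u * v'⁻¹ * u⁻¹) * q⁻¹) * q = q * (v' * u * v'⁻¹ * u⁻¹) * q⁻¹ := by
      rw [mul_assoc, h3, inv_mul_cancel_left]
    rw [← h4]; group
  rw [e2]
  exact h2

/-- The auxiliary root. -/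
theorem exists_aux (h3 : ∀ r ∈ Φ, ∀ s ∈ Φ, B r s = 0 → ∃ a ∈ Φ, B a r = 1 ∧ B a s = -1) (hr : r ∈ Φ) {β b : L}
    (hβ : β ∈ Φ) (hβr : B β r = 0) (hb : b ∈ Φ) (hbr : B b r = 1) (h0 : B b β = 0) :
    ∃ a ∈ Φ, B a r = 0 ∧ B a β = 1 ∧ B a b = 1 := by
  have hR := R.roots
  obtain ⟨a, ha, h1, h2⟩ := h3 β hβ b hb (by rw [hR.symm]; exact h0)
  have c1 := hR.two b hb
  have c2 := hR.two β hβ
  have c3 := hR.symm b β
  have c4 := hR.symm r b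
  have c5 := hR.symm β r
  have c6 := hR.symm b r
  have c7 := hR.le a ha r hr
  have c8 := hR.ge ha hr
  obtain ⟨s1, s2, s3⟩ := R.sub_props hr hb hbr
  have d1 := hR.le a ha _ s1
  rw [hR.sub_right] at d1
  rcases (show B a r = 0 ∨ B a r = -1 ∨ B a r = -2 ∨ B a r = 1 by omega) with h4 | h4 | h4 | h4
  · have h5 : β - a ∈ Φ := hR.sub_mem hβ ha (by rw [hR.symm]; exact h1)
    refine ⟨β - a, h5, ?_, ?_, ?_⟩ <;> rw [hR.sub_left] <;> omega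
  · have h5 : a + b ∈ Φ := hR.add a ha b hb h2
    refine ⟨a + b, h5, ?_, ?_, ?_⟩ <;> rw [hR.add_left] <;> omega
  · exfalso
    have h5 := hR.eq_neg ha hr h4
    rw [h5, hR.neg_left] at h1
    omega
  · exfalso
    have h5 : B a (r - b) = 2 := by rw [hR.sub_right]; omega
    have h6 := hR.eq a ha _ s1 h5
    rw [h6, hR.sub_left] at h1
    omega

/-- For `v ∈ V₀` and `(b, β) ≠ -1`: `[X_b, v] = 1`. -/
theorem V0_comm (h3 : ∀ r ∈ Φ, ∀ s ∈ Φ, B r s = 0 → ∃ a ∈ Φ, B a r = 1 ∧ B a s = -1) (hr : r ∈ Φ) {β b : L}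
    (hβ : β ∈ Φ) (hβr : B β r = 0) (hb : b ∈ Φ) (hbr : B b r = 1) (h0 : B b β ≠ -1) {v x : G}
    (hv : v ∈ V0 B Φ X r β) (hx : x ∈ X b) : x * v = v * x := by
  have hR := R.roots
  obtain ⟨a, ha, har, haβ, hab⟩ : ∃ a ∈ Φ, B a r = 0 ∧ 1 ≤ B a β ∧ B a b = 1 := by
    have c1 := hR.le b hb β hβ
    have c2 := hR.ge hb hβ
    rcases (show B b β = 0 ∨ B b β = 1 ∨ B b β = 2 ∨ B b β = -2 by omega) with h4 | h4 | h4 | h4
    · obtain ⟨a, ha, h5, h6, h7⟩ := R.exists_aux h3 hr hβ hβr hb hbr h4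
      exact ⟨a, ha, h5, by omega, h7⟩
    · have := hR.two β hβ
      exact ⟨β, hβ, hβr, by omega, by rw [hR.symm]; exact h4⟩
    · exfalso
      have := hR.eq b hb β hβ h4
      rw [this] at hbr; omega
    · exfalso
      have := hR.eq_neg hb hβ h4
      rw [this, hR.neg_left] at hbr; omega
  have s1 : b - a ∈ Φ := hR.sub_mem hb ha (by rw [hR.symm]; exact hab)
  have s2 : B (b - a) r = 1 := by rw [hR.sub_left]; omega
  have s3 : B (b - a) a = -1 := by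
    have := hR.symm b a
    have := hR.two a ha
    rw [hR.sub_left]; omega
  obtain ⟨u, hu, hu1⟩ := R.ne a ha
  obtain ⟨x', hx', hxe⟩ := R.onto (b - a) s1 a ha s3 u hu hu1 x (by rw [sub_add_cancel]; exact hx)
  have hvQ := hv.1
  have hvP := Q_le_P hvQ
  have hx'P : x' ∈ SX X (Ps B Φ r) := le_SX (show b - a ∈ Ps B Φ r from ⟨s1, by omega⟩) hx'
  have huP : u ∈ SX X (Ps B Φ r) := le_SX (show a ∈ Ps B Φ r from ⟨ha, by omega⟩) hu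
  -- `z1`, `z2`
  have hz1 := hv.2 a ha har haβ u⁻¹ (inv_mem hu)
  set z1 := v * u⁻¹ * v⁻¹ * u⁻¹⁻¹ with hz1d
  have e1 : u⁻¹ * v * u = z1⁻¹ * v := by rw [hz1d]; group
  have hz2 := R.comm_mem hr s1 s2 hvQ (inv_mem hx')
  set z2 := x'⁻¹ * v * x'⁻¹⁻¹ * v⁻¹ with hz2d
  have e2 : x'⁻¹ * v * x' = z2 * v := by rw [hz2d]; group
  have c1 : ∀ p ∈ SX X (Ps B Φ r), z1 * p = p * z1 := fun p hp => R.XP hr hz1 hp
  have c1' : ∀ p ∈ SX X (Ps B Φ r), z1⁻¹ * p = p * z1⁻¹ := fun p hp => R.XP hr (inv_mem hz1) hp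
  have c2 : ∀ p ∈ SX X (Ps B Φ r), z2 * p = p * z2 := fun p hp => R.XP hr hz2 hp
  have e3 : u * v * u⁻¹ = z1 * v := by
    calc u * v * u⁻¹ = u * (z1 * (z1⁻¹ * v)) * u⁻¹ := by group
      _ = u * z1 * (u⁻¹ * v * u) * u⁻¹ := by rw [e1]; group
      _ = z1 * u * (u⁻¹ * v * u) * u⁻¹ := by rw [c1 u huP]
      _ = z1 * v := by group
  have e4 : z2 * (x' * v * x'⁻¹) = v := by
    calc z2 * (x' * v * x'⁻¹) = (z2 * x') * v * x'⁻¹ := by group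
      _ = (x' * z2) * v * x'⁻¹ := by rw [c2 x' hx'P]
      _ = x' * (z2 * v) * x'⁻¹ := by group
      _ = v := by rw [← e2]; group
  have e5 : x * v * x⁻¹ = v := by
    rw [← hxe]
    calc x' * u * x'⁻¹ * u⁻¹ * v * (x' * u * x'⁻¹ * u⁻¹)⁻¹
        = x' * u * x'⁻¹ * (u⁻¹ * v * u) * x' * u⁻¹ * x'⁻¹ := by group
      _ = x' * u * (x'⁻¹ * z1⁻¹) * v * x' * u⁻¹ * x'⁻¹ := by rw [e1]; group
      _ = x' * u * (z1⁻¹ * x'⁻¹) * v * x' * u⁻¹ * x'⁻¹ := by rw [c1' _ (inv_mem hx'P)]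
      _ = x' * (u * z1⁻¹) * (x'⁻¹ * v * x') * u⁻¹ * x'⁻¹ := by group
      _ = x' * (z1⁻¹ * u) * (z2 * v) * u⁻¹ * x'⁻¹ := by rw [← c1' _ huP, e2]
      _ = x' * z1⁻¹ * (u * z2) * v * u⁻¹ * x'⁻¹ := by group
      _ = x' * z1⁻¹ * (z2 * u) * v * u⁻¹ * x'⁻¹ := by rw [← c2 _ huP]
      _ = x' * z1⁻¹ * z2 * (u * v * u⁻¹) * x'⁻¹ := by group
      _ = x' * z1⁻¹ * (z2 * z1) * v * x'⁻¹ := by rw [e3]; group
      _ = x' * z1⁻¹ * (z1 * z2) * v * x'⁻¹ := by rw [c1 z2 (Q_le_P (le_SX (show r ∈ Qs B Φ r from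
          ⟨hr, by have := hR.two r hr; omega⟩) hz2))]
      _ = (x' * z2) * v * x'⁻¹ := by group
      _ = (z2 * x') * v * x'⁻¹ := by rw [← c2 _ hx'P]
      _ = z2 * (x' * v * x'⁻¹) := by group
      _ = v := e4
  calc x * v = x * v * x⁻¹ * x := by group
    _ = v * x := by rw [e5]

/-- `h = κ` on `V₀` modulo `X_r`. -/
theorem V0_eq (h3 : ∀ r ∈ Φ, ∀ s ∈ Φ, B r s = 0 → ∃ a ∈ Φ, B a r = 1 ∧ B a s = -1) (hr : r ∈ Φ) {β : L}
    (hβ : β ∈ Φ) (hβr : B β r = 0)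
    (ZQ : ∀ q ∈ SX X (Qs B Φ r), (∀ v ∈ SX X (Qs B Φ r), q * v = v * q) → q ∈ X r) {g : G}
    (hg : ∀ a ∈ Φ, ∀ x ∈ X a, g * x * g⁻¹ ∈ X a) (hg' : ∀ a ∈ Φ, ∀ x ∈ X a, g⁻¹ * x * g ∈ X a)
    (hc : ∀ c ∈ Φ, B c r = 1 → B c β = 1 → ∀ x ∈ X c, g * x * g⁻¹ = x) {v : G} (hv : v ∈ V0 B Φ X r β) :
    g * v * g⁻¹ * v⁻¹ ∈ X r := by
  have hR := R.roots
  have hgQ : SX X (Qs B Φ r) ≤ (SX X (Qs B Φ r)).comap (MulAut.conj g).toMonoidHom := by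
    refine SX_le fun b hb y hy => ?_
    rw [mem_comap]
    exact le_SX hb (hg b hb.1 y hy)
  have hgv : g * v * g⁻¹ ∈ SX X (Qs B Φ r) := hgQ hv.1
  have hm := mul_mem hgv (inv_mem hv.1)
  apply ZQ _ hm
  intro w hw
  have hle : SX X (Qs B Φ r) ≤ centralizer ({g * v * g⁻¹ * v⁻¹} : Set G) := by
    refine SX_le fun b hb x hx => ?_
    rw [mem_centralizer_singleton_iff]
    rcases R.eq_or hr hb with h1 | h1
    · subst h1
      exact R.XP hr hx (Q_le_P hm)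
    -- `[x, g v g⁻¹] = [x, v]`
    have hx' := hg' b hb.1 x hx
    have key : x * (g * v * g⁻¹) * x⁻¹ * (g * v * g⁻¹)⁻¹ = x * v * x⁻¹ * v⁻¹ := by
      by_cases h4 : B b β = -1
      · obtain ⟨s1, s2, s3⟩ := R.sub_props hr hb.1 h1
        obtain ⟨d, hd, hdc⟩ := R.comp hr hb.1 h1 hv.1
        have h5 : g * d * g⁻¹ = d := by
          refine hc _ s1 s2 ?_ d hd
          have := hR.symm r β
          rw [hR.sub_left]; omega
        calc x * (g * v * g⁻¹) * x⁻¹ * (g * v * g⁻¹)⁻¹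
            = g * ((g⁻¹ * x * g) * v * (g⁻¹ * x * g)⁻¹ * v⁻¹) * g⁻¹ := by group
          _ = g * ((g⁻¹ * x * g) * d * (g⁻¹ * x * g)⁻¹ * d⁻¹) * g⁻¹ := by rw [hdc _ hx']
          _ = x * (g * d * g⁻¹) * x⁻¹ * (g * d * g⁻¹)⁻¹ := by group
          _ = x * v * x⁻¹ * v⁻¹ := by rw [h5, hdc x hx]
      · have h5 := R.V0_comm h3 hr hβ hβr hb.1 h1 h4 hv hx
        have h6 := R.V0_comm h3 hr hβ hβr hb.1 h1 h4 hv hx'
        calc x * (g * v * g⁻¹) * x⁻¹ * (g * v * g⁻¹)⁻¹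
            = g * ((g⁻¹ * x * g) * v * (g⁻¹ * x * g)⁻¹ * v⁻¹) * g⁻¹ := by group
          _ = g * (v * (g⁻¹ * x * g) * (g⁻¹ * x * g)⁻¹ * v⁻¹) * g⁻¹ := by rw [h6]
          _ = v * x * x⁻¹ * v⁻¹ := by group
          _ = x * v * x⁻¹ * v⁻¹ := by rw [h5]
    have hz := R.comm_mem hr hb.1 h1 hv.1 hx
    set z := x * v * x⁻¹ * v⁻¹ with hzd
    have e1 : x * v * x⁻¹ = z * v := by rw [hzd]; group
    have e2 : x * (g * v * g⁻¹) * x⁻¹ = z * (g * v * g⁻¹) := by rw [← key]; group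
    have c1 := R.XP hr hz (Q_le_P hm)
    calc x * (g * v * g⁻¹ * v⁻¹) = (x * (g * v * g⁻¹) * x⁻¹) * (x * v * x⁻¹)⁻¹ * x := by group
      _ = (z * (g * v * g⁻¹)) * (z * v)⁻¹ * x := by rw [e1, e2]
      _ = (z * (g * v * g⁻¹ * v⁻¹)) * z⁻¹ * x := by group
      _ = g * v * g⁻¹ * v⁻¹ * x := by rw [c1]; group
  exact (mem_centralizer_singleton_iff.1 (hle hw)).symm

/-- The groups `X_c`, `(c, r) = (c, β) = 1`, lie in `V₀`. -/
theorem le_V0 {β c : L} (hβ : β ∈ Φ) (hβr : B β r = 0) (hc : c ∈ Φ) (hcr : B c r = 1)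
    (hcβ : B c β = 1) {x : G} (hx : x ∈ X c) : x ∈ V0 B Φ X r β := by
  have hR := R.roots
  refine ⟨le_SX (show c ∈ Qs B Φ r from ⟨hc, by omega⟩) hx, fun a ha har haβ u hu => ?_⟩
  have h0 : 0 ≤ B c a := by
    by_contra hlt
    have hge := hR.ge hc ha
    have hle := hR.le a ha β hβ
    rcases (show B c a = -1 ∨ B c a = -2 by omega) with h4 | h4
    · have h5 := hR.add c hc a ha h4
      have h6 := hR.le _ h5 β hβ
      rw [hR.add_left] at h6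
      have h7 : B (c + a) β = 2 := by rw [hR.add_left]; omega
      have h8 := hR.eq _ h5 β hβ h7
      have h9 : B (c + a) r = 1 := by rw [hR.add_left]; omega
      rw [h8] at h9
      omega
    · have h5 := hR.eq_neg hc ha h4
      rw [h5, hR.neg_left] at hcr
      omega
  rw [R.pos c hc a ha h0 x hx u hu]
  have : u * x * x⁻¹ * u⁻¹ = 1 := by group
  rw [this]
  exact one_mem _

/-- `C4` is trivial on `Q / X_r` as soon as it is trivial on `V₀`. -/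
theorem eq_of_V0 (h3 : ∀ r ∈ Φ, ∀ s ∈ Φ, B r s = 0 → ∃ a ∈ Φ, B a r = 1 ∧ B a s = -1) (hr : r ∈ Φ) {β : L}
    (hβ : β ∈ Φ) (hβr : B β r = 0) {g : G} (hg : g ∈ Cq (X r) (SX X (Qs B Φ r)) (SX X (Ps B Φ r)))
    (h0 : ∀ v ∈ V0 B Φ X r β, g * v * g⁻¹ * v⁻¹ ∈ X r) (hgr : ∀ x ∈ X r, g * x * g⁻¹ ∈ X r) {v : G}
    (hv : v ∈ SX X (Qs B Φ r)) : g * v * g⁻¹ * v⁻¹ ∈ X r := by
  have hR := R.roots
  obtain ⟨hg1, hg2, hg3, hg4, hg5⟩ := hg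
  -- the elements of `Q` fixed modulo `X r`
  let F : Subgroup G :=
    { carrier := {v | v ∈ SX X (Qs B Φ r) ∧ g * v * g⁻¹ * v⁻¹ ∈ X r}
      one_mem' := ⟨one_mem _, by
        have : g * 1 * g⁻¹ * (1 : G)⁻¹ = 1 := by group
        rw [this]; exact one_mem _⟩
      mul_mem' := by
        rintro a b ⟨ha, ha'⟩ ⟨hb, hb'⟩
        refine ⟨mul_mem ha hb, ?_⟩
        have c1 := R.XP hr hb' (Q_le_P (inv_mem ha))
        have e : g * (a * b) * g⁻¹ * (a * b)⁻¹ = (g * a * g⁻¹ * a⁻¹) * (g * b * g⁻¹ * b⁻¹) := by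
          calc g * (a * b) * g⁻¹ * (a * b)⁻¹ = g * a * g⁻¹ * ((g * b * g⁻¹ * b⁻¹) * a⁻¹) := by group
            _ = _ := by rw [c1]; group
        rw [e]
        exact mul_mem ha' hb'
      inv_mem' := by
        rintro a ⟨ha, ha'⟩
        refine ⟨inv_mem ha, ?_⟩
        have c1 := R.XP hr (inv_mem ha') (Q_le_P (inv_mem ha))
        have e : g * a⁻¹ * g⁻¹ * a⁻¹⁻¹ = (g * a * g⁻¹ * a⁻¹)⁻¹ := by
          calc g * a⁻¹ * g⁻¹ * a⁻¹⁻¹ = a⁻¹ * ((g * a * g⁻¹ * a⁻¹)⁻¹) * a := by group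
            _ = (g * a * g⁻¹ * a⁻¹)⁻¹ := by rw [← c1, inv_mul_cancel_right]
        rw [e]
        exact inv_mem ha' }
  have hFP : ∀ p ∈ SX X (Ps B Φ r), ∀ v ∈ F, p * v * p⁻¹ ∈ F := by
    rintro p hp v ⟨hv, hv'⟩
    have hw := R.PQ hp hv
    refine ⟨hw, ?_⟩
    have hq := hg5 p hp
    set q := g * p * g⁻¹ * p⁻¹ with hqd
    set z := g * v * g⁻¹ * v⁻¹ with hzd
    have e1 : g * p = q * p * g := by rw [hqd]; group
    have e2 : g * v = z * v * g := by rw [hzd]; group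
    have c1 : ∀ p ∈ SX X (Ps B Φ r), z * p = p * z := fun p hp => R.XP hr hv' hp
    have hqq := R.QQ hr hq hw
    have e : g * (p * v * p⁻¹) * g⁻¹ * (p * v * p⁻¹)⁻¹ = z * (q * (p * v * p⁻¹) * q⁻¹ * (p * v * p⁻¹)⁻¹) := by
      calc g * (p * v * p⁻¹) * g⁻¹ * (p * v * p⁻¹)⁻¹
          = (g * p) * v * (g * p)⁻¹ * (p * v * p⁻¹)⁻¹ := by group
        _ = q * p * (g * v) * g⁻¹ * p⁻¹ * q⁻¹ * (p * v * p⁻¹)⁻¹ := by rw [e1]; group
        _ = (q * p) * z * v * p⁻¹ * q⁻¹ * (p * v * p⁻¹)⁻¹ := by rw [e2]; group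
        _ = z * (q * p) * v * p⁻¹ * q⁻¹ * (p * v * p⁻¹)⁻¹ := by rw [c1 _ (mul_mem (Q_le_P hq) hp)]
        _ = _ := by group
    rw [e]
    exact mul_mem hv' hqq
  have hV : ∀ c ∈ Φ, B c r = 1 → B c β = 1 → X c ≤ F := fun c hc hcr hcβ x hx => by
    have h4 := R.le_V0 hβ hβr hc hcr hcβ hx
    exact ⟨h4.1, h0 x h4⟩
  -- the step
  have step : ∀ c ∈ Φ, ∀ a ∈ Φ, B c a = -1 → B a r = 0 → X c ≤ F → X (c + a) ≤ F := by
    intro c hc a ha hca har hF x hx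
    obtain ⟨u, hu, hu1⟩ := R.ne a ha
    obtain ⟨x', hx', he⟩ := R.onto c hc a ha hca u hu hu1 x hx
    have huP : u ∈ SX X (Ps B Φ r) := le_SX (show a ∈ Ps B Φ r from ⟨ha, by omega⟩) hu
    rw [← he]
    have := mul_mem (hF hx') (hFP u huP _ (inv_mem (hF hx')))
    have e : x' * u * x'⁻¹ * u⁻¹ = x' * (u * x'⁻¹ * u⁻¹) := by group
    rw [e]
    exact this
  have hβ2 := hR.two β hβ
  have hneg : ∀ c ∈ Φ, B c r = 1 → B c β = -1 → X c ≤ F := by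
    intro c hc hcr hcβ
    have h5 := hR.add c hc β hβ hcβ
    have h6 := step (c + β) h5 (-β) (hR.neg_mem β hβ) (by rw [hR.neg_right, hR.add_left]; omega)
      (by rw [hR.neg_left]; omega) (hV _ h5 (by rw [hR.add_left]; omega) (by rw [hR.add_left]; omega))
    rwa [add_neg_cancel_right] at h6
  have hall : ∀ c ∈ Φ, B c r = 1 → X c ≤ F := by
    intro c hc hcr
    have c1 := hR.le c hc β hβ
    have c2 := hR.ge hc hβ
    rcases (show B c β = 1 ∨ B c β = -1 ∨ B c β = 0 ∨ B c β = 2 ∨ B c β = -2 by omega) with h4 | h4 | h4 | h4 | h4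
    · exact hV c hc hcr h4
    · exact hneg c hc hcr h4
    · obtain ⟨a, ha, h5, h6, h7⟩ := R.exists_aux h3 hr hβ hβr hc hcr h4
      have hca : B c a = 1 := by rw [hR.symm]; exact h7
      have s1 : c - a ∈ Φ := hR.sub_mem hc ha hca
      have haa := hR.two a ha
      have h8 := step (c - a) s1 a ha (by rw [hR.sub_left]; omega) h5
        (hneg _ s1 (by rw [hR.sub_left]; omega) (by rw [hR.sub_left]; omega))
      rwa [sub_add_cancel] at h8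
    · exfalso
      have := hR.eq c hc β hβ h4
      rw [this] at hcr; omega
    · exfalso
      have := hR.eq_neg hc hβ h4
      rw [this, hR.neg_left] at hcr; omega
  have hrF : X r ≤ F := fun x hx => ⟨le_SX (show r ∈ Qs B Φ r from ⟨hr, by
    have := hR.two r hr; omega⟩) hx, mul_mem (hgr x hx) (inv_mem hx)⟩
  have hle : SX X (Qs B Φ r) ≤ F := by
    refine SX_le fun a ha => ?_
    rcases R.eq_or hr ha with h4 | h4
    · rw [h4]; exact hrF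
    · exact hall a ha.1 h4
  exact (hle hv).2

/-- **The torus element `h` commutes with `C4` on `Q / X_r`.** -/
theorem comm_D (h3 : ∀ r ∈ Φ, ∀ s ∈ Φ, B r s = 0 → ∃ a ∈ Φ, B a r = 1 ∧ B a s = -1) (hr : r ∈ Φ) {β : L}
    (hβ : β ∈ Φ) (hβr : B β r = 0)
    (ZQ : ∀ q ∈ SX X (Qs B Φ r), (∀ v ∈ SX X (Qs B Φ r), q * v = v * q) → q ∈ X r) {h k : G}
    (hh : ∀ a ∈ Φ, ∀ x ∈ X a, h * x * h⁻¹ ∈ X a) (hh' : ∀ a ∈ Φ, ∀ x ∈ X a, h⁻¹ * x * h ∈ X a)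
    (hk : ∀ a ∈ Φ, ∀ x ∈ X a, k * x * k⁻¹ ∈ X a) (hk' : ∀ a ∈ Φ, ∀ x ∈ X a, k⁻¹ * x * k ∈ X a)
    (hkP : k ∈ SX X (Ps B Φ r))
    (hc : ∀ c ∈ Φ, B c r = 1 → B c β = 1 → ∀ x ∈ X c, h * x * h⁻¹ = k * x * k⁻¹)
    (hhC : h ∈ Cq (X r) (SX X (Qs B Φ r)) (SX X (Ps B Φ r)))
    {y : G} (hy : y ∈ Cq (X r) (SX X (Qs B Φ r)) (SX X (Ps B Φ r))) {v : G} (hv : v ∈ SX X (Qs B Φ r)) :
    (h * y * h⁻¹ * y⁻¹) * v * (h * y * h⁻¹ * y⁻¹)⁻¹ * v⁻¹ ∈ X r := by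
  have hg : h * y * h⁻¹ * y⁻¹ ∈ Cq (X r) (SX X (Qs B Φ r)) (SX X (Ps B Φ r)) :=
    mul_mem (mul_mem (mul_mem hhC hy) (inv_mem hhC)) (inv_mem hy)
  refine R.eq_of_V0 h3 hr hβ hβr hg ?_ hg.1 hv
  -- `g = k⁻¹ h` is trivial on `V₀`
  have hg0 : ∀ v ∈ V0 B Φ X r β, (k⁻¹ * h) * v * (k⁻¹ * h)⁻¹ * v⁻¹ ∈ X r := by
    intro v hv
    refine R.V0_eq h3 hr hβ hβr ZQ ?_ ?_ ?_ hv
    · intro a ha x hx
      have e : k⁻¹ * h * x * (k⁻¹ * h)⁻¹ = k⁻¹ * (h * x * h⁻¹) * k := by group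
      rw [e]; exact hk' a ha _ (hh a ha x hx)
    · intro a ha x hx
      have e : (k⁻¹ * h)⁻¹ * x * (k⁻¹ * h) = h⁻¹ * (k * x * k⁻¹) * h := by group
      rw [e]; exact hh' a ha _ (hk a ha x hx)
    · intro c hc' h4 h5 x hx
      have e : k⁻¹ * h * x * (k⁻¹ * h)⁻¹ = k⁻¹ * (h * x * h⁻¹) * k := by group
      rw [e, hc c hc' h4 h5 x hx]; group
  -- so `h v h⁻¹ = z (k v k⁻¹)`
  have hkr : ∀ x ∈ X r, k * x * k⁻¹ = x := fun x hx => by rw [← R.XP hr hx hkP]; group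
  have hV : ∀ v ∈ V0 B Φ X r β, ∃ z ∈ X r, h * v * h⁻¹ = z * (k * v * k⁻¹) := by
    intro v hv
    refine ⟨_, hg0 v hv, ?_⟩
    have h4 := hkr _ (hg0 v hv)
    calc h * v * h⁻¹ = k * ((k⁻¹ * h) * v * (k⁻¹ * h)⁻¹ * v⁻¹) * k⁻¹ * (k * v * k⁻¹) := by group
      _ = _ := by rw [h4]
  -- `k` preserves `V₀`
  have hkV : ∀ v ∈ V0 B Φ X r β, k⁻¹ * v * k ∈ V0 B Φ X r β := by
    rintro v ⟨hv1, hv2⟩
    have hQ : k⁻¹ * v * k ∈ SX X (Qs B Φ r) := by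
      have := R.PQ (inv_mem hkP) hv1
      rwa [inv_inv] at this
    refine ⟨hQ, fun a ha har haβ u hu => ?_⟩
    have h4 := hv2 a ha har haβ _ (hk a ha u hu)
    have h5 : k⁻¹ * (v * (k * u * k⁻¹) * v⁻¹ * (k * u * k⁻¹)⁻¹) * k ∈ X r := hk' r hr _ h4
    have e : k⁻¹ * v * k * u * (k⁻¹ * v * k)⁻¹ * u⁻¹ = k⁻¹ * (v * (k * u * k⁻¹) * v⁻¹ * (k * u * k⁻¹)⁻¹) * k := by
      group
    rw [e]; exact h5
  intro v hv
  -- `v₁ = k⁻¹ y⁻¹ v y k`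
  have hyv := R.V0_conj hr (inv_mem hy) hv
  rw [inv_inv] at hyv
  have h1 := hkV _ hyv
  set w := y⁻¹ * v * y with hwd
  set v1 := k⁻¹ * w * k with hv1d
  obtain ⟨z, hz, he⟩ := hV v1 h1
  -- `h v1 h⁻¹ = z w`
  have e1 : h * v1 * h⁻¹ = z * w := by rw [he, hv1d]; group
  have e2 : h⁻¹ * w * h = (h⁻¹ * z⁻¹ * h) * v1 := by
    have : v1 = h⁻¹ * (z * w) * h := by rw [← e1]; group
    rw [this]; group
  -- `y v1 y⁻¹ = z' (k⁻¹ v k)`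
  have hq := hy.2.2.2.2 k⁻¹ (inv_mem hkP)
  set q := y * k⁻¹ * y⁻¹ * k⁻¹⁻¹ with hqd
  have e3 : y * v1 * y⁻¹ = q * (k⁻¹ * v * k) * q⁻¹ := by rw [hv1d, hwd, hqd]; group
  have hz' := R.QQ hr hq (hkV v hv).1
  set z' := q * (k⁻¹ * v * k) * q⁻¹ * (k⁻¹ * v * k)⁻¹ with hz'd
  have e4 : y * v1 * y⁻¹ = z' * (k⁻¹ * v * k) := by rw [e3, hz'd]; group
  obtain ⟨z2, hz2, he2⟩ := hV _ (hkV v hv)
  have e5 : h * (k⁻¹ * v * k) * h⁻¹ = z2 * v := by rw [he2]; group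
  -- collect
  have hzz : h⁻¹ * z⁻¹ * h ∈ X r := hh' r hr _ (inv_mem hz)
  have hfin : (h * y * h⁻¹ * y⁻¹) * v * (h * y * h⁻¹ * y⁻¹)⁻¹ * v⁻¹ =
      (h * (y * (h⁻¹ * z⁻¹ * h) * y⁻¹) * h⁻¹) * (h * z' * h⁻¹) * z2 := by
    calc (h * y * h⁻¹ * y⁻¹) * v * (h * y * h⁻¹ * y⁻¹)⁻¹ * v⁻¹
        = h * (y * (h⁻¹ * w * h) * y⁻¹) * h⁻¹ * v⁻¹ := by rw [hwd]; group
      _ = h * (y * (h⁻¹ * z⁻¹ * h) * y⁻¹) * (y * v1 * y⁻¹) * h⁻¹ * v⁻¹ := by rw [e2]; group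
      _ = (h * (y * (h⁻¹ * z⁻¹ * h) * y⁻¹) * h⁻¹) * (h * z' * h⁻¹) * (h * (k⁻¹ * v * k) * h⁻¹) * v⁻¹ := by
        rw [e4]; group
      _ = _ := by rw [e5]; group
  rw [hfin]
  exact mul_mem (mul_mem (hh r hr _ (hy.1 _ hzz)) (hh r hr _ hz')) hz2

end RG

end Cfsg.Agent.OddHalf.D7Ex.Vzero
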