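import Cfsg.Agent.OddHalf.D7Ex.Lin
import Cfsg.Agent.OddHalf.D7Ex.Norm
import Cfsg.Agent.OddHalf.D7Ex.Vzero

/-!
# The doubled root group at one root, from facts on the root groups

`KR` : the facts on `t`, the root groups and `P` (`Q ≤ P ≤ ⟨X b : (b, r) ≥ 0⟩`, `P` perfect) for all `q`;
`KR.setup` : the hypotheses of `Setup`; `KR.exists_big` : the doubled root group, `q > 2`; `KR.exists_two` : `q = 2`.
-/

set_option autoImplicit false
set_option linter.style.haveILetI false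
set_option linter.unusedSectionVars false
set_option linter.unusedVariables false

namespace Cfsg.Agent.OddHalf.D7Ex

open Subgroup Cfsg.Agent.OddHalf.SL.Defs
open scoped commutatorElement

variable {L : Type*} [AddCommGroup L] {G : Type*} [Group G]

/-! ### Derived series -/

/-- The derived series of a subgroup. -/
def Dser (C : Subgroup G) : ℕ → Subgroup G
  | 0 => C
  | k + 1 => ⁅Dser C k, Dser C k⁆

theorem le_Dser {C R : Subgroup G} (hR : R ≤ C) (hp : R ≤ ⁅R, R⁆) (k : ℕ) : R ≤ Dser C k := by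
  induction k with
  | zero => exact hR
  | succ k ih => exact hp.trans (commutator_mono ih ih)

/-- The centraliser of `t` and `X`. -/
def CC (t : G) (X : Subgroup G) : Subgroup G := centralizer ({t} : Set G) ⊓ centralizer (X : Set G)

theorem mem_CC {t : G} {X : Subgroup G} {c : G} : c ∈ CC t X ↔ c * t = t * c ∧ ∀ x ∈ X, c * x = x * c := by
  unfold CC
  rw [mem_inf, mem_centralizer_singleton_iff, mem_centralizer_iff]
  refine and_congr Iff.rfl ⟨fun h x hx => (h x hx).symm, fun h x hx => (h x hx).symm⟩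

/-- The inverse of an element normalising `X` and `t X`. -/
theorem inv_normX {t : G} {X : Subgroup G} (tt : t * t = 1) [Finite G] {n : G} (hX : ∀ x ∈ X, n * x * n⁻¹ ∈ X)
    (ht : t * (n * t * n⁻¹) ∈ X) : (∀ x ∈ X, n⁻¹ * x * n⁻¹⁻¹ ∈ X) ∧ t * (n⁻¹ * t * n⁻¹⁻¹) ∈ X := by
  have t_inv : t⁻¹ = t := inv_eq_of_mul_eq_one_left tt
  have h1 : ∀ x ∈ X, n⁻¹ * x * n ∈ X := by
    let f : X → X := fun x => ⟨n * x * n⁻¹, hX x x.2⟩
    have hf : Function.Injective f := by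
      intro x y hxy
      have h2 : n * (x : G) * n⁻¹ = n * (y : G) * n⁻¹ := congrArg Subtype.val hxy
      exact Subtype.ext (mul_left_cancel (mul_right_cancel h2))
    have hs := Finite.surjective_of_injective hf
    intro x hx
    obtain ⟨y, hy⟩ := hs ⟨x, hx⟩
    have h2 : n * (y : G) * n⁻¹ = x := congrArg Subtype.val hy
    have h3 : n⁻¹ * x * n = y := by rw [← h2]; group
    rw [h3]; exact y.2
  refine ⟨fun x hx => by simpa using h1 x hx, ?_⟩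
  have h2 := inv_mem (h1 _ ht)
  have e : t * (n⁻¹ * t * n⁻¹⁻¹) = (n⁻¹ * (t * (n * t * n⁻¹)) * n)⁻¹ := by
    calc t * (n⁻¹ * t * n⁻¹⁻¹) = t⁻¹ * (n⁻¹ * t⁻¹ * n) := by rw [t_inv, inv_inv]
      _ = _ := by group
  rwa [e]

theorem conj_CC {t : G} {X : Subgroup G} (tt : t * t = 1) [Finite G] {n : G} (hX : ∀ x ∈ X, n * x * n⁻¹ ∈ X)
    (ht : t * (n * t * n⁻¹) ∈ X) {c : G} (hc : c ∈ CC t X) : n * c * n⁻¹ ∈ CC t X := by
  obtain ⟨hX', ht'⟩ := inv_normX tt hX ht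
  rw [mem_CC] at hc ⊢
  have key : ∀ y, c * (n⁻¹ * y * n) = (n⁻¹ * y * n) * c → n * c * n⁻¹ * y = y * (n * c * n⁻¹) := by
    intro y hy
    calc n * c * n⁻¹ * y = n * (c * (n⁻¹ * y * n)) * n⁻¹ := by group
      _ = n * ((n⁻¹ * y * n) * c) * n⁻¹ := by rw [hy]
      _ = _ := by group
  constructor
  · apply key
    have e : n⁻¹ * t * n = t * (t * (n⁻¹ * t * n⁻¹⁻¹)) := by
      rw [← mul_assoc, tt, one_mul, inv_inv]
    rw [e, ← mul_assoc, hc.1, mul_assoc, hc.2 _ ht', ← mul_assoc]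
  · intro x hx
    apply key
    have := hX' x hx
    rw [inv_inv] at this
    exact hc.2 _ this

/-- `n` normalises `P`: `P` perfect and `C_G(⟨t⟩X)/P` solvable. -/
theorem nP_of_solv {t : G} {X P : Subgroup G} (tt : t * t = 1) [Finite G] (hPC : P ≤ CC t X) (perf : P ≤ ⁅P, P⁆)
    (solv : ∃ k, Dser (CC t X) k ≤ P) (n : G) (hX : ∀ x ∈ X, n * x * n⁻¹ ∈ X)
    (ht : t * (n * t * n⁻¹) ∈ X) : ∀ p ∈ P, n * p * n⁻¹ ∈ P := by
  intro p hp
  obtain ⟨k, hk⟩ := solv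
  let R : Subgroup G := P.map (MulAut.conj n).toMonoidHom
  have hR : R ≤ CC t X := by
    rintro _ ⟨p, hp, rfl⟩
    exact conj_CC tt hX ht (hPC hp)
  have hRp : R ≤ ⁅R, R⁆ := by
    rw [← map_commutator]
    exact map_mono perf
  exact hk (le_Dser hR hRp k ⟨p, hp, rfl⟩)

/-- `n` normalises `P`: `P` perfect, generated by involutions, and the involutions of `C_G(⟨t⟩X)` lie in
`⟨t⟩ P₁`, `P₁^(k) ≤ P`. -/
theorem nP_of_inv {t : G} {X P P1 : Subgroup G} (tt : t * t = 1) [Finite G] (hPC : P ≤ CC t X) (hP1 : P1 ≤ CC t X)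
    (perf : P ≤ ⁅P, P⁆) (gen : P ≤ closure {c | c ∈ P ∧ c * c = 1})
    (two : ∀ c ∈ CC t X, c * c = 1 → c ∈ P1 ∨ t * c ∈ P1)
    (solv : ∃ k, Dser P1 k ≤ P) (n : G) (hX : ∀ x ∈ X, n * x * n⁻¹ ∈ X)
    (ht : t * (n * t * n⁻¹) ∈ X) : ∀ p ∈ P, n * p * n⁻¹ ∈ P := by
  intro p hp
  obtain ⟨k, hk⟩ := solv
  let R : Subgroup G := P.map (MulAut.conj n).toMonoidHom
  -- `E = ⟨t⟩ P₁`
  let E : Subgroup G :=
    { carrier := {c | c ∈ P1 ∨ t * c ∈ P1}
      one_mem' := Or.inl (one_mem _)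
      mul_mem' := by
        rintro a b ha hb
        have hct : ∀ c ∈ P1, t * c = c * t := fun c hc => ((mem_CC.1 (hP1 hc)).1).symm
        rcases ha with ha | ha <;> rcases hb with hb | hb
        · exact Or.inl (mul_mem ha hb)
        · right
          have := mul_mem ha hb
          rwa [← mul_assoc, ← hct a ha, mul_assoc] at this
        · right
          have := mul_mem ha hb
          rwa [mul_assoc] at this
        · left
          have := mul_mem ha hb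
          have e : t * a * (t * b) = a * b := by
            calc t * a * (t * b) = (t * (t * a)) * b := by rw [hct _ ha]; group
              _ = a * b := by rw [← mul_assoc t t, tt, one_mul]
          rwa [e] at this
      inv_mem' := by
        have t_inv : t⁻¹ = t := inv_eq_of_mul_eq_one_left tt
        rintro a (ha | ha)
        · exact Or.inl (inv_mem ha)
        · right
          have h1 := inv_mem ha
          have h2 : t * (t * a)⁻¹ = (t * a)⁻¹ * t := ((mem_CC.1 (hP1 h1)).1).symm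
          have e : t * a⁻¹ = (t * a)⁻¹ := by
            calc t * a⁻¹ = t * ((t * a)⁻¹ * t) := by group
              _ = t * (t * (t * a)⁻¹) := by rw [h2]
              _ = (t * a)⁻¹ := by rw [← mul_assoc, tt, one_mul]
          rwa [e] }
  have hR : R ≤ E := by
    refine (map_mono gen).trans ?_
    rw [MonoidHom.map_closure, closure_le]
    rintro _ ⟨c, ⟨hc, hc2⟩, rfl⟩
    refine two _ (conj_CC tt hX ht (hPC hc)) ?_
    show n * c * n⁻¹ * (n * c * n⁻¹) = 1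
    calc n * c * n⁻¹ * (n * c * n⁻¹) = n * (c * c) * n⁻¹ := by group
      _ = 1 := by rw [hc2]; group
  have hE : ⁅E, E⁆ ≤ P1 := by
    rw [commutator_le]
    intro a ha b hb
    have hct : ∀ c ∈ P1, t * c = c * t := fun c hc => ((mem_CC.1 (hP1 hc)).1).symm
    have t_inv : t⁻¹ = t := inv_eq_of_mul_eq_one_left tt
    -- `a = a' t^i`
    have key : ∀ a, (a ∈ P1 ∨ t * a ∈ P1) → ∃ a' ∈ P1, ∃ s : G, (∀ b, (b ∈ P1 ∨ t * b ∈ P1) → s * b = b * s) ∧ a = s * a' := by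
      rintro a (ha | ha)
      · exact ⟨a, ha, 1, fun b _ => by rw [one_mul, mul_one], (one_mul a).symm⟩
      · refine ⟨t * a, ha, t, ?_, by rw [← mul_assoc, tt, one_mul]⟩
        rintro b (hb | hb)
        · exact hct b hb
        · have h1 := hct _ hb
          have h2 : t * (t * b) = t * (b * t) := by rw [h1]; group
          exact mul_left_cancel h2
    obtain ⟨a', ha', s, hs, rfl⟩ := key a ha
    obtain ⟨b', hb', u, hu, rfl⟩ := key b hb
    have h1 : s * (u * b') = (u * b') * s := hs _ hb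
    have h2 : u * a' = a' * u := hu _ (Or.inl ha')
    have e : ⁅s * a', u * b'⁆ = ⁅a', b'⁆ := by
      rw [commutatorElement_def, commutatorElement_def]
      calc s * a' * (u * b') * (s * a')⁻¹ * (u * b')⁻¹
          = s * (a' * u) * b' * a'⁻¹ * s⁻¹ * (u * b')⁻¹ := by group
        _ = s * u * a' * b' * a'⁻¹ * s⁻¹ * (u * b')⁻¹ := by rw [← h2]; group
        _ = s * u * a' * b' * a'⁻¹ * (s⁻¹ * (u * b')⁻¹) := by group
        _ = s * u * a' * b' * a'⁻¹ * ((u * b')⁻¹ * s⁻¹) := by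
          rw [← mul_inv_rev (u * b') s, ← h1, mul_inv_rev]
        _ = s * u * (a' * b' * a'⁻¹ * b'⁻¹) * u⁻¹ * s⁻¹ := by group
        _ = s * (u * (a' * b' * a'⁻¹ * b'⁻¹)) * u⁻¹ * s⁻¹ := by group
        _ = s * ((a' * b' * a'⁻¹ * b'⁻¹) * u) * u⁻¹ * s⁻¹ := by
          rw [hu _ (Or.inl (mul_mem (mul_mem (mul_mem ha' hb') (inv_mem ha')) (inv_mem hb')))]
        _ = (s * (a' * b' * a'⁻¹ * b'⁻¹)) * s⁻¹ := by group
        _ = a' * b' * a'⁻¹ * b'⁻¹ := by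
          rw [hs _ (Or.inl (mul_mem (mul_mem (mul_mem ha' hb') (inv_mem ha')) (inv_mem hb')))]; group
    rw [e, commutatorElement_def]
    exact mul_mem (mul_mem (mul_mem ha' hb') (inv_mem ha')) (inv_mem hb')
  have hRp : R ≤ ⁅R, R⁆ := by
    rw [← map_commutator]
    exact map_mono perf
  have hR1 : R ≤ P1 := hRp.trans ((commutator_mono hR hR).trans hE)
  exact hk (le_Dser hR1 hRp k ⟨p, hp, rfl⟩)

/-! ### The quotient `Q / X` -/

namespace RG

variable {B : L → L → ℤ} {Φ : Set L} {X : L → Subgroup G}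

/-- Squares of elements of `Q` lie in `X r`. -/
theorem sq_mem (h : RG B Φ X) {r : L} (hr : r ∈ Φ) {q : G} (hq : q ∈ QS X (Ph1 B Φ r) r) : q * q ∈ X r := by
  let D : Subgroup G :=
    { carrier := {q | q ∈ QS X (Ph1 B Φ r) r ∧ q * q ∈ X r}
      one_mem' := ⟨one_mem _, by rw [mul_one]; exact one_mem _⟩
      mul_mem' := by
        rintro a b ⟨ha, ha2⟩ ⟨hb, hb2⟩
        refine ⟨mul_mem ha hb, ?_⟩
        have h1 := h.QQ hr (inv_mem ha) hb
        have e : a * b * (a * b) = (a * a) * (a⁻¹ * b * a⁻¹⁻¹ * b⁻¹) * (b * b) := by group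
        rw [e]
        exact mul_mem (mul_mem ha2 h1) hb2
      inv_mem' := by
        rintro a ⟨ha, ha2⟩
        refine ⟨inv_mem ha, ?_⟩
        rw [← mul_inv_rev]
        exact inv_mem ha2 }
  have hle : QS X (Ph1 B Φ r) r ≤ D := by
    refine QS_le (fun x hx => ⟨X_le_QS X _ r hx, mul_mem hx hx⟩) fun b hb x hx => ⟨le_QS X r hb hx, ?_⟩
    rw [h.X2 b hb.1 x hx]; exact one_mem _
  exact (hle hq).2

theorem isPGroup_Q (h : RG B Φ X) {r : L} (hr : r ∈ Φ) : IsPGroup 2 (QS X (Ph1 B Φ r) r) := by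
  rintro ⟨q, hq⟩
  refine ⟨2, Subtype.ext ?_⟩
  show q ^ (2 ^ 2) = 1
  have h1 := h.X2 r hr _ (h.sq_mem hr hq)
  have e : q ^ (2 ^ 2) = q * q * (q * q) := by norm_num [pow_succ, mul_assoc]
  rw [e, h1]

end RG

/-! ### The facts -/

/-- The facts on `t`, the root groups and `P`. -/
structure KR (t : G) (B : L → L → ℤ) (Φ : Set L) (X : L → Subgroup G) (r : L) (P T : Subgroup G) : Prop where
  rg : RG B Φ X
  hr : r ∈ Φ
  pg : PG B Φ X r P
  tt : t * t = 1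
  tX : ∀ a ∈ Φ, ∀ x ∈ X a, t * x = x * t
  tr : t ∉ X r
  tT : ∀ h ∈ T, t * h = h * t
  TX : ∀ h ∈ T, ∀ x ∈ X r, h * x * h⁻¹ ∈ X r
  TP : ∀ h ∈ T, ∀ p ∈ P, h * p * h⁻¹ ∈ P
  Tab : ∀ h ∈ T, ∀ k ∈ T, h * k = k * h
  cP : ∀ c, t * c = c * t → (∀ p ∈ P, c * p = p * c) → c ∈ X r ∨ t * c ∈ X r
  perf : P ≤ ⁅P, P⁆
  nP0 : ∀ n : G, (∀ x ∈ X r, n * x * n⁻¹ ∈ X r) → t * (n * t * n⁻¹) ∈ X r → ∀ p ∈ P, n * p * n⁻¹ ∈ P
  o2 : ∀ R : Subgroup G, R ≤ P → IsPGroup 2 R → (∀ p ∈ P, ∀ x ∈ R, p * x * p⁻¹ ∈ R) → R ≤ QS X (Ph1 B Φ r) r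

namespace KR

variable {t : G} {B : L → L → ℤ} {Φ : Set L} {X : L → Subgroup G} {r : L} {P T : Subgroup G}

theorem tP (K : KR t B Φ X r P T) : ∀ p ∈ P, t * p = p * t := by
  have h1 : PR B Φ X r ≤ centralizer ({t} : Set G) := PR_le fun b hb _ x hx => by
    rw [mem_centralizer_singleton_iff]
    exact (K.tX b hb x hx).symm
  exact fun p hp => (mem_centralizer_singleton_iff.1 (h1 (K.pg.PPR hp))).symm

theorem XP (K : KR t B Φ X r P T) : ∀ x ∈ X r, ∀ p ∈ P, x * p = p * x := fun x hx p hp =>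
  K.rg.XP K.hr hx (K.pg.PPR hp)

theorem t_inv (K : KR t B Φ X r P T) : t⁻¹ = t := inv_eq_of_mul_eq_one_left K.tt

/-- The inverse of an element normalising `X` and `t X`. -/
theorem inv_norm (K : KR t B Φ X r P T) [Finite G] {n : G} (hX : ∀ x ∈ X r, n * x * n⁻¹ ∈ X r)
    (ht : t * (n * t * n⁻¹) ∈ X r) :
    (∀ x ∈ X r, n⁻¹ * x * n⁻¹⁻¹ ∈ X r) ∧ t * (n⁻¹ * t * n⁻¹⁻¹) ∈ X r := inv_normX K.tt hX ht

theorem nQ1 (K : KR t B Φ X r P T) [Finite G] {n : G} (hX : ∀ x ∈ X r, n * x * n⁻¹ ∈ X r)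
    (ht : t * (n * t * n⁻¹) ∈ X r) {q : G} (hq : q ∈ QS X (Ph1 B Φ r) r) :
    n * q * n⁻¹ ∈ QS X (Ph1 B Φ r) r := by
  obtain ⟨hX', ht'⟩ := K.inv_norm hX ht
  let R : Subgroup G := (QS X (Ph1 B Φ r) r).map (MulAut.conj n).toMonoidHom
  have hR : R ≤ QS X (Ph1 B Φ r) r := by
    apply K.o2 R
    · rintro _ ⟨q, hq, rfl⟩
      exact K.nP0 n hX ht _ (K.pg.QP hq)
    · exact (K.rg.isPGroup_Q K.hr).map _
    · rintro p hp _ ⟨q, hq, rfl⟩
      have h1 := K.nP0 n⁻¹ hX' ht' p hp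
      have h2 := K.rg.PQ K.hr (K.pg.PPR h1) hq
      refine ⟨_, h2, ?_⟩
      show n * (n⁻¹ * p * n⁻¹⁻¹ * q * (n⁻¹ * p * n⁻¹⁻¹)⁻¹) * n⁻¹ = p * (n * q * n⁻¹) * p⁻¹
      group
  exact hR ⟨q, hq, rfl⟩

/-- The hypotheses of `Setup`. -/
theorem setup (K : KR t B Φ X r P T) [Finite G] : Setup t (X r) (QS X (Ph1 B Φ r) r) P T where
  tt := K.tt
  tX := K.tr
  X2 := K.rg.X2 r K.hr
  XQ := X_le_QS X _ r
  QP := K.pg.QP
  tP := K.tP
  XP := K.XP
  PQ := fun p hp q hq => K.rg.PQ K.hr (K.pg.PPR hp) hq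
  tH := K.tT
  HX := K.TX
  nP := fun n hX ht => ⟨K.nP0 n hX ht, fun q hq => K.nQ1 hX ht hq⟩
  XQQ := K.rg.XQQ K.hr
  QQ := fun v hv w hw => K.rg.QQ K.hr hv hw
  ZQ := fun q hq hc => K.rg.ZQ K.hr hq hc
  E2 := fun f h1 h2 h3 h4 => K.rg.E2 K.hr K.pg f h1 h2 h3 h4
  noh := by
    intro f p
    have hcomm : ∀ a b : X r, a * b = b * a := fun a b => Subtype.ext
      (K.XP a a.2 b (K.pg.QP (X_le_QS X _ r b.2)))
    -- the kernel contains the commutators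
    have h1 : ⁅P, P⁆ ≤ f.ker.map P.subtype := by
      rw [commutator_le]
      intro a ha b hb
      refine ⟨⁅(⟨a, ha⟩ : P), ⟨b, hb⟩⁆, ?_, rfl⟩
      show f _ = 1
      rw [map_commutatorElement, commutatorElement_eq_one_iff_mul_comm]
      exact hcomm _ _
    obtain ⟨⟨p', hp'⟩, h2, h3⟩ := h1 (K.perf p.2)
    have : (⟨p', hp'⟩ : P) = p := Subtype.ext h3
    rw [← this]; exact h2

/-- The hypotheses of `Cent`. -/
theorem cent (K : KR t B Φ X r P T) (hex : ∀ x ∈ X r, ∃ b : G, (∀ p ∈ P, b * p = p * b) ∧ b * t * b⁻¹ = t * x) :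
    Cent t (X r) P where
  tt := K.tt
  tX := K.tr
  X2 := K.rg.X2 r K.hr
  XP := fun x hx => K.pg.QP (X_le_QS X _ r hx)
  tP := K.tP
  Xc := K.XP
  cP := K.cP
  ex := hex

theorem nice (K : KR t B Φ X r P T) {h k : G} (hh : h ∈ T) (hk : k ∈ T) : Nice t (X r) P h k where
  kt := (K.tT k hk).symm
  kX := by
    intro x
    refine ⟨K.TX k hk x, fun hx => ?_⟩
    have := K.TX k⁻¹ (inv_mem hk) _ hx
    have e : k⁻¹ * (k * x * k⁻¹) * k⁻¹⁻¹ = x := by group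
    rwa [e] at this
  kP := by
    intro p
    refine ⟨K.TP k hk p, fun hp => ?_⟩
    have := K.TP k⁻¹ (inv_mem hk) _ hp
    have e : k⁻¹ * (k * p * k⁻¹) * k⁻¹⁻¹ = p := by group
    rwa [e] at this
  kh := by
    have e : k * h * k⁻¹ * h⁻¹ = 1 := by rw [K.Tab k hk h hh]; group
    rw [e]; exact one_mem _

/-- The output at one root. -/
structure Out (t : G) (Xr P T W : Subgroup G) : Prop where
  dbl : IsDbl t Xr P W
  sq : ∀ w ∈ W, w * w ∈ Xr
  nrm : ∀ k ∈ T ⊔ P, ∀ w ∈ W, k * w * k⁻¹ ∈ W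

/-- `h` is fixed point free on `X`. -/
theorem fpf (K : KR t B Φ X r P T) (Htr : ∀ x ∈ X r, ∀ y ∈ X r, x ≠ 1 → y ≠ 1 → ∃ h ∈ T, h * x * h⁻¹ = y)
    {h : G} (hh : h ∈ T) (hne : ∃ x ∈ X r, h * x * h⁻¹ ≠ x) : ∀ x ∈ X r, h * x * h⁻¹ = x → x = 1 := by
  obtain ⟨x0, hx0, hne⟩ := hne
  have hx01 : x0 ≠ 1 := by
    rintro rfl
    apply hne; group
  intro x hx e
  by_contra hx1
  apply hne
  obtain ⟨k, hk, ek⟩ := Htr x hx x0 hx0 hx1 hx01
  have hc := K.Tab h hh k hk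
  calc h * x0 * h⁻¹ = (h * k) * x * (h * k)⁻¹ := by rw [← ek]; group
    _ = k * (h * x * h⁻¹) * k⁻¹ := by rw [hc]; group
    _ = x0 := by rw [e, ek]

/-- **The doubled root group from `Cent`, `q > 2`.** -/
theorem out_big (K : KR t B Φ X r P T) [Finite G] (C : Cent t (X r) P)
    (Htr : ∀ x ∈ X r, ∀ y ∈ X r, x ≠ 1 → y ≠ 1 → ∃ h ∈ T, h * x * h⁻¹ = y)
    {h : G} (hh : h ∈ T) {m : ℕ} (hm : Odd m) (hm1 : h ^ m = 1) (hne : ∃ x ∈ X r, h * x * h⁻¹ ≠ x) :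
    ∃ W, Out t (X r) P T W := by
  have hf := K.fpf Htr hh hne
  have hN := K.nice hh hh
  refine ⟨C.Wbig hN m, C.isDbl_big hN hm1 hm hf, fun w hw => ?_, ?_⟩
  · obtain ⟨h1, -⟩ := (C.mem_Wbig hN m).1 hw
    exact C.sq_mem h1
  · intro k hk
    have hle : T ⊔ P ≤
        { carrier := {k | (∀ w ∈ C.Wbig hN m, k * w * k⁻¹ ∈ C.Wbig hN m) ∧
            ∀ w ∈ C.Wbig hN m, k⁻¹ * w * k ∈ C.Wbig hN m}
          one_mem' := ⟨fun w hw => by simpa using hw, fun w hw => by simpa using hw⟩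
          mul_mem' := by
            rintro a b ⟨ha, ha'⟩ ⟨hb, hb'⟩
            refine ⟨fun w hw => ?_, fun w hw => ?_⟩
            · have := ha _ (hb w hw)
              have e : a * b * w * (a * b)⁻¹ = a * (b * w * b⁻¹) * a⁻¹ := by group
              rwa [e]
            · have := hb' _ (ha' w hw)
              have e : (a * b)⁻¹ * w * (a * b) = b⁻¹ * (a⁻¹ * w * a) * b := by group
              rwa [e]
          inv_mem' := by
            rintro a ⟨ha, ha'⟩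
            exact ⟨fun w hw => by simpa using ha' w hw, fun w hw => by simpa using ha w hw⟩ : Subgroup G } := by
      refine sup_le (fun k hk => ⟨fun w hw => C.nice_big hN m (K.nice hh hk) hw, fun w hw => ?_⟩)
        fun k hk => ⟨fun w hw => ?_, fun w hw => ?_⟩
      · have := C.nice_big hN m (K.nice hh (inv_mem hk)) hw
        rwa [inv_inv] at this
      · rw [← (C.isDbl_big hN hm1 hm hf).WP w hw k hk, mul_inv_cancel_right]
        exact hw
      · rw [mul_assoc, (C.isDbl_big hN hm1 hm hf).WP w hw k hk, inv_mul_cancel_left]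
        exact hw
    exact (hle hk).1

/-- **The doubled root group, `q = 2`**: `n` acts on `P/Q` as an element of `P`. -/
theorem exists_two (K : KR t B Φ X r P T) (pt : PT B Φ X r P) [Finite G] {z : G} (hz : ∀ x ∈ X r, x = 1 ∨ x = z)
    {n : G} (hX : ∀ x ∈ X r, n * x * n⁻¹ ∈ X r) (ht : t * (n * t * n⁻¹) ∈ X r) (hnt : n * t * n⁻¹ ≠ t)
    {p0 : G} (hp0 : p0 ∈ P) (hin : ∀ p ∈ P, n * p * n⁻¹ * (p0 * p * p0⁻¹)⁻¹ ∈ QS X (Ph1 B Φ r) r) :
    ∃ W, Out t (X r) P T W ∧ (∀ w ∈ W, w * w = 1) ∧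
      ∀ k, Nice t (X r) P 1 k → ∀ w ∈ W, k * w * k⁻¹ ∈ W := by
  have S := K.setup
  have hn : n ∈ S.N := by
    refine ⟨hX, fun x hx => ?_, ht⟩
    have := (K.inv_norm hX ht).1 x hx
    rwa [inv_inv] at this
  have C : Cent t (X r) P := K.cent fun x hx => S.exists_cent_of_inner
    (fun n h2 hQ hX hP q hq => K.rg.lin K.hr K.pg.PPR pt h2 hQ hX hP hq) hz hn hnt hp0 hin hx
  refine ⟨C.Wtwo hz, ⟨C.isDbl_two hz, fun w hw => ?_, ?_⟩, fun w hw => hw.2.1, fun k hk w hw => C.nice_two hz hk hw⟩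
  · rw [hw.2.1]; exact one_mem _
  · intro k hk
    have hle : T ⊔ P ≤
        { carrier := {k | (∀ w ∈ C.Wtwo hz, k * w * k⁻¹ ∈ C.Wtwo hz) ∧
            ∀ w ∈ C.Wtwo hz, k⁻¹ * w * k ∈ C.Wtwo hz}
          one_mem' := ⟨fun w hw => by simpa using hw, fun w hw => by simpa using hw⟩
          mul_mem' := by
            rintro a b ⟨ha, ha'⟩ ⟨hb, hb'⟩
            refine ⟨fun w hw => ?_, fun w hw => ?_⟩
            · have := ha _ (hb w hw)
              have e : a * b * w * (a * b)⁻¹ = a * (b * w * b⁻¹) * a⁻¹ := by group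
              rwa [e]
            · have := hb' _ (ha' w hw)
              have e : (a * b)⁻¹ * w * (a * b) = b⁻¹ * (a⁻¹ * w * a) * b := by group
              rwa [e]
          inv_mem' := by
            rintro a ⟨ha, ha'⟩
            exact ⟨fun w hw => by simpa using ha' w hw, fun w hw => by simpa using ha w hw⟩ : Subgroup G } := by
      refine sup_le (fun k hk => ⟨fun w hw => C.nice_two hz (K.nice (one_mem T) hk) hw, fun w hw => ?_⟩)
        fun k hk => ⟨fun w hw => ?_, fun w hw => ?_⟩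
      · have := C.nice_two hz (K.nice (one_mem T) (inv_mem hk)) hw
        rwa [inv_inv] at this
      · rw [← (C.isDbl_two hz).WP w hw k hk, mul_inv_cancel_right]
        exact hw
      · rw [mul_assoc, (C.isDbl_two hz).WP w hw k hk, inv_mul_cancel_left]
        exact hw
    exact (hle hk).1

end KR

/-! ### `q > 2`: everything from the root groups and the torus -/

section Big

variable {t : G} {B : L → L → ℤ} {Φ : Set L} {X : L → Subgroup G} {r : L} {T : Subgroup G}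

theorem SX_eq_PR : Vzero.SX X (Vzero.Ps B Φ r) = PR B Φ X r := by
  apply le_antisymm
  · exact Vzero.SX_le fun a ha => le_PR X ha.1 ha.2
  · exact PR_le fun b hb h0 => Vzero.le_SX (show b ∈ Vzero.Ps B Φ r from ⟨hb, h0⟩)

theorem SX_eq_QS (h : RG B Φ X) (hr : r ∈ Φ) : Vzero.SX X (Vzero.Qs B Φ r) = QS X (Ph1 B Φ r) r := by
  have R := h.roots
  apply le_antisymm
  · refine Vzero.SX_le fun a ha => ?_
    have h1 := R.le a ha.1 r hr
    have h2 := ha.2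
    rcases (show B a r = 1 ∨ B a r = 2 by omega) with h3 | h3
    · exact le_QS X r (show a ∈ Ph1 B Φ r from ⟨ha.1, h3⟩)
    · rw [R.eq a ha.1 r hr h3]; exact X_le_QS X _ r
  · refine QS_le (Vzero.le_SX (show r ∈ Vzero.Qs B Φ r from ⟨hr, by rw [R.two r hr]; norm_num⟩)) fun b hb =>
      Vzero.le_SX (show b ∈ Vzero.Qs B Φ r from ⟨hb.1, by rw [hb.2]⟩)

theorem vzRG (h : RG B Φ X) : Vzero.RG B Φ X where
  roots := h.roots
  pos := h.pos
  neg := h.neg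
  onto := by
    intro a ha b hb hab y hy hy1 z hz
    have hba : B b a = -1 := by rw [h.roots.symm]; exact hab
    have hsum := h.roots.add a ha b hb hab
    have hz' : z⁻¹ ∈ X (b + a) := by rw [add_comm]; exact inv_mem hz
    obtain ⟨x, hx, e⟩ := h.sur b hb a ha hba y hy hy1 _ hz'
    refine ⟨x, hx, ?_⟩
    have : x * y * x⁻¹ * y⁻¹ = (y * x * y⁻¹ * x⁻¹)⁻¹ := by group
    rw [this, e, inv_inv]
  ne := h.ne

/-- The torus elements used for `q > 2`. -/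
structure Tor (B : L → L → ℤ) (Φ : Set L) (X : L → Subgroup G) (r : L) (T : Subgroup G) (β : L) (h k : G) : Prop where
  mβ : β ∈ Φ
  βr : B β r = 0
  mh : h ∈ T
  kT : k ∈ T
  kP : k ∈ PR B Φ X r
  /-- `h = k` on `X c`, `(c, r) = (c, β) = 1` -/
  hk : ∀ c ∈ Φ, B c r = 1 → B c β = 1 → ∀ x ∈ X c, h * x * h⁻¹ = k * x * k⁻¹
  /-- `h` centralises the root groups orthogonal to `r` -/
  h0 : ∀ b ∈ Φ, B b r = 0 → ∀ x ∈ X b, h * x = x * h
  ne : ∃ x ∈ X r, h * x * h⁻¹ ≠ x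
  odd : ∃ m, Odd m ∧ h ^ m = 1

/-- `h` is trivial on `P / Q`. -/
theorem triv_PQ (K : KR t B Φ X r (PR B Φ X r) T) (TX : ∀ h ∈ T, ∀ a ∈ Φ, ∀ x ∈ X a, h * x * h⁻¹ ∈ X a)
    {h : G} (hh : h ∈ T) (h0 : ∀ b ∈ Φ, B b r = 0 → ∀ x ∈ X b, h * x = x * h) :
    ∀ p ∈ PR B Φ X r, h * p * h⁻¹ * p⁻¹ ∈ QS X (Ph1 B Φ r) r := by
  have hr := K.hr
  have R := K.rg.roots
  let D : Subgroup G :=
    { carrier := {p | p ∈ PR B Φ X r ∧ h * p * h⁻¹ * p⁻¹ ∈ QS X (Ph1 B Φ r) r}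
      one_mem' := ⟨one_mem _, by rw [mul_one, mul_inv_cancel, inv_one, mul_one]; exact one_mem _⟩
      mul_mem' := by
        rintro a b ⟨ha, ha2⟩ ⟨hb, hb2⟩
        refine ⟨mul_mem ha hb, ?_⟩
        have e : h * (a * b) * h⁻¹ * (a * b)⁻¹ = (h * a * h⁻¹ * a⁻¹) * (a * (h * b * h⁻¹ * b⁻¹) * a⁻¹) := by group
        rw [e]
        exact mul_mem ha2 (K.rg.PQ hr ha hb2)
      inv_mem' := by
        rintro a ⟨ha, ha2⟩
        refine ⟨inv_mem ha, ?_⟩
        have e : h * a⁻¹ * h⁻¹ * a⁻¹⁻¹ = a⁻¹ * (h * a * h⁻¹ * a⁻¹)⁻¹ * a⁻¹⁻¹ := by group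
        rw [e]
        exact K.rg.PQ hr (inv_mem ha) (inv_mem ha2) }
  have hle : PR B Φ X r ≤ D := by
    refine PR_le fun b hb hb0 x hx => ⟨le_PR X hb hb0 hx, ?_⟩
    have h1 := R.le b hb r hr
    have hx' := TX h hh b hb x hx
    rcases (show B b r = 0 ∨ B b r = 1 ∨ B b r = 2 by omega) with h3 | h3 | h3
    · have e : h * x * h⁻¹ * x⁻¹ = 1 := by rw [h0 b hb h3 x hx]; group
      rw [e]; exact one_mem _
    · exact mul_mem (le_QS X r (show b ∈ Ph1 B Φ r from ⟨hb, h3⟩) hx')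
        (inv_mem (le_QS X r (show b ∈ Ph1 B Φ r from ⟨hb, h3⟩) hx))
    · have h4 := R.eq b hb r hr h3
      rw [h4] at hx hx'
      exact mul_mem (X_le_QS X _ r hx') (inv_mem (X_le_QS X _ r hx))
  exact fun p hp => (hle hp).2

/-- **`C_G(P)` moves `t`, `q > 2`**, `P = ⟨X b : (b, r) ≥ 0⟩`, with torus elements `h`, `k`. -/
theorem cent_of_tor (K : KR t B Φ X r (PR B Φ X r) T) [Finite G]
    (orth : ∀ r ∈ Φ, ∀ s ∈ Φ, B r s = 0 → ∃ a ∈ Φ, B a r = 1 ∧ B a s = -1)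
    (TX : ∀ h ∈ T, ∀ a ∈ Φ, ∀ x ∈ X a, h * x * h⁻¹ ∈ X a)
    (Htr : ∀ x ∈ X r, ∀ y ∈ X r, x ≠ 1 → y ≠ 1 → ∃ h ∈ T, h * x * h⁻¹ = y)
    {β : L} {h k : G} (Hk : Tor B Φ X r T β h k)
    {n : G} (hX : ∀ x ∈ X r, n * x * n⁻¹ ∈ X r) (ht : t * (n * t * n⁻¹) ∈ X r) (hnt : n * t * n⁻¹ ≠ t) :
    Cent t (X r) (PR B Φ X r) := by
  have hr := K.hr
  have R := K.rg.roots
  have hhP := triv_PQ K TX Hk.mh Hk.h0
  have hf := K.fpf Htr Hk.mh Hk.ne
  have hn : n ∈ K.setup.N := by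
    refine ⟨hX, fun x hx => ?_, ht⟩
    have := (K.inv_norm hX ht).1 x hx
    rwa [inv_inv] at this
  refine K.cent fun x hx => K.setup.exists_cent_of_h Htr Hk.mh hhP
    (fun x hx e => hf x hx (by rw [e, mul_inv_cancel_right])) ?_ hn hnt hx
  -- the commutator with `h`
  have eQ := SX_eq_QS K.rg hr
  have eP : Vzero.SX X (Vzero.Ps B Φ r) = PR B Φ X r := SX_eq_PR
  have S := K.setup
  have hC : ∀ c ∈ S.C4, c ∈ Vzero.Cq (X r) (Vzero.SX X (Vzero.Qs B Φ r)) (Vzero.SX X (Vzero.Ps B Φ r)) := by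
    intro c hc
    rw [eQ, eP, Vzero.mem_Cq]
    refine ⟨hc.1.1, hc.1.2.1, fun q hq => S.N_Q hc.1 hq, fun q hq => ?_, hc.2⟩
    have := S.N_Q (inv_mem hc.1) hq
    rwa [inv_inv] at this
  have hhC : h ∈ S.C4 := ⟨S.H_le Hk.mh, hhP⟩
  intro c hc q hq
  have hi : ∀ g ∈ T, ∀ a ∈ Φ, ∀ x ∈ X a, g⁻¹ * x * g ∈ X a := fun g hg a ha x hx => by
    have := TX g⁻¹ (inv_mem hg) a ha x hx
    rwa [inv_inv] at this
  refine (vzRG K.rg).comm_D orth hr Hk.mβ Hk.βr ?_ (TX h Hk.mh) (hi h Hk.mh) (TX k Hk.kT) (hi k Hk.kT) ?_ Hk.hk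
    (hC h hhC) (hC c hc) ?_
  · intro q hq hc
    rw [eQ] at hq hc
    exact K.rg.ZQ hr hq hc
  · rw [eP]; exact Hk.kP
  · rw [eQ]; exact hq

/-- **`C_G(P)` moves `t`, `q > 2`**, `P = ⟨X b : (b, r) ≥ 0⟩`, with `sep`. -/
theorem cent_of_sep (K : KR t B Φ X r (PR B Φ X r) T) (pt : PT B Φ X r (PR B Φ X r)) [Finite G]
    (TX : ∀ h ∈ T, ∀ a ∈ Φ, ∀ x ∈ X a, h * x * h⁻¹ ∈ X a)
    (Htr : ∀ x ∈ X r, ∀ y ∈ X r, x ≠ 1 → y ≠ 1 → ∃ h ∈ T, h * x * h⁻¹ = y)
    {h : G} (hh : h ∈ T) (h0 : ∀ b ∈ Φ, B b r = 0 → ∀ x ∈ X b, h * x = x * h)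
    (hne : ∃ x ∈ X r, h * x * h⁻¹ ≠ x)
    {n : G} (hX : ∀ x ∈ X r, n * x * n⁻¹ ∈ X r) (ht : t * (n * t * n⁻¹) ∈ X r) (hnt : n * t * n⁻¹ ≠ t) :
    Cent t (X r) (PR B Φ X r) := by
  have hn : n ∈ K.setup.N := by
    refine ⟨hX, fun x hx => ?_, ht⟩
    have := (K.inv_norm hX ht).1 x hx
    rwa [inv_inv] at this
  exact K.cent fun x hx => K.setup.exists_cent_of_big
    (fun n h2 hQ hX hP q hq => K.rg.lin K.hr K.pg.PPR pt h2 hQ hX hP hq) Htr
    ⟨h, hh, triv_PQ K TX hh h0, hne⟩ hn hnt hx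

end Big

end Cfsg.Agent.OddHalf.D7Ex
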