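import Cfsg.Agent.OddHalf.SL.OfDatum
import Cfsg.Agent.OddHalf.SL.Two60
import Cfsg.Agent.OddHalf.D7Ex.SetupOf

/-!
# The existence of the doubled root group: the facts on `K` from a root group datum

* `rg` : `RG`; `pg` : `PG`; `exists_move_self` : `δ ∈ T ⊓ ⟨X a, X (-a)⟩` moving `u' ∈ X a` (if `|X a| > 2`);
* `perf` : `P = ⟨X b : (b, r) ≥ 0⟩` is perfect; `kr` : `KR`; `exists_out` : the doubled root group at one root.
-/

set_option autoImplicit false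
set_option linter.unusedSectionVars false

namespace Cfsg.Agent.OddHalf.D7Ex.KData

open Cfsg.Agent.OddHalf.SL Cfsg.Agent.KFacts CoxeterSystem Cfsg.Agent.ChevalleyStructure.CoxeterGeom Cfsg.Agent.Tits.Roots Cfsg.Agent.Tits.Core
  Cfsg.Agent.Tits.RootComb Cfsg.Agent.Nodes.Comb Cfsg.Agent.Nodes.Reps Cfsg.Agent.Nodes.BNOf
  Cfsg.Agent.Nodes.Bruhat Cfsg.Agent.Nodes.Coroot Cfsg.Agent.OddHalf.SL.Index Cfsg.Agent.OddHalf.SL.OfRGD
  Cfsg.Agent.OddHalf.SL.PreOf Cfsg.Agent.KFacts.RgdPar Cfsg.Agent.KFacts.RgdSL Cfsg.Agent.KFacts.RgdTI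
  Cfsg.Agent.KFacts.RgdCent Cfsg.Agent.KFacts.RgdOdd Cfsg.Agent.KFacts.RgdEx Cfsg.Agent.KFacts.SLRow.Def
  Cfsg.Agent.OddHalf.SL.OfDatum
open scoped commutatorElement

variable {I W G : Type*} [Fintype I] [DecidableEq I] [Group W] [Group G] {M : CoxeterMatrix I}
  {cs : CoxeterSystem M W} {A : I → I → ℤ} {h : IsCartan M A} {T : Subgroup G} {n : I → G}
  {X : (I → ℤ) → Subgroup G} {K : Subgroup G} {q : ℕ} {t : G}

/-! ### Torus elements moving their root group -/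

section Self

variable [Finite W] {p : ℕ} (R : RGD cs h p T n X)

include R

theorem exists_ne {x : I → ℤ} (hx : IsRoot cs h x) : ∃ u ∈ X x, u ≠ 1 := by
  have := Cfsg.Agent.OddHalf.SL.OfRGD.X_ne_bot R hx
  rw [Subgroup.ne_bot_iff_exists_ne_one] at this
  obtain ⟨⟨a, ha⟩, h1⟩ := this
  exact ⟨a, ha, fun h2 => h1 (Subtype.ext h2)⟩

/-- `a`, `b` at `120°`, `u ≠ u'` nontrivial involutions of `X a`: some `δ ∈ T ⊓ ⟨X a, X (-a)⟩` moves `u'`. -/
theorem exists_move_self {a b : I → ℤ} (hA : A2 cs h a b) (sqa : ∀ x ∈ X a, x * x = 1)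
    (sqb : ∀ x ∈ X b, x * x = 1) {u u' : G} (hu : u ∈ X a) (hu' : u' ∈ X a)
    (hu1 : u ≠ 1) (hu1' : u' ≠ 1) (hne : u ≠ u') : ∃ δ ∈ T ⊓ (X a ⊔ X (-a)), δ * u' * δ⁻¹ ≠ u' := by
  obtain ⟨s, hs, c, hc, d, hd, m, hm, he⟩ := exists_mu R hA.rx hu hu1
  obtain ⟨s', hs', c', hc', d', hd', m', hm', he'⟩ := exists_mu R hA.rx hu' hu1'
  have hss : s = s' := by
    have : s'⁻¹ * s = 1 := by
      refine eq_one_of_fix cs h _ fun i => ?_
      have h3 : rep cs h s (sr i) = rep cs h s' (sr i) := by rw [hs, hs']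
      show rep cs h (s'⁻¹ * s) (sr i) = sr i
      rw [rep_mul_apply, h3, rep_inv_apply]
    exact (inv_mul_eq_one.1 this).symm
  subst hss
  -- the actions
  have e1 : ∀ v ∈ X b, ⁅u, v⁆ = m * v * m⁻¹ := fun v hv => A2.comm_eq R hA hu hv hc hd hs hm he
  have e2 : ∀ v ∈ X b, ⁅u', v⁆ = m' * v * m'⁻¹ := fun v hv => A2.comm_eq R hA hu' hv hc' hd' hs hm' he'
  -- `s` is an involution
  have hssq : s⁻¹ = s := by
    have : s * s = 1 := by
      refine eq_one_of_fix cs h _ fun i => ?_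
      rw [rep_mul_apply, hs (Pi.single i 1), map_sub, map_smul, hs (Pi.single i 1), hs a, cpr_self cs h hA.rx]
      module
    exact inv_eq_of_mul_eq_one_left this
  have inv_of : ∀ {u c d m : G}, u ∈ X a → c ∈ X (-a) → d ∈ X (-a) → Rp cs R.nsys s m → m = c * u * d →
      ∀ v ∈ X b, ⁅u, v⁆ = m⁻¹ * v * m := by
    intro u c d m hu hc hd hm he v hv
    have h1 : m⁻¹ = d⁻¹ * u * c⁻¹ := by
      have : u⁻¹ = u := inv_eq_of_mul_eq_one_left (sqa u hu)
      rw [he, mul_inv_rev, mul_inv_rev, this]; group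
    have hm2 : Rp cs R.nsys s m⁻¹ := by
      have := hm.inv
      rwa [hssq] at this
    have := A2.comm_eq R hA hu hv (inv_mem hd) (inv_mem hc) hs hm2 h1
    rwa [inv_inv] at this
  have e1' := inv_of hu hc hd hm he
  have e2' := inv_of hu' hc' hd' hm' he'
  refine ⟨m⁻¹ * m', Subgroup.mem_inf.2 ⟨hm.unique hm', ?_⟩, ?_⟩
  · rw [he, he']
    have k1 : ∀ x ∈ X a, x ∈ X a ⊔ X (-a) := fun x hx => Subgroup.mem_sup_left hx
    have k2 : ∀ x ∈ X (-a), x ∈ X a ⊔ X (-a) := fun x hx => Subgroup.mem_sup_right hx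
    exact mul_mem (inv_mem (mul_mem (mul_mem (k2 _ hc) (k1 _ hu)) (k2 _ hd)))
      (mul_mem (mul_mem (k2 _ hc') (k1 _ hu')) (k2 _ hd'))
  · intro hcon
    -- `δ = m⁻¹ m'` maps `X b` to itself
    have hδT : m⁻¹ * m' ∈ T := hm.unique hm'
    have hδb : ∀ v ∈ X b, m⁻¹ * m' * v * (m⁻¹ * m')⁻¹ ∈ X b := by
      intro v hv
      have := R.tor b hA.ry _ hδT
      rw [← this]
      exact conj_mem_cj.2 hv
    -- (1) `[u, δ v] = [u', v]`
    have f1 : ∀ v ∈ X b, ⁅u, m⁻¹ * m' * v * (m⁻¹ * m')⁻¹⁆ = ⁅u', v⁆ := by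
      intro v hv
      rw [e1 _ (hδb v hv), e2 v hv]; group
    -- (2) `δ [u', v] δ⁻¹ = [u, v]`
    have f2 : ∀ v ∈ X b, m⁻¹ * m' * ⁅u', v⁆ * (m⁻¹ * m')⁻¹ = ⁅u, v⁆ := by
      intro v hv
      rw [e2' v hv, e1' v hv]; group
    -- (3) `[u', δ v] = [u, v]`
    have f3 : ∀ v ∈ X b, ⁅u', m⁻¹ * m' * v * (m⁻¹ * m')⁻¹⁆ = ⁅u, v⁆ := by
      intro v hv
      rw [← f2 v hv]
      have : m⁻¹ * m' * ⁅u', v⁆ * (m⁻¹ * m')⁻¹ =
          ⁅m⁻¹ * m' * u' * (m⁻¹ * m')⁻¹, m⁻¹ * m' * v * (m⁻¹ * m')⁻¹⁆ := by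
        rw [commutatorElement_def, commutatorElement_def]; group
      rw [this, hcon]
    -- no fixed points
    have nofix : ∀ v ∈ X b, m⁻¹ * m' * v * (m⁻¹ * m')⁻¹ = v → v = 1 := by
      intro v hv e
      by_contra hv1
      apply hne
      have h1 := f3 v hv
      rw [e] at h1
      have h2 : ⁅v, u⁆ = ⁅v, u'⁆ := by
        rw [← commutatorElement_inv, ← h1, commutatorElement_inv]
      exact A2.comm_inj R hA.symm hv hv1 hu hu' h2
    obtain ⟨v, hv, hv1⟩ := exists_ne R hA.ry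
    have hv2 := hδb v hv
    have hv3 := hδb _ hv2
    have hδ2 : m⁻¹ * m' * (m⁻¹ * m' * v * (m⁻¹ * m')⁻¹) * (m⁻¹ * m')⁻¹ = v := by
      have h1 := f1 _ hv2
      rw [f3 v hv] at h1
      exact A2.comm_inj R hA hu hu1 hv3 hv h1
    have hcomm : v * (m⁻¹ * m' * v * (m⁻¹ * m')⁻¹) = (m⁻¹ * m' * v * (m⁻¹ * m')⁻¹) * v := by
      have h1 := sqb _ (mul_mem hv hv2)
      have h2 := sqb _ hv
      have h3 := sqb _ hv2
      generalize m⁻¹ * m' * v * (m⁻¹ * m')⁻¹ = w at *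
      calc v * w = v * (v * w * (v * w)) * w := by rw [h1, mul_one]
        _ = (v * v) * (w * v) * (w * w) := by group
        _ = w * v := by rw [h2, h3, one_mul, mul_one]
    have hw := nofix (v * (m⁻¹ * m' * v * (m⁻¹ * m')⁻¹)) (mul_mem hv hv2) (by
      calc m⁻¹ * m' * (v * (m⁻¹ * m' * v * (m⁻¹ * m')⁻¹)) * (m⁻¹ * m')⁻¹
          = (m⁻¹ * m' * v * (m⁻¹ * m')⁻¹) * (m⁻¹ * m' * (m⁻¹ * m' * v * (m⁻¹ * m')⁻¹) * (m⁻¹ * m')⁻¹) := by
            group
        _ = (m⁻¹ * m' * v * (m⁻¹ * m')⁻¹) * v := by rw [hδ2]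
        _ = _ := hcomm.symm)
    apply hv1
    apply nofix v hv
    have h1 : m⁻¹ * m' * v * (m⁻¹ * m')⁻¹ = v⁻¹ := eq_inv_of_mul_eq_one_right hw
    rw [h1]
    exact inv_eq_of_mul_eq_one_left (sqb v hv)

end Self

/-! ### The root groups -/

section Data

variable [Finite W] [Finite G] (D : Datum K q cs h T n X)

include D

theorem rg : RG (Bf A) {x | IsRoot cs h x} X := by
  have hR := roots cs h D.h4 D.h6
  have ha2 : ∀ {x y : I → ℤ}, IsRoot cs h x → IsRoot cs h y → Bf A x y = -1 → A2 cs h x y :=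
    fun hx hy hxy => a2 D.h4 D.h6 hx hy hxy
  have : Fact (Nat.Prime 2) := ⟨Nat.prime_two⟩
  constructor
  · exact hR
  · intro r hr x hx
    obtain ⟨s, hs, hrs⟩ := exists_neg_one D.h4 D.h6 D.irr D.three hr
    rw [← pow_two]
    exact Cfsg.Agent.OddHalf.SL.PreOf.pow_eq_one D.rgd (ha2 hs hr (by rw [hR.symm]; exact hrs)).symm hx
  · intro a ha b hb h0 x hx y hy
    by_cases hab : a = b
    · subst hab
      obtain ⟨s, hs, hrs⟩ := exists_neg_one D.h4 D.h6 D.irr D.three ha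
      have h1 : IsRoot cs h (a + s) := hR.add a ha s hs hrs
      have h2 : Bf A (a + s) (-s) = -1 := by
        rw [hR.add_left, hR.neg_right, hR.neg_right, hrs, hR.two s hs]; norm_num
      have h3 := ha2 h1 (hR.neg_mem s hs) h2
      refine A2.comm_self D.rgd h3 ?_ ?_
      · rw [add_neg_cancel_right]; exact hx
      · rw [add_neg_cancel_right]; exact hy
    · exact comm_nonneg D.h4 D.h6 D.rgd ha hb hab h0 x hx y hy
  · intro a ha b hb hab x hx y hy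
    exact comm_neg_one D.h4 D.h6 D.rgd ha hb hab x hx y hy
  · intro a ha b hb hab x hx hx1 z hz
    exact A2.comm_surj D.rgd (ha2 ha hb hab) hx hx1 hz
  · intro a ha b hb hab x hx y hy hxy
    by_contra hcon
    push Not at hcon
    exact (ha2 ha hb hab).comm_ne_one D.rgd hx hcon.1 hy hcon.2 (commutatorElement_eq_one_iff_mul_comm.2 hxy)
  · intro r hr
    exact exists_ne D.rgd hr
  · intro r hr
    obtain ⟨s, hs, hrs⟩ := exists_neg_one D.h4 D.h6 D.irr D.three hr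
    exact ⟨-s, hs.neg, by rw [hR.neg_left, hR.symm, hrs]; norm_num⟩

/-- every root of `Ph1` has a neighbour orthogonal to `r` -/
theorem exists_orth {r b : I → ℤ} (hr : IsRoot cs h r) (hb : b ∈ Ph1 (Bf A) {x | IsRoot cs h x} r) :
    ∃ d, IsRoot cs h d ∧ Bf A d r = 0 ∧ Bf A b d = 1 := by
  have hR := roots cs h D.h4 D.h6
  obtain ⟨m, hm, h1, h2⟩ := three D.h4 D.h6 D.irr D.three b hb.1 r hr hb.2
  refine ⟨b - m, hR.sub_mem hb.1 hm (by rw [hR.symm]; exact h1), ?_, ?_⟩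
  · rw [hR.sub_left, hb.2, h2]; norm_num
  · rw [hR.sub_right, hR.two b hb.1, hR.symm b m, h1]; norm_num

theorem pg {r : I → ℤ} (hr : IsRoot cs h r) :
    PG (Bf A) {x | IsRoot cs h x} X r (PR (Bf A) {x | IsRoot cs h x} X r) where
  QP := (rg D).QS_le_PR hr subset_rfl
  PPR := le_rfl
  ex := by
    intro b hb
    obtain ⟨d, hd, h1, h2⟩ := exists_orth D hr hb
    exact ⟨d, hd, le_PR X hd (by rw [h1]), h1, h2⟩

theorem TX' : ∀ g ∈ T, ∀ a ∈ {x | IsRoot cs h x}, ∀ x ∈ X a, g * x * g⁻¹ ∈ X a := by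
  intro g hg a ha x hx
  rw [← D.rgd.tor a ha g hg]
  exact conj_mem_cj.2 hx

/-- `T` normalises `P`. -/
theorem TP' {r : I → ℤ} : ∀ g ∈ T, ∀ p ∈ PR (Bf A) {x | IsRoot cs h x} X r,
    g * p * g⁻¹ ∈ PR (Bf A) {x | IsRoot cs h x} X r := by
  intro g hg p hp
  have hle : PR (Bf A) {x | IsRoot cs h x} X r ≤
      (PR (Bf A) {x | IsRoot cs h x} X r).comap (MulAut.conj g).toMonoidHom :=
    PR_le fun b hb h0 x hx => le_PR X hb h0 (TX' D g hg b hb x hx)
  exact hle hp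

/-- two different nontrivial elements -/
theorem exists_two (hq : 2 < q) {r : I → ℤ} (hr : IsRoot cs h r) : ∃ x ∈ X r, ∃ y ∈ X r, x ≠ 1 ∧ y ≠ 1 ∧ x ≠ y := by
  have h1 : 2 < Nat.card ↥(X r) := by rw [D.card r hr]; exact hq
  by_contra hcon
  push Not at hcon
  obtain ⟨x, hx, hx1⟩ := exists_ne D.rgd hr
  have h3 : ∀ y : ↥(X r), y = 1 ∨ y = ⟨x, hx⟩ := by
    intro y
    by_contra hy
    push Not at hy
    exact hy.2 (Subtype.ext (hcon x hx y y.2 hx1 (fun e => hy.1 (Subtype.ext e))).symm)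
  have h4 : Nat.card ↥(X r) ≤ 2 := by
    have hs : Function.Surjective (fun b : Bool => if b then (1 : ↥(X r)) else ⟨x, hx⟩) := by
      intro y
      rcases h3 y with rfl | rfl
      · exact ⟨true, rfl⟩
      · exact ⟨false, rfl⟩
    have := Nat.card_le_card_of_surjective _ hs
    simpa using this
  omega

/-- `T` is transitive on `X r#`. -/
theorem trans {r : I → ℤ} (hr : IsRoot cs h r) :
    ∀ x ∈ X r, ∀ y ∈ X r, x ≠ 1 → y ≠ 1 → ∃ g ∈ T, g * x * g⁻¹ = y := by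
  intro x hx y hy hx1 hy1
  have hR := roots cs h D.h4 D.h6
  obtain ⟨s, hs, hrs⟩ := exists_neg_one D.h4 D.h6 D.irr D.three hr
  have hA := a2 D.h4 D.h6 hs hr (by rw [hR.symm]; exact hrs)
  obtain ⟨g, hg, e⟩ := A2.tor_trans D.rgd hA hx hx1 hy hy1
  exact ⟨g, (Subgroup.mem_inf.1 hg).1, e⟩

/-- A torus element of `⟨X r, X (-r)⟩` moving `X r`. -/
theorem exists_h (hq : 2 < q) {r : I → ℤ} (hr : IsRoot cs h r) :
    ∃ g ∈ T ⊓ (X r ⊔ X (-r)), ∃ x ∈ X r, g * x * g⁻¹ ≠ x := by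
  have hR := roots cs h D.h4 D.h6
  obtain ⟨s, hs, hrs⟩ := exists_neg_one D.h4 D.h6 D.irr D.three hr
  obtain ⟨x, hx, y, hy, hx1, hy1, hxy⟩ := exists_two D hq hr
  obtain ⟨g, hg, e⟩ := exists_move_self D.rgd (a2 D.h4 D.h6 hr hs hrs) ((rg D).X2 r hr)
    ((rg D).X2 s hs) hx hy hx1 hy1 hxy
  exact ⟨g, hg, y, hy, e⟩

/-- `P` is perfect. -/
theorem perf (hq : 2 < q) {r : I → ℤ} (hr : IsRoot cs h r) : PR (Bf A) {x | IsRoot cs h x} X r ≤
    ⁅PR (Bf A) {x | IsRoot cs h x} X r, PR (Bf A) {x | IsRoot cs h x} X r⁆ := by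
  have hR := roots cs h D.h4 D.h6
  refine PR_le fun b hb h0 => ?_
  have h1 := hR.le b hb r hr
  rcases (show Bf A b r = 0 ∨ Bf A b r = 1 ∨ Bf A b r = 2 by omega) with h2 | h2 | h2
  · -- `b ⟂ r`: the torus
    obtain ⟨g, hg, x, hx, hne⟩ := exists_h D hq hb
    have hbP : X b ≤ PR (Bf A) {x | IsRoot cs h x} X r := le_PR X hb h0
    have hnP : X (-b) ≤ PR (Bf A) {x | IsRoot cs h x} X r := le_PR X hb.neg (by rw [hR.neg_left, h2]; norm_num)
    have hgP : g ∈ PR (Bf A) {x | IsRoot cs h x} X r := (sup_le hbP hnP) (Subgroup.mem_inf.1 hg).2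
    have hx0 := Subgroup.commutator_mem_commutator hgP (hbP hx)
    have hx0' : ⁅g, x⁆ ∈ X b := by
      rw [commutatorElement_def]
      exact mul_mem (TX' D g (Subgroup.mem_inf.1 hg).1 b hb x hx) (inv_mem hx)
    have hx01 : ⁅g, x⁆ ≠ 1 := by
      intro e
      apply hne
      rw [commutatorElement_def] at e
      exact mul_inv_eq_one.1 e
    intro y hy
    by_cases hy1 : y = 1
    · rw [hy1]; exact one_mem _
    obtain ⟨k, hk, e⟩ := trans D hb _ hx0' y hy hx01 hy1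
    rw [← e]
    have hle : ⁅PR (Bf A) {x | IsRoot cs h x} X r, PR (Bf A) {x | IsRoot cs h x} X r⁆ ≤
        ⁅PR (Bf A) {x | IsRoot cs h x} X r, PR (Bf A) {x | IsRoot cs h x} X r⁆.comap (MulAut.conj k).toMonoidHom := by
      rw [Subgroup.commutator_le]
      intro a ha c hc
      rw [Subgroup.mem_comap, map_commutatorElement]
      exact Subgroup.commutator_mem_commutator (TP' D k hk a ha) (TP' D k hk c hc)
    exact hle hx0
  · have hb1 : b ∈ Ph1 (Bf A) {x | IsRoot cs h x} r := ⟨hb, h2⟩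
    obtain ⟨d, hd, h3, h4⟩ := exists_orth D hr hb1
    intro y hy
    obtain ⟨p, hp, hp1⟩ := exists_ne D.rgd hd
    have h5 : Bf A d (b - d) = -1 := by rw [hR.sub_right, hR.symm d b, h4, hR.two d hd]; norm_num
    obtain ⟨v, hv, e⟩ := (rg D).sur d hd (b - d) (hR.sub_mem hb hd h4) h5 p hp hp1 y (by rw [add_sub_cancel]; exact hy)
    rw [← e, ← commutatorElement_def]
    refine Subgroup.commutator_mem_commutator (le_PR X hd (by rw [h3]) hp)
      (le_PR X (hR.sub_mem hb hd h4) ?_ hv)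
    rw [hR.sub_left, h2, h3]; norm_num
  · rw [hR.eq b hb r hr h2]
    exact ((rg D).XQQ hr).trans (Subgroup.commutator_mono ((rg D).QS_le_PR hr subset_rfl)
      ((rg D).QS_le_PR hr subset_rfl))

/-! ### `KR` -/

omit [Finite G] in
theorem sup_Ge {r : I → ℤ} (hr : IsRoot cs h r) :
    RGD.Sup X (Ge cs h r) = PR (Bf A) {x | IsRoot cs h x} X r := by
  apply le_antisymm
  · exact RGD.Sup_le fun a ha => le_PR X ha.1 (by rw [bf_eq_cpr D.h4 D.h6 _ hr]; exact ha.2)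
  · exact PR_le fun b hb h0 => RGD.le_Sup (S := Ge cs h r) ⟨hb, by rwa [← bf_eq_cpr D.h4 D.h6 _ hr]⟩

omit [Finite G] in
theorem sup_Rad_le {r : I → ℤ} (hr : IsRoot cs h r) :
    RGD.Sup X (Rad cs h r) ≤ QS X (Ph1 (Bf A) {x | IsRoot cs h x} r) r := by
  have hR := roots cs h D.h4 D.h6
  refine RGD.Sup_le fun a ha => ?_
  have h1 := hR.le a ha.1 r hr
  have h2 := ha.2
  rw [← bf_eq_cpr D.h4 D.h6 _ hr] at h2
  rcases (show Bf A a r = 1 ∨ Bf A a r = 2 by omega) with h3 | h3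
  · exact le_QS X r (show a ∈ Ph1 (Bf A) {x | IsRoot cs h x} r from ⟨ha.1, h3⟩)
  · rw [hR.eq a ha.1 r hr h3]; exact X_le_QS X _ r

/-- An involution of `C_K(X r)` lies in `P`. -/
theorem mem_PR_of_inv {r : I → ℤ} (hr : IsRoot cs h r) {c : G} (hc : c ∈ K) (hcX : ∀ x ∈ X r, c * x = x * c)
    (hc2 : c * c = 1) : c ∈ PR (Bf A) {x | IsRoot cs h x} X r := by
  obtain ⟨z, hz, hz1⟩ := exists_ne D.rgd hr
  have h1 := (lr D r hr).le_PS_of_comm (by rw [D.GG_eq]; exact hc) hz hz1 (hcX z hz)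
  have hT : T ≤ Subgroup.normalizer (RGD.Sup X (Ge cs h r) : Set G) := D.rgd.T_le_normalizer fun x hx => hx.1
  unfold PS at h1
  rw [← SetLike.mem_coe, Subgroup.coe_mul_of_left_le_normalizer_right _ _ hT] at h1
  obtain ⟨τ, hτ, p, hp, rfl⟩ := h1
  rw [← sup_Ge D hr]
  have hτp : τ * p * τ⁻¹ ∈ RGD.Sup X (Ge cs h r) := (Subgroup.mem_normalizer_iff.1 (hT hτ) p).1 hp
  have h2 : τ ^ 2 ∈ RGD.Sup X (Ge cs h r) := by
    have e : τ ^ 2 = (τ * p * τ⁻¹)⁻¹ * p⁻¹ := by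
      have h3 : (τ * p * τ⁻¹) * τ ^ 2 * p = 1 := by
        rw [pow_two]
        calc (τ * p * τ⁻¹) * (τ * τ) * p = τ * p * (τ * p) := by group
          _ = 1 := hc2
      calc τ ^ 2 = (τ * p * τ⁻¹)⁻¹ * ((τ * p * τ⁻¹) * τ ^ 2 * p) * p⁻¹ := by group
        _ = _ := by rw [h3, mul_one]
    rw [e]
    exact mul_mem (inv_mem hτp) (inv_mem hp)
  have h3 : τ ∈ RGD.Sup X (Ge cs h r) := by
    have hodd : Odd (Nat.card T) := by
      rw [← Nat.coprime_two_right]; exact D.rgd.tcop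
    obtain ⟨j, hj⟩ := hodd
    have h4 : τ ^ (2 * j + 1) = 1 := by
      rw [← hj]
      have := pow_card_eq_one' (G := T) (x := ⟨τ, hτ⟩)
      exact congrArg Subtype.val this
    have h5 : τ = (τ ^ 2) ^ (j + 1) := by
      rw [← pow_mul, show 2 * (j + 1) = 2 * j + 1 + 1 by ring, pow_succ, h4, one_mul]
    rw [h5]
    exact pow_mem h2 _
  exact mul_mem h3 hp

/-- `PT`, rank at least `4`. -/
theorem pt (h4c : 4 ≤ Fintype.card I) {r : I → ℤ} (hr : IsRoot cs h r) :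
    PT (Bf A) {x | IsRoot cs h x} X r (PR (Bf A) {x | IsRoot cs h x} X r) where
  sep := by
    intro b hb b' hb' hne
    have hs := PreOf.sl (cs := cs) (h := h) D.h4 D.h6
    obtain ⟨d, hd, h1, h2, h3⟩ := RgdEx.sep hs (Two60.two60 D.h4 D.h6 D.irr h4c) hr hb.1 hb'.1
      (by rw [← bf_eq_cpr D.h4 D.h6 _ hr]; exact hb.2) (by rw [← bf_eq_cpr D.h4 D.h6 _ hr]; exact hb'.2) hne.symm
    rw [← bf_eq_cpr D.h4 D.h6 _ hr] at h1
    rw [← bf_eq_cpr D.h4 D.h6 _ hd] at h2 h3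
    exact ⟨d, hd, le_PR X hd (by rw [h1]), h1, h2, by omega⟩
  tor := by
    intro b hb x hx y hy hx1 hy1
    have hR := roots cs h D.h4 D.h6
    obtain ⟨d, hd, h1, h2⟩ := exists_orth D hr hb
    have hA : A2 cs h (-d) b := a2 D.h4 D.h6 hd.neg hb.1 (by rw [hR.neg_left, hR.symm, h2])
    obtain ⟨g, hg, e⟩ := A2.tor_trans D.rgd hA hx hx1 hy hy1
    refine ⟨g, (sup_le ?_ ?_ : X (-d) ⊔ X (- -d) ≤ _) (Subgroup.mem_inf.1 hg).2, e⟩
    · exact le_PR X hd.neg (by rw [hR.neg_left, h1]; norm_num)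
    · rw [neg_neg]; exact le_PR X hd (by rw [h1])

variable (C : Clean t K)

include C

theorem kr (Tab : ∀ g ∈ T, ∀ k ∈ T, g * k = k * g) (hq : 2 < q) {r : I → ℤ} (hr : IsRoot cs h r) :
    KR t (Bf A) {x | IsRoot cs h x} X r (PR (Bf A) {x | IsRoot cs h x} X r) T := by
  have hR := roots cs h D.h4 D.h6
  have tX : ∀ a ∈ {x | IsRoot cs h x}, ∀ x ∈ X a, t * x = x * t := fun a ha x hx => C.Kt x (D.XK ha hx)
  have hPK : PR (Bf A) {x | IsRoot cs h x} X r ≤ K := PR_le fun b hb _ => D.XK hb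
  have hPC : PR (Bf A) {x | IsRoot cs h x} X r ≤ CC t (X r) := fun p hp => by
    rw [mem_CC]
    exact ⟨(C.Kt p (hPK hp)).symm, fun x hx => ((rg D).XP hr hx hp).symm⟩
  refine ⟨rg D, hr, pg D hr, C.tt, tX, fun ht => C.tK (D.XK hr ht), fun g hg => C.Kt g (D.TK hg),
    fun g hg => TX' D g hg r hr, TP' D, Tab, ?_, perf D hq hr, ?_, ?_⟩
  · intro c hct hc
    exact K1' D C r hr c hct.symm fun a ha h1 x hx => hc x (le_PR X ha (by omega) hx)
  · refine nP_of_inv C.tt hPC hPC (perf D hq hr) ?_ ?_ ⟨0, le_rfl⟩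
    · exact PR_le fun b hb h0 x hx => Subgroup.subset_closure ⟨le_PR X hb h0 hx, (rg D).X2 b hb x hx⟩
    · intro c hc hc2
      rw [mem_CC] at hc
      rcases C.mem_of_pow hc.1 (k := 1) (by rw [pow_one, pow_two]; exact hc2) with h1 | h1
      · exact Or.inl (mem_PR_of_inv D hr h1 hc.2 hc2)
      · right
        refine mem_PR_of_inv D hr h1 (fun x hx => ?_) ?_
        · rw [mul_assoc, hc.2 x hx, ← mul_assoc, tX r hr x hx, mul_assoc]
        · calc t * c * (t * c) = t * (c * t) * c := by group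
            _ = (t * t) * (c * c) := by rw [hc.1]; group
            _ = 1 := by rw [C.tt, hc2, one_mul]
  · intro R' hR' h2 hn
    have : Fact (Nat.Prime 2) := ⟨Nat.prime_two⟩
    refine (core_le D.rgd hr (D := R') ?_ h2 ?_).trans (sup_Rad_le D hr)
    · rw [D.GG_eq]; exact hR'.trans hPK
    · intro u hu
      rw [sup_Ge D hr] at hu
      apply le_antisymm
      · rintro _ ⟨x, hx, rfl⟩
        exact hn u hu x hx
      · intro x hx
        have := hn u⁻¹ (inv_mem hu) x hx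
        rw [mem_cj]
        rwa [inv_inv] at this

/-- **The doubled root group at one root, `q > 2`.** -/
theorem exists_out (Tab : ∀ g ∈ T, ∀ k ∈ T, g * k = k * g) (hq : 2 < q) {r : I → ℤ} (hr : IsRoot cs h r)
    (hT : 4 ≤ Fintype.card I ∨ ∃ β g k, Tor (Bf A) {x | IsRoot cs h x} X r T β g k)
    {n : G} (hX : ∀ x ∈ X r, n * x * n⁻¹ ∈ X r) (ht : t * (n * t * n⁻¹) ∈ X r) (hnt : n * t * n⁻¹ ≠ t) :
    ∃ V, KR.Out t (X r) (PR (Bf A) {x | IsRoot cs h x} X r) T V := by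
  have hR := roots cs h D.h4 D.h6
  have hK := kr D C Tab hq hr
  obtain ⟨g, hg, hne⟩ := exists_h D hq hr
  have hgT := (Subgroup.mem_inf.1 hg).1
  have hs := PreOf.sl (cs := cs) (h := h) D.h4 D.h6
  have h0 : ∀ b ∈ {x | IsRoot cs h x}, Bf A b r = 0 → ∀ x ∈ X b, g * x = x * g := by
    intro b hb hbr x hx
    exact orth_comm D.rgd hs hr hb (by rw [← bf_eq_cpr D.h4 D.h6 _ hr]; exact hbr) (Subgroup.mem_inf.1 hg).2 hx
  have hodd : Odd (Nat.card T) := by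
    rw [← Nat.coprime_two_right]; exact D.rgd.tcop
  have hg1 : g ^ Nat.card T = 1 := congrArg Subtype.val (pow_card_eq_one' (G := T) (x := ⟨g, hgT⟩))
  have Ce : Cent t (X r) (PR (Bf A) {x | IsRoot cs h x} X r) := by
    rcases hT with hT | ⟨β, g', k, hT⟩
    · exact cent_of_sep hK (pt D hT hr) (TX' D) (trans D hr) hgT h0 hne hX ht hnt
    · exact cent_of_tor hK (orth D.h4 D.h6 D.irr) (TX' D) (trans D hr) hT hX ht hnt
  exact hK.out_big Ce (trans D hr) hgT hodd hg1 hne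

end Data

end Cfsg.Agent.OddHalf.D7Ex.KData
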