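import Cfsg.Agent.OddHalf.D7Ex.NdI
import Cfsg.Agent.KFacts.SLRow.DomD

/-!
# The node data for `D_{n+2}`, `n ≥ 3` (ODD D7, `q = 2`; helper158)

`j = 1`, `o = 0`, `f : Fin n ↪ Fin (n + 2)`, `i ↦ i + 2`, `κ = 0`:
* `ndI` : `NdI.NdI` at every dominant root; `hnb`; `haut` : the automorphisms of `J` fixing `κ`.
-/

set_option autoImplicit false
set_option linter.unusedSectionVars false

namespace Cfsg.Agent.OddHalf.D7Ex.NdD

open CoxeterSystem Cfsg.Agent.ChevalleyStructure.CoxeterGeom Cfsg.Agent.Tits.Roots Cfsg.Agent.Tits.Core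
  Cfsg.Agent.Nodes.Reps Cfsg.Agent.Nodes.Coroot Cfsg.Agent.OddHalf.SL.Index
  Cfsg.Agent.KFacts.SLRow Cfsg.Agent.Nodes.TypeD Cfsg.Agent.KFacts.SLRow.OmegaPlus

/-- the embedding of `J` -/
def f (n : ℕ) : Fin n ↪ Fin (n + 2) := ⟨fun i => ⟨i + 2, by have := i.2; omega⟩, fun a b e => by
  have := congrArg Fin.val e
  exact Fin.ext (by simpa using this)⟩

theorem f_val {n : ℕ} (i : Fin n) : (f n i : ℕ) = i + 2 := rfl

/-- adjacency in `J` -/
theorem M_three {n : ℕ} (i k : Fin n) : M n (f n i) (f n k) = 3 ↔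
    ((k : ℕ) + 1 < n ∧ (i : ℕ) + 1 = k) ∨ ((k : ℕ) + 1 = n ∧ (i : ℕ) + 2 = k) ∨
    ((i : ℕ) + 1 < n ∧ (k : ℕ) + 1 = i) ∨ ((i : ℕ) + 1 = n ∧ (k : ℕ) + 2 = i) := by
  have hi := i.2
  have hk := k.2
  rw [M_apply]
  by_cases h1 : f n i = f n k
  · rw [if_pos h1]
    have h3 : (i : ℕ) = k := congrArg Fin.val ((f n).injective h1)
    constructor <;> intro h <;> omega
  · have h3 : (i : ℕ) ≠ k := fun e => h1 (congrArg (f n) (Fin.ext e))
    rw [if_neg h1]
    by_cases h2 : Cfsg.Agent.Nodes.TypeD.Adj (f n i) (f n k) ∨ Cfsg.Agent.Nodes.TypeD.Adj (f n k) (f n i)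
    · rw [if_pos h2]
      unfold Cfsg.Agent.Nodes.TypeD.Adj at h2
      rw [f_val, f_val] at h2
      constructor <;> intro h <;> omega
    · rw [if_neg h2]
      unfold Cfsg.Agent.Nodes.TypeD.Adj at h2
      rw [f_val, f_val] at h2
      constructor <;> intro h <;> omega

variable {n : ℕ} {W : Type*} [Group W] [Finite W] {A : Fin (n + 2) → Fin (n + 2) → ℤ}

theorem adj (cs : CoxeterSystem (M n) W) (h : IsCartan (M n) A) {a b : Fin (n + 2)} (hab : M n a b = 3) :
    Bf A (sr a) (sr b) = -1 := by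
  rw [DomE.bf_pairing cs h (fun i j => (M_ne n i j).1) (fun i j => (M_ne n i j).2), Cfsg.Agent.Nodes.ZFam.pairing_sr']
  exact Hirr.cartan_adj h hab

theorem nadj (cs : CoxeterSystem (M n) W) (h : IsCartan (M n) A) {a b : Fin (n + 2)} (hab : M n a b = 2) :
    Bf A (sr a) (sr b) = 0 := by
  rw [DomE.bf_pairing cs h (fun i j => (M_ne n i j).1) (fun i j => (M_ne n i j).2), Cfsg.Agent.Nodes.ZFam.pairing_sr']
  exact Hirr.cartan_nadj h hab

/-- **The node data at the dominant root.** -/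
theorem ndI (hn : 3 ≤ n) (cs : CoxeterSystem (M n) W) (h : IsCartan (M n) A) {r : Fin (n + 2) → ℤ}
    (hr : IsRoot cs h r) (hd : ∀ i, 0 ≤ cpr cs h (sr i) r) :
    NdI.NdI cs h (f n) 1 ⟨0, by omega⟩ r 0 := by
  obtain ⟨h1, h2⟩ := DomD.dom_D cs (by omega) h hr hd
  have v1 : ((1 : Fin (n + 2)) : ℕ) = 1 := rfl
  have v0 : ((0 : Fin (n + 2)) : ℕ) = 0 := rfl
  have key : ∀ b : Fin (n + 2), b ≠ 1 → (∀ i, f n i ≠ b) → b = 0 := by
    intro b hb hf
    apply Fin.ext
    rw [v0]
    have hb1 : (b : ℕ) ≠ 1 := fun e => hb (Fin.ext e)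
    by_contra h0
    have hb2 := b.2
    exact hf ⟨(b : ℕ) - 2, by omega⟩ (Fin.ext (by rw [f_val]; show (b : ℕ) - 2 + 2 = b; omega))
  exact
    { hr := hr
      dj := h1
      di := h2
      fj := fun i e => by
        have := congrArg Fin.val e
        rw [f_val, v1] at this
        omega
      kj := by
        refine adj cs h ?_
        rw [M_apply, if_neg (fun e => by
          have := congrArg Fin.val e
          rw [f_val, v1] at this
          omega), if_pos]
        right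
        left
        rw [f_val, v1]
        show 0 + 2 < n + 1 ∧ 1 + 1 = 0 + 2
        omega
      nj := fun i hi => by
        have hi0 : (i : ℕ) ≠ 0 := fun e => hi (Fin.ext e)
        have hi2 := i.2
        refine nadj cs h ?_
        rw [M_apply, if_neg (fun e => by
          have := congrArg Fin.val e
          rw [f_val, v1] at this
          omega), if_neg]
        unfold Cfsg.Agent.Nodes.TypeD.Adj
        rw [f_val, v1]
        omega
      rest := fun b hb hf i => by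
        obtain rfl := key b hb hf
        have hi2 := i.2
        refine nadj cs h ?_
        rw [M_apply, if_neg (fun e => by
          have := congrArg Fin.val e
          rw [f_val, v0] at this
          omega), if_neg]
        unfold Cfsg.Agent.Nodes.TypeD.Adj
        rw [f_val, v0]
        omega
      oj := fun e => by
        have := congrArg Fin.val e
        rw [v0, v1] at this
        omega
      of := fun i e => by
        have := congrArg Fin.val e
        rw [f_val, v0] at this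
        omega
      full := fun i => by
        by_contra hcon
        push Not at hcon
        exact hcon.2.1 (key i hcon.1 hcon.2.2)
      jo := by
        refine adj cs h ?_
        rw [M_apply, if_neg (fun e => by
          have := congrArg Fin.val e
          rw [v0, v1] at this
          omega), if_pos]
        left
        left
        rw [v0, v1]
        omega }

/-- every node of `J` has a neighbour in `J` -/
theorem hnb_M (hn : 3 ≤ n) (i : Fin n) : ∃ i', M n (f n i) (f n i') = 3 := by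
  have hi := i.2
  by_cases h1 : (i : ℕ) + 2 < n
  · refine ⟨⟨i + 1, by omega⟩, (M_three _ _).2 (Or.inl ?_)⟩
    show (i : ℕ) + 1 + 1 < n ∧ (i : ℕ) + 1 = i + 1
    omega
  · refine ⟨⟨n - 3, by omega⟩, (M_three _ _).2 (Or.inr (Or.inr ?_))⟩
    show ((i : ℕ) + 1 < n ∧ n - 3 + 1 = i) ∨ ((i : ℕ) + 1 = n ∧ n - 3 + 2 = i)
    omega

theorem hnb (hn : 3 ≤ n) (cs : CoxeterSystem (M n) W) (h : IsCartan (M n) A) (i : Fin n) :
    ∃ i', Bf A (sr (f n i)) (sr (f n i')) = -1 := by
  obtain ⟨i', hi'⟩ := hnb_M hn i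
  exact ⟨i', adj cs h hi'⟩

/-- An automorphism of `J` fixing `κ` fixes the chain. -/
theorem aut_chain (hn : 3 ≤ n) {σ : Equiv.Perm (Fin n)}
    (hσ : ∀ i k, M n (f n (σ i)) (f n (σ k)) = M n (f n i) (f n k))
    (h0 : σ ⟨0, by omega⟩ = ⟨0, by omega⟩) :
    ∀ d : ℕ, ∀ hd : d + 2 < n, σ ⟨d, by omega⟩ = ⟨d, by omega⟩ := by
  intro d
  induction d using Nat.strong_induction_on with
  | _ d ih =>
    intro hd
    rcases Nat.eq_zero_or_pos d with rfl | hd0
    · exact h0
    obtain ⟨m, rfl⟩ : ∃ m, d = m + 1 := ⟨d - 1, by omega⟩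
    have h1 := ih m (by omega) (by omega)
    have h2 : M n (f n (σ ⟨m + 1, by omega⟩)) (f n ⟨m, by omega⟩) = 3 := by
      have := hσ ⟨m + 1, by omega⟩ ⟨m, by omega⟩
      rw [h1] at this
      rw [this]
      refine (M_three _ _).2 (Or.inr (Or.inr (Or.inl ?_)))
      show m + 1 + 1 < n ∧ m + 1 = m + 1
      omega
    rw [M_three] at h2
    change (m + 1 < n ∧ (σ ⟨m + 1, _⟩ : ℕ) + 1 = m) ∨ (m + 1 = n ∧ (σ ⟨m + 1, _⟩ : ℕ) + 2 = m) ∨
      ((σ ⟨m + 1, _⟩ : ℕ) + 1 < n ∧ m + 1 = (σ ⟨m + 1, _⟩ : ℕ)) ∨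
      ((σ ⟨m + 1, _⟩ : ℕ) + 1 = n ∧ m + 2 = (σ ⟨m + 1, _⟩ : ℕ)) at h2
    rcases h2 with h2 | h2 | h2 | h2
    · exfalso
      have h3 := ih (m - 1) (by omega) (by omega)
      have h4 : σ ⟨m + 1, by omega⟩ = σ ⟨m - 1, by omega⟩ := by
        rw [h3]
        exact Fin.ext (show (σ ⟨m + 1, _⟩ : ℕ) = m - 1 by omega)
      have := congrArg Fin.val (σ.injective h4)
      change m + 1 = m - 1 at this
      omega
    · omega
    · exact Fin.ext (show (σ ⟨m + 1, _⟩ : ℕ) = m + 1 by omega)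
    · omega

/-- An automorphism of `J` fixing `κ` permutes the two ends. -/
theorem aut_end (hn : 3 ≤ n) {σ : Equiv.Perm (Fin n)}
    (hσ : ∀ i k, M n (f n (σ i)) (f n (σ k)) = M n (f n i) (f n k))
    (h0 : σ ⟨0, by omega⟩ = ⟨0, by omega⟩) {x : Fin n} (hx : n ≤ (x : ℕ) + 2) : n ≤ (σ x : ℕ) + 2 := by
  by_contra hcon
  push Not at hcon
  have h1 := aut_chain hn hσ h0 (σ x : ℕ) (by omega)
  have h2 : σ (σ x) = σ x := h1
  have h3 := σ.injective h2
  rw [h3] at hcon
  omega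

/-- **The automorphisms of `J` fixing `κ`.** -/
theorem haut (hn : 3 ≤ n) : ∀ σ τ : Equiv.Perm (Fin n),
    (∀ i k, M n (f n (σ i)) (f n (σ k)) = M n (f n i) (f n k)) → σ ⟨0, by omega⟩ = ⟨0, by omega⟩ →
    (∀ i k, M n (f n (τ i)) (f n (τ k)) = M n (f n i) (f n k)) → τ ⟨0, by omega⟩ = ⟨0, by omega⟩ →
    σ ≠ 1 → τ ≠ 1 → σ = τ := by
  -- an automorphism different from `1` interchanges the ends
  have key : ∀ σ : Equiv.Perm (Fin n), (∀ i k, M n (f n (σ i)) (f n (σ k)) = M n (f n i) (f n k)) →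
      σ ⟨0, by omega⟩ = ⟨0, by omega⟩ → σ ≠ 1 → ∀ x : Fin n, n ≤ (x : ℕ) + 2 → σ x ≠ x := by
    intro σ h1 h2 h3 x hx hfix
    apply h3
    ext y
    rw [Equiv.Perm.one_apply]
    by_cases hy : (y : ℕ) + 2 < n
    · exact congrArg Fin.val (aut_chain hn h1 h2 y hy)
    by_cases hxy : y = x
    · rw [hxy, hfix]
    have h4 := aut_end hn h1 h2 (x := y) (by omega)
    have h5 : σ y ≠ x := fun e => hxy (σ.injective (e.trans hfix.symm))
    have h6 : (σ y : ℕ) ≠ x := fun e => h5 (Fin.ext e)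
    have h7 : (y : ℕ) ≠ x := fun e => hxy (Fin.ext e)
    have := (σ y).2
    have := y.2
    have := x.2
    omega
  intro σ τ h1 h2 h3 h4 h5 h6
  ext x
  by_cases hx : (x : ℕ) + 2 < n
  · exact congrArg Fin.val ((aut_chain hn h1 h2 x hx).trans (aut_chain hn h3 h4 x hx).symm)
  · have e1 := aut_end hn h1 h2 (x := x) (by omega)
    have e2 := aut_end hn h3 h4 (x := x) (by omega)
    have e3 : (σ x : ℕ) ≠ x := fun e => key σ h1 h2 h5 x (by omega) (Fin.ext e)
    have e4 : (τ x : ℕ) ≠ x := fun e => key τ h3 h4 h6 x (by omega) (Fin.ext e)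
    have := (σ x).2
    have := (τ x).2
    have := x.2
    omega

end Cfsg.Agent.OddHalf.D7Ex.NdD
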