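import Cfsg.Agent.OddHalf.D7Ex.Move

/-!
# The doubled root group `W` of one root

`BG = {b ∈ C_G(P) : [b, t] ∈ X}`; `BG / X` is elementary abelian; `W` is the part of `BG` outside `t`: for `q > 2` the
kernel of the norm of an element `h` of the torus on `BG / X`, for `q = 2` the four-group of `BG = D8` not containing `t`.
-/

set_option autoImplicit false
set_option linter.style.haveILetI false

namespace Cfsg.Agent.OddHalf.D7Ex

open Subgroup
open scoped commutatorElement

variable {G : Type*} [Group G]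

/-- `W` is a doubled root group for `X`. -/
structure IsDbl (t : G) (X P W : Subgroup G) : Prop where
  XW : X ≤ W
  WP : ∀ w ∈ W, ∀ p ∈ P, w * p = p * w
  brk : ∀ w ∈ W, w⁻¹ * (t * w * t) ∈ X
  cent : ∀ w ∈ W, t * w = w * t → w ∈ X
  surj : ∀ x ∈ X, ∃ w ∈ W, w⁻¹ * (t * w * t) = x

/-- The elements of `G` acting on everything. -/
structure Nice (t : G) (X P : Subgroup G) (h : G) (k : G) : Prop where
  kt : k * t = t * k
  kX : ∀ x, x ∈ X ↔ k * x * k⁻¹ ∈ X
  kP : ∀ p, p ∈ P ↔ k * p * k⁻¹ ∈ P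
  kh : k * h * k⁻¹ * h⁻¹ ∈ P

/-- the group `BG` -/
structure Cent (t : G) (X P : Subgroup G) : Prop where
  tt : t * t = 1
  tX : t ∉ X
  X2 : ∀ x ∈ X, x * x = 1
  XP : X ≤ P
  tP : ∀ p ∈ P, t * p = p * t
  Xc : ∀ x ∈ X, ∀ p ∈ P, x * p = p * x
  cP : ∀ c, t * c = c * t → (∀ p ∈ P, c * p = p * c) → c ∈ X ∨ t * c ∈ X
  ex : ∀ x ∈ X, ∃ b : G, (∀ p ∈ P, b * p = p * b) ∧ b * t * b⁻¹ = t * x

namespace Cent

variable {t : G} {X P : Subgroup G}

theorem t_inv (S : Cent t X P) : t⁻¹ = t := inv_eq_of_mul_eq_one_left S.tt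

theorem tx (S : Cent t X P) {x : G} (hx : x ∈ X) : t * x = x * t := S.tP x (S.XP hx)

theorem inv_X (S : Cent t X P) {x : G} (hx : x ∈ X) : x⁻¹ = x := inv_eq_of_mul_eq_one_left (S.X2 x hx)

/-- `BG` -/
def BG (S : Cent t X P) : Subgroup G where
  carrier := {b | (∀ p ∈ P, b * p = p * b) ∧ t * (b * t * b⁻¹) ∈ X}
  one_mem' := ⟨fun p _ => by rw [one_mul, mul_one], by
    rw [one_mul, inv_one, mul_one, S.tt]; exact one_mem _⟩
  mul_mem' := by
    rintro a b ⟨ha, ha2⟩ ⟨hb, hb2⟩
    refine ⟨fun p hp => by rw [mul_assoc, hb p hp, ← mul_assoc, ha p hp, mul_assoc], ?_⟩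
    have h1 := ha _ (S.XP hb2)
    have e : t * (a * b * t * (a * b)⁻¹) = t * (a * t * a⁻¹) * (t * (b * t * b⁻¹)) := by
      calc t * (a * b * t * (a * b)⁻¹) = t * a * 1 * b * t * b⁻¹ * a⁻¹ := by group
        _ = t * a * (t * t) * b * t * b⁻¹ * a⁻¹ := by rw [S.tt]
        _ = t * (a * t * a⁻¹) * (a * (t * (b * t * b⁻¹))) * a⁻¹ := by group
        _ = t * (a * t * a⁻¹) * (t * (b * t * b⁻¹)) := by rw [h1]; group
    rw [e]
    exact mul_mem ha2 hb2
  inv_mem' := by
    rintro a ⟨ha, ha2⟩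
    have ha' : ∀ p ∈ P, a⁻¹ * p = p * a⁻¹ := fun p hp => by
      rw [inv_mul_eq_iff_eq_mul, ← mul_assoc, ha p hp, mul_inv_cancel_right]
    refine ⟨ha', ?_⟩
    have h1 := ha' _ (S.XP ha2)
    have e : t * (a⁻¹ * t * a⁻¹⁻¹) = (a⁻¹ * (t * (a * t * a⁻¹)) * a)⁻¹ := by
      calc t * (a⁻¹ * t * a⁻¹⁻¹) = t⁻¹ * (a⁻¹ * t⁻¹ * a) := by rw [S.t_inv, inv_inv]
        _ = _ := by group
    rw [e, h1, inv_mul_cancel_right]
    exact inv_mem ha2

theorem mem_BG (S : Cent t X P) {b : G} : b ∈ S.BG ↔ (∀ p ∈ P, b * p = p * b) ∧ t * (b * t * b⁻¹) ∈ X := Iff.rfl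

theorem X_le (S : Cent t X P) : X ≤ S.BG := by
  intro x hx
  refine ⟨S.Xc x hx, ?_⟩
  rw [← S.tx hx, mul_inv_cancel_right, S.tt]
  exact one_mem _

theorem t_mem (S : Cent t X P) : t ∈ S.BG := by
  refine ⟨S.tP, ?_⟩
  rw [mul_inv_cancel_right, S.tt]
  exact one_mem _

theorem BX (S : Cent t X P) {b x : G} (hb : b ∈ S.BG) (hx : x ∈ X) : b * x = x * b := hb.1 x (S.XP hx)

/-- `d b = t b t b⁻¹` is a homomorphism. -/
theorem d_mul (S : Cent t X P) {a b : G} (ha : a ∈ S.BG) (hb : b ∈ S.BG) :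
    t * ((a * b) * t * (a * b)⁻¹) = t * (a * t * a⁻¹) * (t * (b * t * b⁻¹)) := by
  have h1 := S.BX ha hb.2
  calc t * (a * b * t * (a * b)⁻¹) = t * a * 1 * b * t * b⁻¹ * a⁻¹ := by group
    _ = t * a * (t * t) * b * t * b⁻¹ * a⁻¹ := by rw [S.tt]
    _ = t * (a * t * a⁻¹) * (a * (t * (b * t * b⁻¹))) * a⁻¹ := by group
    _ = t * (a * t * a⁻¹) * (t * (b * t * b⁻¹)) := by rw [h1]; group

theorem d_eq_one (S : Cent t X P) {b : G} : t * (b * t * b⁻¹) = 1 ↔ t * b = b * t := by
  constructor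
  · intro h
    have h1 : b * t * b⁻¹ = t := by
      have : t * (b * t * b⁻¹) = t * t := by rw [h, S.tt]
      exact mul_left_cancel this
    calc t * b = (b * t * b⁻¹) * b := by rw [h1]
      _ = b * t := by group
  · intro h
    rw [← h, mul_inv_cancel_right, S.tt]

/-- The two forms of the commutator. -/
theorem d_eq (S : Cent t X P) {b : G} (hb : b ∈ S.BG) : b⁻¹ * (t * b * t) = t * (b * t * b⁻¹) := by
  have h1 := S.inv_X hb.2
  have h2 := S.BX hb hb.2
  have e1 : (t * (b * t * b⁻¹))⁻¹ = b * t * b⁻¹ * t := by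
    calc (t * (b * t * b⁻¹))⁻¹ = b * t⁻¹ * b⁻¹ * t⁻¹ := by group
      _ = _ := by rw [S.t_inv]
  have e2 : t * (b * t * b⁻¹) = b⁻¹ * (t * (b * t * b⁻¹)) * b := by
    rw [mul_assoc b⁻¹, ← h2, inv_mul_cancel_left]
  rw [e2]
  group

/-- Squares lie in `X`. -/
theorem sq_mem (S : Cent t X P) {b : G} (hb : b ∈ S.BG) : b * b ∈ X := by
  have h1 : t * ((b * b) * t * (b * b)⁻¹) = 1 := by rw [S.d_mul hb hb]; exact S.X2 _ hb.2
  have h2 := S.d_eq_one.1 h1
  rcases S.cP _ h2 (mul_mem hb hb).1 with h | h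
  · exact h
  · exfalso
    have h3 : b * (t * (b * b)) = t * (b * b) * b := S.BX hb h
    have h4 : t * b = b * t := by
      have : b * t * (b * b) = t * b * (b * b) := by
        calc b * t * (b * b) = b * (t * (b * b)) := by group
          _ = t * b * (b * b) := by rw [h3]; group
      exact (mul_right_cancel this).symm
    have h5 : b * b = 1 := by
      rcases S.cP _ h4 hb.1 with h | h
      · exact S.X2 _ h
      · calc b * b = (t * t) * (b * b) := by rw [S.tt, one_mul]
          _ = t * (t * b) * b := by group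
          _ = t * (b * t) * b := by rw [h4]
          _ = (t * b) * (t * b) := by group
          _ = 1 := S.X2 _ h
    rw [h5, mul_one] at h
    exact S.tX h

/-- Commutators lie in `X`. -/
theorem comm_mem (S : Cent t X P) {a b : G} (ha : a ∈ S.BG) (hb : b ∈ S.BG) : a * b * a⁻¹ * b⁻¹ ∈ X := by
  have h1 := S.sq_mem (mul_mem ha hb)
  have h2 := inv_mem (S.sq_mem ha)
  have h3 := inv_mem (S.sq_mem hb)
  have h4 := S.BX hb h2
  -- `a b a⁻¹ b⁻¹ = (ab)² · (b⁻¹ a⁻¹ a⁻¹ b⁻¹)`, `a⁻¹a⁻¹` central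
  have e : a * b * a⁻¹ * b⁻¹ = (a * b) * (a * b) * ((a * a)⁻¹ * (b * b)⁻¹) := by
    calc a * b * a⁻¹ * b⁻¹ = (a * b) * (a * b) * (b⁻¹ * (a * a)⁻¹ * b) * (b * b)⁻¹ := by group
      _ = (a * b) * (a * b) * (b⁻¹ * ((a * a)⁻¹ * b)) * (b * b)⁻¹ := by group
      _ = (a * b) * (a * b) * (b⁻¹ * (b * (a * a)⁻¹)) * (b * b)⁻¹ := by rw [h4]
      _ = (a * b) * (a * b) * ((a * a)⁻¹ * (b * b)⁻¹) := by group
  rw [e]
  exact mul_mem h1 (mul_mem h2 h3)

theorem nice_BG (S : Cent t X P) {h k : G} (hk : Nice t X P h k) {b : G} (hb : b ∈ S.BG) : k * b * k⁻¹ ∈ S.BG := by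
  refine ⟨fun p hp => ?_, ?_⟩
  · have h1 : k⁻¹ * p * k ∈ P := by
      rw [hk.kP]
      have : k * (k⁻¹ * p * k) * k⁻¹ = p := by group
      rwa [this]
    calc k * b * k⁻¹ * p = k * (b * (k⁻¹ * p * k)) * k⁻¹ := by group
      _ = k * ((k⁻¹ * p * k) * b) * k⁻¹ := by rw [hb.1 _ h1]
      _ = p * (k * b * k⁻¹) := by group
  · have h1 := (hk.kX _).1 hb.2
    have e : t * (k * b * k⁻¹ * t * (k * b * k⁻¹)⁻¹) = k * (t * (b * t * b⁻¹)) * k⁻¹ := by
      have e1 : k⁻¹ * t * k = t := by rw [mul_assoc, ← hk.kt, inv_mul_cancel_left]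
      calc t * (k * b * k⁻¹ * t * (k * b * k⁻¹)⁻¹) = (t * k) * b * (k⁻¹ * t * k) * b⁻¹ * k⁻¹ := by group
        _ = (k * t) * b * t * b⁻¹ * k⁻¹ := by rw [e1, hk.kt]
        _ = _ := by group
    rwa [e]

end Cent

/-! ### `q = 2` -/

section two

variable {t : G} {X P : Subgroup G}

/-- The four-group of `BG = D8` other than `⟨t, z⟩`. -/
def Cent.Wtwo (S : Cent t X P) {z : G} (hz : ∀ x ∈ X, x = 1 ∨ x = z) : Subgroup G where
  carrier := {w | w ∈ S.BG ∧ w * w = 1 ∧ (t * w = w * t → w ∈ X)}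
  one_mem' := ⟨one_mem _, one_mul 1, fun _ => one_mem _⟩
  mul_mem' := by
    rintro a b ⟨ha, ha2, ha3⟩ ⟨hb, hb2, hb3⟩
    by_cases hat : t * a = a * t
    · have haX := ha3 hat
      refine ⟨mul_mem ha hb, ?_, fun h => ?_⟩
      · calc a * b * (a * b) = a * (b * a) * b := by group
          _ = a * (a * b) * b := by rw [S.BX hb haX]
          _ = (a * a) * (b * b) := by group
          _ = 1 := by rw [ha2, hb2, one_mul]
      · refine mul_mem haX (hb3 ?_)
        have h1 : t * a * b = a * b * t := by rw [← h]; group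
        rw [hat, mul_assoc, mul_assoc] at h1
        exact mul_left_cancel h1
    · by_cases hbt : t * b = b * t
      · have hbX := hb3 hbt
        refine ⟨mul_mem ha hb, ?_, fun h => ?_⟩
        · calc a * b * (a * b) = a * (b * a) * b := by group
            _ = a * (a * b) * b := by rw [← S.BX ha hbX]
            _ = (a * a) * (b * b) := by group
            _ = 1 := by rw [ha2, hb2, one_mul]
        · exfalso; apply hat
          have h1 : t * a * b = a * t * b := by
            calc t * a * b = t * (a * b) := by group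
              _ = a * (b * t) := by rw [h]; group
              _ = a * t * b := by rw [← hbt]; group
          exact mul_right_cancel h1
      · -- `d a = d b = z`
        have hda : t * (a * t * a⁻¹) = z := (hz _ ha.2).resolve_left fun h => hat (S.d_eq_one.1 h)
        have hdb : t * (b * t * b⁻¹) = z := (hz _ hb.2).resolve_left fun h => hbt (S.d_eq_one.1 h)
        have hzX : z ∈ X := by rw [← hda]; exact ha.2
        have hab : t * (a * b) = a * b * t := by
          rw [← S.d_eq_one, S.d_mul ha hb, hda, hdb]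
          exact S.X2 _ hzX
        have hmem : a * b ∈ X := by
          rcases S.cP _ hab (mul_mem ha hb).1 with h | h
          · exact h
          · exfalso
            -- `b = a t x`, `b² = [a, t] = z`
            have h1 : a * b * (t * (a * b)) = t * (a * b) * (a * b) := S.BX (mul_mem ha hb) h
            have h2 : (t * a) * b * ((t * a) * b) = 1 := by
              have := S.X2 _ h
              calc (t * a) * b * ((t * a) * b) = t * (a * b) * (t * (a * b)) := by group
                _ = 1 := this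
            -- `a * b = b * a`
            have h3 : a * b = b * a := by
              have h4 : (a * b) * (a * b) = 1 := by
                calc (a * b) * (a * b) = (t * t) * ((a * b) * (a * b)) := by rw [S.tt, one_mul]
                  _ = t * (t * (a * b)) * (a * b) := by group
                  _ = t * (a * b * t) * (a * b) := by rw [hab]
                  _ = t * (a * b) * (t * (a * b)) := by group
                  _ = 1 := S.X2 _ h
              calc a * b = a * ((a * b) * (a * b)) * b := by rw [h4, mul_one]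
                _ = (a * a) * (b * a) * (b * b) := by group
                _ = b * a := by rw [ha2, hb2, one_mul, mul_one]
            -- `a` commutes with `t a b`, hence with `t`
            apply hat
            have h5 : a * (t * (a * b)) = t * (a * b) * a := S.BX ha h
            have h6 : a * t * (a * b) = t * a * (a * b) := by
              calc a * t * (a * b) = a * (t * (a * b)) := by group
                _ = t * (a * b) * a := h5
                _ = t * a * (b * a) := by group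
                _ = t * a * (a * b) := by rw [← h3]
            exact (mul_right_cancel h6).symm
        exact ⟨mul_mem ha hb, S.X2 _ hmem, fun _ => hmem⟩
  inv_mem' := by
    rintro a ⟨ha, ha2, ha3⟩
    have e : a⁻¹ = a := inv_eq_of_mul_eq_one_left ha2
    rw [e]
    exact ⟨ha, ha2, ha3⟩

theorem Cent.mem_Wtwo (S : Cent t X P) {z : G} (hz : ∀ x ∈ X, x = 1 ∨ x = z) {w : G} :
    w ∈ S.Wtwo hz ↔ w ∈ S.BG ∧ w * w = 1 ∧ (t * w = w * t → w ∈ X) := Iff.rfl

theorem Cent.isDbl_two (S : Cent t X P) {z : G} (hz : ∀ x ∈ X, x = 1 ∨ x = z) : IsDbl t X P (S.Wtwo hz) where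
  XW := fun x hx => ⟨S.X_le hx, S.X2 x hx, fun _ => hx⟩
  WP := fun w hw => hw.1.1
  brk := fun w hw => by rw [S.d_eq hw.1]; exact hw.1.2
  cent := fun w hw h => hw.2.2 h
  surj := by
    intro x hx
    by_cases h1 : x = 1
    · refine ⟨1, one_mem _, ?_⟩
      rw [h1]
      calc (1 : G)⁻¹ * (t * 1 * t) = t * t := by group
        _ = 1 := S.tt
    obtain ⟨b, hb, hbt⟩ := S.ex x hx
    have hbB : b ∈ S.BG := ⟨hb, by rw [hbt, ← mul_assoc, S.tt, one_mul]; exact hx⟩
    have hd : t * (b * t * b⁻¹) = x := by rw [hbt, ← mul_assoc, S.tt, one_mul]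
    have hnb : ¬ t * b = b * t := fun h => h1 (by rw [← hd, S.d_eq_one.2 h])
    rcases hz _ (S.sq_mem hbB) with h | h
    · exact ⟨b, ⟨hbB, h, fun h' => absurd h' hnb⟩, by rw [S.d_eq hbB, hd]⟩
    · -- `t b` is an involution
      have hxz : x = z := (hz x hx).resolve_left h1
      have hc := mul_mem S.t_mem hbB
      have e1 : t * b * (t * b) = 1 := by
        have e2 : b * t = t * x * b := by rw [← hbt]; group
        calc t * b * (t * b) = t * (b * t) * b := by group
          _ = (t * t) * x * (b * b) := by rw [e2]; group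
          _ = 1 := by rw [S.tt, one_mul, h, ← hxz]; exact S.X2 x hx
      have hd' : t * (t * b * t * (t * b)⁻¹) = x := by
        rw [S.d_mul S.t_mem hbB, hd, S.d_eq_one.2 rfl, one_mul]
      refine ⟨t * b, ⟨hc, e1, fun h' => ?_⟩, by rw [S.d_eq hc, hd']⟩
      exact absurd (by rw [← hd', S.d_eq_one.2 h']) h1

theorem Cent.nice_two (S : Cent t X P) {z : G} (hz : ∀ x ∈ X, x = 1 ∨ x = z) {h k : G} (hk : Nice t X P h k)
    {w : G} (hw : w ∈ S.Wtwo hz) : k * w * k⁻¹ ∈ S.Wtwo hz := by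
  obtain ⟨h1, h2, h3⟩ := hw
  refine ⟨S.nice_BG hk h1, ?_, fun h4 => ?_⟩
  · calc k * w * k⁻¹ * (k * w * k⁻¹) = k * (w * w) * k⁻¹ := by group
      _ = 1 := by rw [h2]; group
  · apply (hk.kX w).1
    apply h3
    have h5 : k * (t * w) * k⁻¹ = k * (w * t) * k⁻¹ := by
      calc k * (t * w) * k⁻¹ = (k * t) * w * k⁻¹ := by group
        _ = t * (k * w * k⁻¹) := by rw [hk.kt]; group
        _ = k * w * k⁻¹ * t := h4
        _ = k * w * (k⁻¹ * t) := by group
        _ = k * w * (t * k⁻¹) := by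
          rw [show k⁻¹ * t = t * k⁻¹ by rw [inv_mul_eq_iff_eq_mul, ← mul_assoc, hk.kt, mul_inv_cancel_right]]
        _ = k * (w * t) * k⁻¹ := by group
    exact mul_left_cancel (mul_right_cancel h5)

end two

end Cfsg.Agent.OddHalf.D7Ex
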