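import Cfsg.Agent.OddHalf.D7Ex.KFull
import Cfsg.Agent.OddHalf.SL.Base0

/-!
# From the doubled root group of `KR.Out` to `SL.Base0` (all of `C_G(t)`, all `q`)

* `base0` : `KR.Out` for `P = ⟨X b : (b, r) ≥ 0⟩` gives `Base0`;
* `exists_base0` : `q > 2`, from one element moving `t` inside `t X r`;
* `exists_base0_top` : the same for a datum of `↥K`.
-/

set_option autoImplicit false
set_option linter.unusedSectionVars false

namespace Cfsg.Agent.OddHalf.D7Ex.OutBase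

open Cfsg.Agent.OddHalf.SL Cfsg.Agent.KFacts CoxeterSystem Cfsg.Agent.ChevalleyStructure.CoxeterGeom Cfsg.Agent.Tits.Roots Cfsg.Agent.Tits.Core
  Cfsg.Agent.Tits.RootComb Cfsg.Agent.Nodes.Comb Cfsg.Agent.Nodes.Reps Cfsg.Agent.Nodes.BNOf
  Cfsg.Agent.Nodes.Bruhat Cfsg.Agent.Nodes.Coroot Cfsg.Agent.OddHalf.SL.Index Cfsg.Agent.OddHalf.SL.OfRGD
  Cfsg.Agent.OddHalf.SL.PreOf Cfsg.Agent.KFacts.RgdPar Cfsg.Agent.KFacts.RgdSL Cfsg.Agent.KFacts.RgdTI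
  Cfsg.Agent.KFacts.RgdCent Cfsg.Agent.KFacts.RgdOdd Cfsg.Agent.KFacts.RgdEx Cfsg.Agent.KFacts.SLRow.Def
  Cfsg.Agent.OddHalf.SL.OfDatum Cfsg.Agent.OddHalf.D7Ex.KData Cfsg.Agent.OddHalf.D7Ex.KFull
open scoped commutatorElement

variable {I W G : Type*} [Fintype I] [DecidableEq I] [Group W] [Group G] {M : CoxeterMatrix I}
  {cs : CoxeterSystem M W} {A : I → I → ℤ} {h : IsCartan M A} {K : Subgroup G} {q : ℕ} {t : G}

section

variable [Finite W] [Finite G] {T : Subgroup G} {n : I → G} {X : (I → ℤ) → Subgroup G}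
  (D : Datum K q cs h T n X) (C : CT t K)

include D C

/-- `Base0` from `KR.Out`. -/
theorem base0 {r : I → ℤ} (hr : IsRoot cs h r) {V : Subgroup G}
    (O : KR.Out t (X r) (PR (Bf A) {x | IsRoot cs h x} X r) T V) : Base0.Base0 D.rgd t r V := by
  have hN : ∀ w k, Rp cs D.rgd.nsys w k → k ∈ K := by
    intro w k hk
    rw [← D.GG_eq]
    exact NN_le_GG D.rgd ⟨_, hk⟩
  refine ⟨hr, O.dbl.XW, O.sq, O.dbl.brk, O.dbl.cent, O.dbl.surj, ?_, ?_, fun w k hk => C.Kt k (hN w k hk)⟩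
  · intro a ha h0 w hw x hx
    exact O.dbl.WP w hw x (le_PR X ha h0 hx)
  · intro w k hk hwr v hv
    refine O.nrm k ?_ v hv
    have h1 := ((lr D r hr).mem_normalizer_iff hk).2 hwr
    have h2 : k ∈ PS T X (Ge cs h r) := by
      rw [← (lr D r hr).normalizer]
      exact ⟨h1, by rw [D.GG_eq]; exact hN w k hk⟩
    unfold PS at h2
    rwa [sup_Ge D hr] at h2

/-- **`Base0` at one root, `q > 2`.** -/
theorem exists_base0 (Tab : ∀ g ∈ T, ∀ k ∈ T, g * k = k * g) (hq : 2 < q) {r : I → ℤ} (hr : IsRoot cs h r)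
    (hK1 : ∀ c, t * c = c * t → (∀ a, IsRoot cs h a → 1 ≤ Bf A a r → ∀ x ∈ X a, c * x = x * c) →
      c ∈ X r ∨ t * c ∈ X r)
    (hT : 4 ≤ Fintype.card I ∨ ∃ β g k, Tor (Bf A) {x | IsRoot cs h x} X r T β g k)
    {n' : G} (hX : ∀ x ∈ X r, n' * x * n'⁻¹ ∈ X r) (ht : t * (n' * t * n'⁻¹) ∈ X r) (hnt : n' * t * n'⁻¹ ≠ t) :
    ∃ V, Base0.Base0 D.rgd t r V := by
  obtain ⟨V, O⟩ := KFull.exists_out D C Tab hq hr hK1 hT hX ht hnt
  exact ⟨V, base0 D C hr O⟩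

end

/-! ### The form of the front: a datum of `↥K` -/

section

variable [Finite W] [Finite G] {T₀ : Subgroup ↥K} {n₀ : I → ↥K} {X₀ : (I → ℤ) → Subgroup ↥K}

/-- The datum in `G`. -/
theorem dm (D : Datum (⊤ : Subgroup ↥K) q cs h T₀ n₀ X₀) :
    Datum K q cs h (T₀.map K.subtype) (fun i => (n₀ i : G)) (fun x => (X₀ x).map K.subtype) := by
  have h1 := D.map K.subtype K.subtype_injective
  have e : (⊤ : Subgroup ↥K).map K.subtype = K := by
    rw [← MonoidHom.range_eq_map, Subgroup.range_subtype]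
  rw [e] at h1
  exact h1

variable (D : Datum (⊤ : Subgroup ↥K) q cs h T₀ n₀ X₀) (C : CT t K)

include C

/-- **`Base0` at one root, `q > 2`**, for a datum of `↥K`. -/
theorem exists_base0_top (Tab : ∀ g ∈ T₀, ∀ k ∈ T₀, g * k = k * g) (hq : 2 < q) {r : I → ℤ} (hr : IsRoot cs h r)
    (hT : 4 ≤ Fintype.card I ∨
      ∃ β g k, Tor (Bf A) {x | IsRoot cs h x} (fun x => (X₀ x).map K.subtype) r (T₀.map K.subtype) β g k)
    {n' : G} (hX : ∀ x ∈ (X₀ r).map K.subtype, n' * x * n'⁻¹ ∈ (X₀ r).map K.subtype)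
    (ht : t * (n' * t * n'⁻¹) ∈ (X₀ r).map K.subtype) (hnt : n' * t * n'⁻¹ ≠ t) :
    ∃ V, Base0.Base0 (dm D).rgd t r V := by
  refine exists_base0 (dm D) C ?_ hq hr (fun c hct hc => k1 D C hr hct hc) hT hX ht hnt
  rintro _ ⟨g, hg, rfl⟩ _ ⟨k, hk, rfl⟩
  exact congrArg K.subtype (Tab g hg k hk)

end

end Cfsg.Agent.OddHalf.D7Ex.OutBase
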