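import Cfsg.Agent.OddHalf.D7Ex.DLast
import Cfsg.Agent.OddHalf.D7Ex.KTwo
import Cfsg.Agent.OddHalf.D7Ex.OutBase
import Cfsg.Agent.OddHalf.SL.OfAut

/-!
# `D_n(2)`, `n ≥ 5`: from the doubled root group of `P₀` to `Base0`

`P₀ = ⟨X a : a good for r⟩`.

* `BaseG` : `Base0` with `V₀` centralised by the `X a`, `a` good for `r₀`;
* `TData` : the transported groups; **`base0`** : `Base0`, by `DLast.DH.false_of`.
-/

set_option autoImplicit false
set_option linter.unusedSectionVars false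

namespace Cfsg.Agent.OddHalf.D7Ex.DLastOf

open Cfsg.Agent.OddHalf.SL Cfsg.Agent.KFacts CoxeterSystem Cfsg.Agent.ChevalleyStructure.CoxeterGeom
  Cfsg.Agent.Tits.Roots Cfsg.Agent.Tits.Core
  Cfsg.Agent.Tits.RootComb Cfsg.Agent.Nodes.Comb Cfsg.Agent.Nodes.Reps Cfsg.Agent.Nodes.BNOf
  Cfsg.Agent.Nodes.Bruhat Cfsg.Agent.Nodes.Coroot Cfsg.Agent.OddHalf.SL.Index Cfsg.Agent.OddHalf.SL.OfRGD
  Cfsg.Agent.OddHalf.SL.PreOf Cfsg.Agent.KFacts.RgdPar Cfsg.Agent.KFacts.RgdSL Cfsg.Agent.KFacts.RgdTI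
  Cfsg.Agent.KFacts.RgdCent Cfsg.Agent.KFacts.RgdOdd Cfsg.Agent.KFacts.RgdEx Cfsg.Agent.KFacts.SLRow.Def
  Cfsg.Agent.OddHalf.SL.OfDatum Cfsg.Agent.OddHalf.D7Ex.KData Cfsg.Agent.OddHalf.D7Ex.KFull
  Cfsg.Agent.OddHalf.D7Ex.OutBase Cfsg.Agent.OddHalf.D7Ex.DLast
open scoped commutatorElement

variable {I W G : Type*} [Fintype I] [DecidableEq I] [Group W] [Group G] {M : CoxeterMatrix I}
  {cs : CoxeterSystem M W} {A : I → I → ℤ} {h : IsCartan M A} {p : ℕ} {T : Subgroup G} {n : I → G}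
  {X : (I → ℤ) → Subgroup G}

/-- The doubled root group at one root, centralised by `P₀`. -/
structure BaseG (R : RGD cs h p T n X) (t : G) (r₀ : I → ℤ) (V₀ : Subgroup G) : Prop where
  root : IsRoot cs h r₀
  XW : X r₀ ≤ V₀
  sq : ∀ w ∈ V₀, w * w = 1
  brk : ∀ w ∈ V₀, w⁻¹ * (t * w * t) ∈ X r₀
  cent : ∀ w ∈ V₀, t * w = w * t → w ∈ X r₀
  surj : ∀ x ∈ X r₀, ∃ w ∈ V₀, w⁻¹ * (t * w * t) = x
  WX : ∀ a, IsRoot cs h a → Gd (Bf A) {x | IsRoot cs h x} a r₀ → ∀ w ∈ V₀, ∀ x ∈ X a, w * x = x * w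
  nX : ∀ a, IsRoot cs h a → Bf A a r₀ = 0 → ∀ x ∈ X a, ∀ v ∈ V₀, x * v * x⁻¹ ∈ V₀
  nrm : ∀ w k, Rp cs R.nsys w k → rep cs h w r₀ = r₀ → ∀ v ∈ V₀, k * v * k⁻¹ ∈ V₀
  tN : ∀ w k, Rp cs R.nsys w k → t * k = k * t

/-- The isolated root `b` of the roots orthogonal to `r`, the roots `s`, `g`. -/
structure IsoRt (cs : CoxeterSystem M W) (h : IsCartan M A) (r b s g : I → ℤ) : Prop where
  hb : IsRoot cs h b
  br : Bf A b r = 0
  iso : ∀ d, IsRoot cs h d → Bf A d r = 0 → Bf A d b ≠ 1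
  gd : ∀ a, IsRoot cs h a → Bf A a r = 0 → a = b ∨ a = -b ∨ ∃ d, IsRoot cs h d ∧ Bf A d r = 0 ∧ Bf A a d = 1
  hs : IsRoot cs h s
  hg : IsRoot cs h g
  sr : Bf A s r = 1
  sb : Bf A s b = 1
  gr : Bf A g r = 1
  gb : Bf A g b = 1
  sg : Bf A s g = 1

/-- The pair `r`, `-b`. -/
theorem IsoRt.neg [Finite W] (h4 : ∀ i j, M i j ≠ 4) (h6 : ∀ i j, M i j ≠ 6) {r b s g : I → ℤ}
    (H : IsoRt cs h r b s g) : IsoRt cs h r (-b) (s - b) (g - b) := by
  have hR := roots cs h h4 h6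
  have bb := hR.two b H.hb
  have bg : Bf A b g = 1 := by rw [hR.symm]; exact H.gb
  exact
    { hb := H.hb.neg
      br := by rw [hR.neg_left, H.br, neg_zero]
      iso := fun d hd h0 h1 => H.iso (-d) hd.neg (by rw [hR.neg_left, h0, neg_zero])
        (by rw [hR.neg_left]; rw [hR.neg_right] at h1; exact h1)
      gd := fun a ha h0 => by
        rcases H.gd a ha h0 with h1 | h1 | h1
        · exact Or.inr (Or.inl (by rw [neg_neg]; exact h1))
        · exact Or.inl h1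
        · exact Or.inr (Or.inr h1)
      hs := hR.sub_mem H.hs H.hb H.sb
      hg := hR.sub_mem H.hg H.hb H.gb
      sr := by rw [hR.sub_left, H.sr, H.br]; norm_num
      sb := by rw [hR.neg_right, hR.sub_left, H.sb, bb]; norm_num
      gr := by rw [hR.sub_left, H.gr, H.br]; norm_num
      gb := by rw [hR.neg_right, hR.sub_left, H.gb, bb]; norm_num
      sg := by rw [hR.sub_left, hR.sub_right, hR.sub_right, H.sg, H.sb, bg, bb]; norm_num }

theorem bf_refl [Finite W] (h4 : ∀ i j, M i j ≠ 4) (h6 : ∀ i j, M i j ≠ 6) {a : I → ℤ} (ha : IsRoot cs h a) :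
    ∃ w : W, ∀ y, rep cs h w y = y - Bf A y a • a := by
  obtain ⟨v, i, e⟩ := id ha
  refine ⟨v * cs.simple i * v⁻¹, fun y => ?_⟩
  rw [bf_eq_cpr h4 h6 y ha, rep_mul_apply, rep_mul_apply, rep_simple_eq, map_sub, rep_apply_inv, map_smul,
    ← cpr_rep_sr (cs := cs) (h := h), ← e]

namespace BaseG

variable {R : RGD cs h p T n X} {t : G} {r₀ : I → ℤ} {V₀ : Subgroup G} (D : BaseG R t r₀ V₀)

include D

theorem wf_eq {w : W} {k : G} (hk : Rp cs R.nsys w k) : Wf R r₀ V₀ (rep cs h w r₀) = cj k V₀ := by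
  apply le_antisymm
  · refine iSup_le ?_
    rintro ⟨⟨w', k'⟩, hk', hr⟩
    intro v hv
    rw [mem_cj] at hv ⊢
    have h1 : rep cs h (w⁻¹ * w') r₀ = r₀ := by
      rw [rep_mul_apply]
      show rep cs h w⁻¹ (rep cs h w' r₀) = r₀
      rw [hr, rep_inv_apply]
    have h2 := D.nrm _ _ (hk.inv.mul hk') h1 _ hv
    have e : k⁻¹ * k' * (k'⁻¹ * v * k') * (k⁻¹ * k')⁻¹ = k⁻¹ * v * k := by group
    rwa [e] at h2
  · exact le_iSup (fun q : {q : W × G // Rp cs R.nsys q.1 q.2 ∧ rep cs h q.1 r₀ = rep cs h w r₀} =>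
      cj q.1.2 V₀) ⟨(w, k), hk, rfl⟩

theorem wf_self : Wf R r₀ V₀ r₀ = V₀ := by
  have h1 := D.wf_eq (w := 1) (k := 1) rp_one
  rw [map_one, Module.End.one_apply] at h1
  rw [h1]
  ext x
  rw [mem_cj, inv_one, one_mul, mul_one]

theorem key (htr : ∀ r, IsRoot cs h r → ∃ w, rep cs h w r₀ = r) {r : I → ℤ} (hr : IsRoot cs h r) :
    ∃ w k, Rp cs R.nsys w k ∧ rep cs h w r₀ = r ∧ Wf R r₀ V₀ r = cj k V₀ ∧ X r = cj k (X r₀) := by
  obtain ⟨w, rfl⟩ := htr r hr
  obtain ⟨k, hk⟩ := exists_rp cs R.nsys w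
  exact ⟨w, k, hk, rfl, D.wf_eq hk, (R.conj_rp hk D.root).symm⟩

/-- the transported groups are moved by the representatives -/
theorem eqv (htr : ∀ r, IsRoot cs h r → ∃ w, rep cs h w r₀ = r) {w : W} {k : G} (hk : Rp cs R.nsys w k) {r : I → ℤ}
    (hr : IsRoot cs h r) {v : G} (hv : v ∈ Wf R r₀ V₀ r) : k * v * k⁻¹ ∈ Wf R r₀ V₀ (rep cs h w r) := by
  obtain ⟨w', k', hk', e0, e1, e2⟩ := D.key htr hr
  have h1 := D.wf_eq (hk.mul hk')
  rw [rep_mul_apply, e0] at h1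
  rw [h1, mem_cj]
  rw [e1, mem_cj] at hv
  have e3 : (k * k')⁻¹ * (k * v * k⁻¹) * (k * k') = k'⁻¹ * v * k' := by group
  rwa [e3]

end BaseG

section

variable {K : Subgroup G} {t : G}
variable [Finite W] [Finite G] {T₀ : Subgroup ↥K} {n₀ : I → ↥K} {X₀ : (I → ℤ) → Subgroup ↥K}

/-- The abstract structure. -/
theorem exists_dh (D₀ : Datum (⊤ : Subgroup ↥K) 2 cs h T₀ n₀ X₀) (C : CT t K) {r₀ : I → ℤ} {V₀ : Subgroup G}
    (B : BaseG (dm D₀).rgd t r₀ V₀) :
    ∃ z : (I → ℤ) → G, DH t (Bf A) {x | IsRoot cs h x} (fun x => (X₀ x).map K.subtype) (Wf (dm D₀).rgd r₀ V₀) z := by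
  have D := dm D₀
  have hR := roots cs h D.h4 D.h6
  have hrg := KData.rg D
  have hex : ∀ r : I → ℤ, ∃ z : G, IsRoot cs h r → z ∈ (X₀ r).map K.subtype ∧ z ≠ 1 ∧
      ∀ x ∈ (X₀ r).map K.subtype, x = 1 ∨ x = z := by
    intro r
    by_cases hr : IsRoot cs h r
    · obtain ⟨z, h1, h2, h3⟩ := KTwo.exists_z D hr
      exact ⟨z, fun _ => ⟨h1, h2, h3⟩⟩
    · exact ⟨1, fun h1 => absurd h1 hr⟩
  choose z hz using hex
  have htr : ∀ r, IsRoot cs h r → ∃ w, rep cs h w r₀ = r := fun r hr => OfAut.exists_rep D B.root hr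
  have tX : ∀ r, IsRoot cs h r → ∀ x ∈ (X₀ r).map K.subtype, t * x = x * t := fun r hr x hx =>
    C.Kt x (D.XK hr hx)
  -- the element `w⁻¹ (t w t)` is `z r`
  have hbrk : ∀ r, IsRoot cs h r → ∀ w ∈ Wf D.rgd r₀ V₀ r, w⁻¹ * (t * w * t) ∈ (X₀ r).map K.subtype := by
    intro r hr v hv
    obtain ⟨w, k, hk, -, e1, e2⟩ := B.key htr hr
    rw [e1, mem_cj] at hv
    rw [e2, mem_cj]
    have h1 := B.brk _ hv
    have h2 := B.tN w k hk
    have h3 : t * k⁻¹ = k⁻¹ * t := B.tN w⁻¹ k⁻¹ hk.inv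
    have e3 : (k⁻¹ * v * k)⁻¹ * (t * (k⁻¹ * v * k) * t) = k⁻¹ * (v⁻¹ * (t * v * t)) * k := by
      calc (k⁻¹ * v * k)⁻¹ * (t * (k⁻¹ * v * k) * t) = k⁻¹ * v⁻¹ * k * ((t * k⁻¹) * v * (k * t)) := by group
        _ = k⁻¹ * v⁻¹ * k * ((k⁻¹ * t) * v * (t * k)) := by rw [h3, h2]
        _ = k⁻¹ * (v⁻¹ * (t * v * t)) * k := by group
    rwa [e3] at h1
  have hcent : ∀ r, IsRoot cs h r → ∀ w ∈ Wf D.rgd r₀ V₀ r, t * w = w * t → w ∈ (X₀ r).map K.subtype := by
    intro r hr v hv htv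
    obtain ⟨w, k, hk, -, e1, e2⟩ := B.key htr hr
    rw [e1, mem_cj] at hv
    rw [e2, mem_cj]
    apply B.cent _ hv
    have h2 := B.tN w k hk
    have h3 : t * k⁻¹ = k⁻¹ * t := B.tN w⁻¹ k⁻¹ hk.inv
    calc t * (k⁻¹ * v * k) = (t * k⁻¹) * v * k := by group
      _ = k⁻¹ * (t * v) * k := by rw [h3]; group
      _ = k⁻¹ * v * (t * k) := by rw [htv]; group
      _ = k⁻¹ * v * k * t := by rw [h2]; group
  refine ⟨z, ?_⟩
  exact
    { rg := hrg
      tt := C.tt
      zX := fun r hr => (hz r hr).1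
      z1 := fun r hr => (hz r hr).2.1
      Xz := fun r hr => (hz r hr).2.2
      dis := fun r hr s hs hrs e => (hz r hr).2.1 (Base0.inf D.rgd hr hs D.h4 D.h6 hrs (hz r hr).1 (e ▸ (hz s hs).1))
      tz := fun r hr => tX r hr _ (hz r hr).1
      XV := fun r hr => by
        obtain ⟨w, k, hk, -, e1, e2⟩ := B.key htr hr
        show (X₀ r).map K.subtype ≤ _
        rw [e1, e2]
        exact cj_mono k B.XW
      Vsq := fun r hr v hv => by
        obtain ⟨w, k, hk, -, e1, e2⟩ := B.key htr hr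
        rw [e1, mem_cj] at hv
        have h1 := B.sq _ hv
        calc v * v = k * ((k⁻¹ * v * k) * (k⁻¹ * v * k)) * k⁻¹ := by group
          _ = 1 := by rw [h1]; group
      brk := fun r hr w hw hwX => by
        have h1 := hbrk r hr w hw
        rcases (hz r hr).2.2 _ h1 with h2 | h2
        · exfalso
          apply hwX
          refine hcent r hr w hw ?_
          have h3 : t * w * t = w := (inv_mul_eq_one.1 h2).symm
          calc t * w = t * w * (t * t) := by rw [C.tt, mul_one]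
            _ = (t * w * t) * t := by group
            _ = w * t := by rw [h3]
        · rw [← h2]; group
      ex := fun r hr => by
        obtain ⟨w, k, hk, -, e1, e2⟩ := B.key htr hr
        obtain ⟨z₀, hz₀, hz₁, -⟩ := KTwo.exists_z D B.root
        obtain ⟨v, hv, e⟩ := B.surj z₀ hz₀
        refine ⟨k * v * k⁻¹, by rw [e1]; exact conj_mem_cj.2 hv, fun h1 => hz₁ ?_⟩
        have h2 : k * v * k⁻¹ ∈ cj k ((X₀ r₀).map K.subtype) := by rw [← e2]; exact h1
        have h3 : v ∈ (X₀ r₀).map K.subtype := conj_mem_cj.1 h2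
        rw [← e, tX r₀ B.root v h3, mul_assoc, C.tt, mul_one, inv_mul_cancel]
      WX := fun r hr a ha hg w hw => by
        obtain ⟨w', k, hk, e0, e1, e2⟩ := B.key htr hr
        rw [e1, mem_cj] at hw
        have h1 := D.rgd.conj_mem' hk ha (hz a ha).1
        have hbf : ∀ x y, Bf A (rep cs h w' x) (rep cs h w' y) = Bf A x y := fun x y => bf_rep D.h4 D.h6 w' x y
        have hbf' : ∀ x, Bf A (rep cs h w'⁻¹ x) r₀ = Bf A x r := fun x => by
          rw [← hbf, rep_apply_inv, e0]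
        have hg' : Gd (Bf A) {x | IsRoot cs h x} (rep cs h w'⁻¹ a) r₀ := by
          rcases hg with hg | ⟨hg, d, hd, hd1, hd2⟩
          · exact Or.inl (by rw [hbf']; exact hg)
          · refine Or.inr ⟨by rw [hbf']; exact hg, rep cs h w'⁻¹ d, IsRoot.act hd _, by rw [hbf']; exact hd1, ?_⟩
            rw [← hbf, rep_apply_inv, rep_apply_inv]; exact hd2
        have h2 := B.WX (rep cs h w'⁻¹ a) (ha.act _) hg' _ hw _ h1
        have e3 : z a * w = k * ((k⁻¹ * z a * k) * (k⁻¹ * w * k)) * k⁻¹ := by group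
        have e4 : w * z a = k * ((k⁻¹ * w * k) * (k⁻¹ * z a * k)) * k⁻¹ := by group
        rw [e3, e4, h2]
      K2 := fun r hr s hs hrs c hct hc => by
        refine OfAut.K2' D₀ (⟨C.tt, C.tK, C.Kt, C.nrm, C.cK⟩ : OfAut.Full t K) r hr s hs hrs c hct ?_
        intro a ha h1 h2 x hx
        rcases (hz a ha).2.2 x hx with h3 | h3
        · rw [h3, mul_one, one_mul]
        · rw [h3]; exact hc a ha h1 h2 }

/-- **The isolated root group centralises `V₀`.** -/
theorem comm_iso (D₀ : Datum (⊤ : Subgroup ↥K) 2 cs h T₀ n₀ X₀) (C : CT t K) {r b s g : I → ℤ} {V₀ : Subgroup G}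
    (B : BaseG (dm D₀).rgd t r V₀) (H : IsoRt cs h r b s g) :
    ∀ w ∈ V₀, ∀ x ∈ (X₀ b).map K.subtype, w * x = x * w := by
  have D := dm D₀
  have hR := roots cs h D.h4 D.h6
  obtain ⟨z, HH⟩ := exists_dh D₀ C B
  have hr := B.root
  have htr : ∀ r', IsRoot cs h r' → ∃ w, rep cs h w r = r' := fun r' hr' => OfAut.exists_rep D B.root hr'
  have eV : Wf D.rgd r V₀ r = V₀ := B.wf_self
  have tX : ∀ r, IsRoot cs h r → ∀ x ∈ (X₀ r).map K.subtype, t * x = x * t := fun r hr x hx =>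
    C.Kt x (D.XK hr hx)
  have hbf : ∀ (w : W) x y, Bf A (rep cs h w x) (rep cs h w y) = Bf A x y := fun w x y => bf_rep D.h4 D.h6 w x y
  intro w hw x hx
  rcases HH.Xz b H.hb x hx with h1 | h1
  · rw [h1, mul_one, one_mul]
  rw [h1]
  by_contra hne
  have zb2 := HH.zz H.hb
  have zr2 := HH.zz hr
  -- the action on the elements outside `X r`
  have act : ∀ v ∈ V₀, v ∉ (X₀ r).map K.subtype → z b * v * z b = v ∨ z b * v * z b = v * z r := by
    intro v hv hvX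
    have e0 : z b * v * z b ∈ V₀ := by
      have := B.nX b H.hb H.br (z b) (HH.zX b H.hb) v hv
      rwa [HH.zi H.hb] at this
    have hv' : v ∈ Wf D.rgd r V₀ r := by rw [eV]; exact hv
    have e0' : z b * v * z b ∈ Wf D.rgd r V₀ r := by rw [eV]; exact e0
    have e1 : z b * v * z b ∉ (X₀ r).map K.subtype := by
      intro h2
      apply hvX
      have h3 : z b * (z b * v * z b) = z b * v * z b * z b := by
        rcases HH.Xz r hr _ h2 with h4 | h4 <;> rw [h4]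
        · rw [mul_one, one_mul]
        · exact HH.zpos H.hb hr (by rw [H.br])
      have h4 : z b * v * z b = v := by
        calc z b * v * z b = z b * (z b * (z b * v * z b)) := by rw [← mul_assoc (z b) (z b), zb2, one_mul]
          _ = z b * (z b * v * z b * z b) := by rw [h3]
          _ = (z b * z b) * v * (z b * z b) := by group
          _ = v := by rw [zb2, one_mul, mul_one]
      rwa [h4] at h2
    obtain ⟨y, hy, e2⟩ := HH.coset hr hv' hvX e0' e1
    rcases HH.Xz r hr y hy with h4 | h4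
    · left; rw [e2, h4, mul_one]
    · right; rw [e2, h4]
  have wX : w ∉ (X₀ r).map K.subtype := by
    intro h2
    apply hne
    rcases HH.Xz r hr w h2 with h3 | h3 <;> rw [h3]
    · rw [mul_one, one_mul]
    · exact (HH.zpos H.hb hr (by rw [H.br])).symm
  have ew : z b * w * z b = w * z r := by
    refine (act w hw wX).resolve_left fun h2 => hne ?_
    calc w * z b = (z b * z b) * w * z b := by rw [zb2, one_mul]
      _ = z b * (z b * w * z b) := by group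
      _ = z b * w := by rw [h2]
  have hE : ∀ v ∈ Wf D.rgd r V₀ r, v ∉ (X₀ r).map K.subtype → z b * v * z b = v * z r := by
    intro v hv hvX
    have hw' : w ∈ Wf D.rgd r V₀ r := by rw [eV]; exact hw
    obtain ⟨y, hy, e2⟩ := HH.coset hr hw' wX hv hvX
    have h3 : z b * y = y * z b := by
      rcases HH.Xz r hr y hy with h4 | h4 <;> rw [h4]
      · rw [mul_one, one_mul]
      · exact HH.zpos H.hb hr (by rw [H.br])
    have h5 : z r * y = y * z r := by
      rcases HH.Xz r hr y hy with h4 | h4 <;> rw [h4]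
      rw [mul_one, one_mul]
    rw [e2]
    calc z b * (w * y) * z b = z b * w * (y * z b) := by group
      _ = (z b * w * z b) * y := by rw [← h3]; group
      _ = w * (z r * y) := by rw [ew]; group
      _ = w * y * z r := by rw [h5]; group
  -- the pair
  have P : Pr (Bf A) {x | IsRoot cs h x} (fun x => (X₀ x).map K.subtype) (Wf D.rgd r V₀) z r b :=
    ⟨hr, H.hb, H.br, fun d hd h0 => H.iso d hd h0, fun a ha h0 => H.gd a ha h0, hE⟩
  refine HH.false_of ?_ P H.hs H.hg H.sr H.sb H.gr H.gb H.sg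
  -- transport by reflections
  intro r' b' δ P' hδ
  obtain ⟨v, hv⟩ := bf_refl D.h4 D.h6 (cs := cs) (h := h) hδ
  obtain ⟨k, hk⟩ := exists_rp cs D.rgd.nsys v
  rw [← hv, ← hv]
  have hr' : IsRoot cs h r' := P'.hr
  have hb' : IsRoot cs h b' := P'.hb
  have zk : ∀ a, IsRoot cs h a → k * z a * k⁻¹ = z (rep cs h v a) := by
    intro a ha
    have h2 : k * z a * k⁻¹ ∈ (X₀ (rep cs h v a)).map K.subtype := by
      have h3 := D.rgd.conj_rp hk ha
      rw [← h3]
      exact conj_mem_cj.2 (HH.zX a ha)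
    refine (HH.Xz _ (ha.act v) _ h2).resolve_left fun h3 => HH.z1 a ha ?_
    calc z a = k⁻¹ * (k * z a * k⁻¹) * k := by group
      _ = 1 := by rw [h3]; group
  refine ⟨hr'.act v, hb'.act v, by rw [hbf]; exact P'.br, ?_, ?_, ?_⟩
  · intro d hd h0 h1
    have e1 : ∀ y, Bf A (rep cs h v⁻¹ d) y = Bf A d (rep cs h v y) := fun y => by
      rw [← hbf v, rep_apply_inv]
    exact P'.iso (rep cs h v⁻¹ d) (IsRoot.act hd _) (by rw [e1]; exact h0) (by rw [e1]; exact h1)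
  · intro a ha h0
    have e1 : ∀ y, Bf A (rep cs h v⁻¹ a) y = Bf A a (rep cs h v y) := fun y => by
      rw [← hbf v, rep_apply_inv]
    rcases P'.gd (rep cs h v⁻¹ a) (IsRoot.act ha _) (by rw [e1]; exact h0) with h1 | h1 | ⟨d, hd, h1, h2⟩
    · left; rw [← h1, rep_apply_inv]
    · right; left
      have : rep cs h v (rep cs h v⁻¹ a) = rep cs h v (-b') := by rw [h1]
      rwa [rep_apply_inv, map_neg] at this
    · right; right
      refine ⟨rep cs h v d, IsRoot.act hd _, by rw [hbf]; exact h1, ?_⟩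
      rw [← e1]; exact h2
  · intro u hu huX
    have h1 : k⁻¹ * u * k ∈ Wf D.rgd r V₀ r' := by
      have := B.eqv htr hk.inv (hr'.act v) hu
      rwa [rep_inv_apply, inv_inv] at this
    have h2 : k⁻¹ * u * k ∉ (X₀ r').map K.subtype := by
      intro h3
      apply huX
      have h4 := D.rgd.conj_rp hk hr'
      show u ∈ (X₀ (rep cs h v r')).map K.subtype
      rw [← h4, mem_cj]
      exact h3
    have h3 := P'.E _ h1 h2
    rw [← zk b' hb', ← zk r' hr']
    calc k * z b' * k⁻¹ * u * (k * z b' * k⁻¹) = k * (z b' * (k⁻¹ * u * k) * z b') * k⁻¹ := by group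
      _ = k * ((k⁻¹ * u * k) * z r') * k⁻¹ := by rw [h3]
      _ = u * (k * z r' * k⁻¹) := by group

/-- **`Base0` from `BaseG`.** -/
theorem base0 (D₀ : Datum (⊤ : Subgroup ↥K) 2 cs h T₀ n₀ X₀) (C : CT t K) {r b s g : I → ℤ} {V₀ : Subgroup G}
    (B : BaseG (dm D₀).rgd t r V₀) (H : IsoRt cs h r b s g) : Base0.Base0 (dm D₀).rgd t r V₀ := by
  have D := dm D₀
  refine ⟨B.root, B.XW, fun w hw => ?_, B.brk, B.cent, B.surj, ?_, B.nrm, B.tN⟩
  · rw [B.sq w hw]; exact one_mem _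
  · intro a ha h0
    rcases (show 1 ≤ Bf A a r ∨ Bf A a r = 0 by omega) with h1 | h1
    · exact B.WX a ha (Or.inl h1)
    · rcases H.gd a ha h1 with h2 | h2 | ⟨d, hd, h2, h3⟩
      · rw [h2]; exact comm_iso D₀ C B H
      · rw [h2]; exact comm_iso D₀ C B (H.neg D.h4 D.h6)
      · exact B.WX a ha (Or.inr ⟨h1, d, hd, h2, h3⟩)

end

end Cfsg.Agent.OddHalf.D7Ex.DLastOf
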