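import Cfsg.Agent.OddHalf.D7Ex.LinA
import Cfsg.Agent.OddHalf.D7Ex.TriE
import Cfsg.Agent.OddHalf.D7Ex.DLastOf

/-!
# A simple root `o` isolated in the roots orthogonal to the highest root (helper875)

* `NdI cs h f j κ r o` : `Nd` and one more node `o`, adjacent to `j` only;
* `pa` : `PA` for `P₀ = Lv ⊔ Qr`; `hrest` : the hypothesis of `Tri.exists_inner`; `isoRt` : `DLastOf.IsoRt`.
-/

set_option autoImplicit false
set_option linter.unusedSectionVars false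
set_option linter.dupNamespace false

namespace Cfsg.Agent.OddHalf.D7Ex.NdI

open Cfsg.Agent.OddHalf.SL Cfsg.Agent.KFacts CoxeterSystem Cfsg.Agent.ChevalleyStructure.CoxeterGeom
  Cfsg.Agent.Tits.Roots Cfsg.Agent.Tits.Core
  Cfsg.Agent.Tits.RootComb Cfsg.Agent.Nodes.Comb Cfsg.Agent.Nodes.Reps Cfsg.Agent.Nodes.BNOf
  Cfsg.Agent.Nodes.Bruhat Cfsg.Agent.Nodes.Coroot Cfsg.Agent.OddHalf.SL.Index Cfsg.Agent.OddHalf.SL.OfRGD
  Cfsg.Agent.Nodes.StabComb Cfsg.Agent.Nodes.LeviDec Cfsg.Agent.Nodes.Sub Cfsg.Agent.Nodes.SubComb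
  Cfsg.Agent.OddHalf.D7Ex.KTwo Cfsg.Agent.OddHalf.D7Ex.TriComb Cfsg.Agent.OddHalf.D7Ex.TriAux
  Cfsg.Agent.OddHalf.D7Ex.TriGrp Cfsg.Agent.OddHalf.D7Ex.TriFix Cfsg.Agent.OddHalf.D7Ex.TriLevi
  Cfsg.Agent.OddHalf.D7Ex.TriE
  Cfsg.Agent.OddHalf.D7Ex.KData Cfsg.Agent.KFacts.SLRow.Def

variable {I J W G : Type*} [Fintype I] [DecidableEq I] [Fintype J] [DecidableEq J] [Group W] [Group G]
  {M : CoxeterMatrix I} {cs : CoxeterSystem M W} {A : I → I → ℤ} {h : IsCartan M A} {T : Subgroup G} {n : I → G}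
  {X : (I → ℤ) → Subgroup G} {K : Subgroup G} {t : G}

/-- the node data with one isolated node `o` -/
structure NdI (cs : CoxeterSystem M W) (h : IsCartan M A) (f : J ↪ I) (j : I) (κ : J) (r : I → ℤ) (o : I) : Prop
    extends Nd cs h f j κ r where
  oj : o ≠ j
  of : ∀ i, f i ≠ o
  full : ∀ i, i = j ∨ i = o ∨ ∃ k, f k = i
  jo : Bf A (sr o) (sr j) = -1

variable {f : J ↪ I} {j : I} {κ : J} {r : I → ℤ} {o : I}

/-- the hypothesis of `Tri.exists_inner` -/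
theorem NdI.hrest (N : NdI cs h f j κ r o) :
    ∀ b b', b ≠ j → (∀ i, f i ≠ b) → b' ≠ j → (∀ i, f i ≠ b') → b = b' := by
  intro b b' h1 h2 h3 h4
  have key : ∀ b, b ≠ j → (∀ i, f i ≠ b) → b = o := by
    intro b h1 h2
    rcases N.full b with h | h | ⟨k, h⟩
    · exact absurd h h1
    · exact h
    · exact absurd h (h2 k)
  rw [key b h1 h2, key b' h3 h4]

theorem NdI.fo (N : NdI cs h f j κ r o) (i : J) : Bf A (sr o) (sr (f i)) = 0 := N.rest o N.oj N.of i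

variable [Finite W] (h4 : ∀ i j, M i j ≠ 4) (h6 : ∀ i j, M i j ≠ 6) (N : NdI cs h f j κ r o)

include h4 h6 N

/-- `(a, o) = 2 a_o - a_j` -/
theorem bf_o (a : I → ℤ) : Bf A a (sr o) = 2 * a o - a j := by
  have hR := roots cs h h4 h6
  rw [hR.symm, bf_expand, ← Finset.add_sum_erase _ _ (Finset.mem_univ o),
    ← Finset.add_sum_erase _ _ (Finset.mem_erase.2 ⟨N.oj.symm, Finset.mem_univ j⟩), N.jo,
    hR.two _ (isRoot_sr cs h o), Finset.sum_eq_zero]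
  · ring
  · intro i hi
    rw [Finset.mem_erase, Finset.mem_erase] at hi
    rcases N.full i with h1 | h1 | ⟨k, rfl⟩
    · exact absurd h1 hi.1
    · exact absurd h1 hi.2.1
    · rw [N.fo k, mul_zero]

theorem br : Bf A (sr o) r = 0 := N.di o N.oj

/-- `o` is isolated -/
theorem iso {d : I → ℤ} (h0 : Bf A d r = 0) : Bf A d (sr o) ≠ 1 := by
  rw [bf_r h4 h6 N.toNd] at h0
  rw [bf_o h4 h6 N, h0]
  omega

theorem pm {c : I → ℤ} (hc : c ∈ Ph1 (Bf A) {x | IsRoot cs h x} r) : Bf A c (sr o) = 1 ∨ Bf A c (sr o) = -1 := by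
  have hR := roots cs h h4 h6
  have h1 := ((mem_Ph1 h4 h6 N.toNd).1 hc).2
  have h2 := hR.le _ hc.1 _ (isRoot_sr cs h o)
  have h3 := hR.ge hc.1 (isRoot_sr cs h o)
  rw [bf_o h4 h6 N, h1] at h2 h3 ⊢
  omega

/-- the roots orthogonal to `r` and `o` -/
theorem mem_RootsJ {a : I → ℤ} (ha : IsRoot cs h a) (h0 : Bf A a r = 0) (h1 : Bf A a (sr o) = 0) :
    a ∈ RootsJ cs h (Set.range f) := by
  rw [bf_r h4 h6 N.toNd] at h0
  rw [bf_o h4 h6 N, h0] at h1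
  refine ⟨ha, fun k hk => ?_⟩
  rcases N.full k with h2 | h2 | h2
  · rw [h2, h0]
  · rw [h2]; omega
  · exact absurd h2 hk

theorem RootsJ_o {a : I → ℤ} (ha : a ∈ RootsJ cs h (Set.range f)) : Bf A a (sr o) = 0 := by
  rw [bf_o h4 h6 N, ha.2 j (by rintro ⟨i, hi⟩; exact N.fj i hi), ha.2 o (by rintro ⟨i, hi⟩; exact N.of i hi)]
  norm_num

/-- every `c ∈ Ph1` has a neighbour in `J` -/
theorem ex {c : I → ℤ} (hc : c ∈ Ph1 (Bf A) {x | IsRoot cs h x} r) :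
    ∃ d ∈ RootsJ cs h (Set.range f), Bf A c d = 1 := by
  have hR := roots cs h h4 h6
  have hJ : ∀ k, sr (f k) ∈ RootsJ cs h (Set.range f) := fun k => PosJ_subset _ (sr_mem_PosJ ⟨k, rfl⟩)
  by_cases h1 : c = sr j
  · refine ⟨-sr (f κ), RootsJ.neg (hJ κ), ?_⟩
    rw [h1, hR.neg_right, hR.symm, N.kj]; norm_num
  obtain ⟨i, hi, h2⟩ := exists_one h4 h6 N.toNd hc h1
  rcases N.full i with h3 | h3 | ⟨k, rfl⟩
  · exact absurd h3 hi
  · rw [h3] at h2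
    have hcb : c - sr o ∈ Ph1 (Bf A) {x | IsRoot cs h x} r :=
      ⟨hR.sub_mem hc.1 (isRoot_sr cs h o) h2, by rw [hR.sub_left, hc.2, br h4 h6 N]; norm_num⟩
    have h5 : Bf A (c - sr o) (sr o) = -1 := by
      rw [hR.sub_left, h2, hR.two _ (isRoot_sr cs h o)]; norm_num
    by_cases h7 : c - sr o = sr j
    · refine ⟨-sr (f κ), RootsJ.neg (hJ κ), ?_⟩
      have h8 : c = sr j + sr o := sub_eq_iff_eq_add.1 h7
      rw [h8, hR.neg_right, hR.add_left, hR.symm, N.kj, N.fo]; norm_num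
    · obtain ⟨i', hi', h8⟩ := exists_one h4 h6 N.toNd hcb h7
      rcases N.full i' with h9 | h9 | ⟨k, rfl⟩
      · exact absurd h9 hi'
      · rw [h9, h5] at h8
        exact absurd h8 (by norm_num)
      · refine ⟨sr (f k), hJ k, ?_⟩
        rw [hR.sub_left, N.fo, sub_zero] at h8
        exact h8
  · exact ⟨sr (f k), hJ k, h2⟩

/-- the roots orthogonal to `r` -/
theorem gd (hnb : ∀ i, ∃ i', Bf A (sr (f i)) (sr (f i')) = -1) {a : I → ℤ} (ha : IsRoot cs h a) (h0 : Bf A a r = 0) :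
    a = sr o ∨ a = -sr o ∨ ∃ d, IsRoot cs h d ∧ Bf A d r = 0 ∧ Bf A a d = 1 := by
  have hR := roots cs h h4 h6
  by_cases h1 : Bf A a (sr o) = 0
  · right; right
    obtain ⟨d, hd, h2⟩ := exists_nb (f := f) h4 h6 hnb (mem_RootsJ h4 h6 N ha h0 h1)
    exact ⟨d, hd.1, RootsJ_zero h4 h6 N.toNd hd, h2⟩
  · have h2 := hR.le _ ha _ (isRoot_sr cs h o)
    have h3 := hR.ge ha (isRoot_sr cs h o)
    have h0' := h0
    rw [bf_r h4 h6 N.toNd] at h0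
    have h5 := bf_o h4 h6 N a
    rw [h0] at h5
    rcases (show Bf A a (sr o) = 2 ∨ Bf A a (sr o) = -2 by omega) with h6' | h6'
    · left; exact hR.eq _ ha _ (isRoot_sr cs h o) h6'
    · right; left; exact hR.eq_neg ha (isRoot_sr cs h o) h6'

/-- `DLastOf.IsoRt` -/
theorem isoRt (hnb : ∀ i, ∃ i', Bf A (sr (f i)) (sr (f i')) = -1) :
    ∃ s g, DLastOf.IsoRt cs h r (sr o) s g := by
  have hR := roots cs h h4 h6
  -- a root of `Ph1` with `(s, b) = 1`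
  obtain ⟨s, hs, hsb⟩ : ∃ s ∈ Ph1 (Bf A) {x | IsRoot cs h x} r, Bf A s (sr o) = 1 := by
    have hj : sr j ∈ Ph1 (Bf A) {x | IsRoot cs h x} r := ⟨isRoot_sr cs h j, N.dj⟩
    have h1 : Bf A (sr j) (sr o) = -1 := by rw [hR.symm, N.jo]
    refine ⟨sr j + sr o, ⟨hR.add _ hj.1 _ (isRoot_sr cs h o) h1, ?_⟩, ?_⟩
    · rw [hR.add_left, hj.2, br h4 h6 N]; norm_num
    · rw [hR.add_left, h1, hR.two _ (isRoot_sr cs h o)]; norm_num
  obtain ⟨d, hd, h1⟩ := ex h4 h6 N hs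
  have hdr := RootsJ_zero h4 h6 N.toNd hd
  have hdb := RootsJ_o h4 h6 N hd
  refine ⟨s, s - d, isRoot_sr cs h o, br h4 h6 N, fun d _ h0 => iso h4 h6 N h0, fun a ha h0 => gd h4 h6 N hnb ha h0,
    hs.1, hR.sub_mem hs.1 hd.1 h1, hs.2, hsb, ?_, ?_, ?_⟩
  · rw [hR.sub_left, hs.2, hdr]; norm_num
  · rw [hR.sub_left, hsb, hdb]; norm_num
  · rw [hR.sub_right, hR.two _ hs.1, h1]; norm_num

omit h4 h6 in
/-- **`PA` for `P₀ = Lv ⊔ Qr`.** -/
theorem pa [Finite G] (D : Datum K 2 cs h T n X) :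
    PA (Bf A) {x | IsRoot cs h x} X r (sr o) (Lv cs h X f ⊔ Qr cs h X r) where
  hb := isRoot_sr cs h o
  br := br D.h4 D.h6 N
  pm := fun _ hc => pm D.h4 D.h6 N hc
  ld := fun _ hd h1 h2 => (RGD.le_Sup (mem_RootsJ D.h4 D.h6 N hd h1 h2)).trans le_sup_left
  lt := by
    refine sup_le_sup_right (RGD.Sup_le fun d hd => ?_) _
    exact le_iSup₂ (f := fun d (_ : d ∈ {d | d ∈ {x | IsRoot cs h x} ∧ Bf A d r = 0 ∧ Bf A d (sr o) = 0}) => X d) d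
      ⟨hd.1, RootsJ_zero D.h4 D.h6 N.toNd hd, RootsJ_o D.h4 D.h6 N hd⟩
  ex := fun _ hc => by
    obtain ⟨d, hd, h1⟩ := ex D.h4 D.h6 N hc
    exact ⟨d, hd.1, RootsJ_zero D.h4 D.h6 N.toNd hd, RootsJ_o D.h4 D.h6 N hd, h1⟩
  two := fun _ ha _ hx _ hy hx1 hy1 => eq_of_ne D ha hx hy hx1 hy1

end Cfsg.Agent.OddHalf.D7Ex.NdI
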