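import Cfsg.Agent.OddHalf.D7Ex.DBase
import Cfsg.Agent.OddHalf.D7Ex.NdI

/-!
# `q = 2`, an isolated node `o`: `BaseG` at the highest root (helper875)

**`exists_baseG`** : from `KR` for `P₀ = Lv ⊔ Qr`, a Sylow `2`-subgroup `S` of `C(t)` and `m ∈ N(S)`, `m t m⁻¹ = t z`.
-/

set_option autoImplicit false
set_option linter.unusedSectionVars false

namespace Cfsg.Agent.OddHalf.D7Ex.DBaseOf

open Cfsg.Agent.OddHalf.SL Cfsg.Agent.KFacts CoxeterSystem Cfsg.Agent.ChevalleyStructure.CoxeterGeom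
  Cfsg.Agent.Tits.Roots Cfsg.Agent.Tits.Core
  Cfsg.Agent.Tits.RootComb Cfsg.Agent.Nodes.Comb Cfsg.Agent.Nodes.Reps Cfsg.Agent.Nodes.BNOf
  Cfsg.Agent.Nodes.Bruhat Cfsg.Agent.Nodes.Coroot Cfsg.Agent.OddHalf.SL.Index Cfsg.Agent.OddHalf.SL.OfRGD
  Cfsg.Agent.Nodes.StabComb Cfsg.Agent.Nodes.LeviDec Cfsg.Agent.Nodes.Sub Cfsg.Agent.Nodes.SubComb
  Cfsg.Agent.OddHalf.D7Ex.KTwo Cfsg.Agent.OddHalf.D7Ex.TriComb Cfsg.Agent.OddHalf.D7Ex.TriAux
  Cfsg.Agent.OddHalf.D7Ex.TriGrp Cfsg.Agent.OddHalf.D7Ex.TriFix Cfsg.Agent.OddHalf.D7Ex.TriLevi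
  Cfsg.Agent.OddHalf.D7Ex.Tri Cfsg.Agent.OddHalf.D7Ex.TriE Cfsg.Agent.OddHalf.SL.OfDatum
  Cfsg.Agent.KFacts.RgdCent Cfsg.Agent.KFacts.RgdPar Cfsg.Agent.KFacts.RgdTI
  Cfsg.Agent.OddHalf.D7Ex.KData Cfsg.Agent.KFacts.SLRow.Def Cfsg.Agent.OddHalf.D7Ex.NdI

variable {I J W G : Type*} [Fintype I] [DecidableEq I] [Fintype J] [DecidableEq J] [Group W] [Group G]
  {M : CoxeterMatrix I} {cs : CoxeterSystem M W} {A : I → I → ℤ} {h : IsCartan M A} {T : Subgroup G} {n : I → G}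
  {X : (I → ℤ) → Subgroup G} {K : Subgroup G} {t : G}

variable [Finite W] [Finite G] {f : J ↪ I} {j : I} {κ : J} {r : I → ℤ} {o : I} (D : Datum K 2 cs h T n X)

include D

/-- the root groups of the good roots lie in `P₀` -/
theorem le_of_gd (N : NdI cs h f j κ r o) {a : I → ℤ} (ha : IsRoot cs h a)
    (hg : DLast.Gd (Bf A) {x | IsRoot cs h x} a r) : X a ≤ Lv cs h X f ⊔ Qr cs h X r := by
  have hR := roots cs h D.h4 D.h6
  rcases hg with h1 | ⟨h0, d, hd, hdr, had⟩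
  · have h2 := hR.le a ha r N.hr
    rcases (show Bf A a r = 1 ∨ Bf A a r = 2 by omega) with h3 | h3
    · exact (le_QS X r (show a ∈ Ph1 (Bf A) {x | IsRoot cs h x} r from ⟨ha, h3⟩)).trans le_sup_right
    · rw [hR.eq a ha r N.hr h3]
      exact (X_le_QS X _ r).trans le_sup_right
  · refine (pa N D).ld a ha h0 ?_
    have i1 := iso D.h4 D.h6 N h0
    have i2 := iso D.h4 D.h6 N (d := -a) (by rw [hR.neg_left, h0, neg_zero])
    rw [hR.neg_left] at i2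
    have h2 := hR.le a ha _ (isRoot_sr cs h o)
    have h3 := hR.ge ha (isRoot_sr cs h o)
    rcases (show Bf A a (sr o) = 0 ∨ Bf A a (sr o) = 2 ∨ Bf A a (sr o) = -2 by omega) with h4 | h4 | h4
    · exact h4
    · exfalso
      rw [hR.eq a ha _ (isRoot_sr cs h o) h4, hR.symm] at had
      exact iso D.h4 D.h6 N hdr had
    · exfalso
      rw [hR.eq_neg ha (isRoot_sr cs h o) h4, hR.symm, hR.neg_right] at had
      exact iso D.h4 D.h6 N (d := -d) (by rw [hR.neg_left, hdr, neg_zero]) (by rw [hR.neg_left, had])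

/-- **`BaseG` at the highest root.** -/
theorem exists_baseG (C : Fl t K) (N : NdI cs h f j κ r o)
    (HK : KR t (Bf A) {x | IsRoot cs h x} X r (Lv cs h X f ⊔ Qr cs h X r) T)
    (haut : ∀ σ τ : Equiv.Perm J, (∀ i k, M (f (σ i)) (f (σ k)) = M (f i) (f k)) → σ κ = κ →
      (∀ i k, M (f (τ i)) (f (τ k)) = M (f i) (f k)) → τ κ = κ → σ ≠ 1 → τ ≠ 1 → σ = τ)
    {z : G} (hz : z ∈ X r) (hz1 : z ≠ 1) {S : Subgroup G} {m : G}
    (Y : Syl K (RGD.Sup X (RGD.Pos cs h)) t z S m) : ∃ V, DLastOf.BaseG D.rgd t r V := by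
  have hR := roots cs h D.h4 D.h6
  obtain ⟨c, ct, cz, u, hu, hl⟩ := exists_inner D C N.toNd hz hz1 HK rfl N.hrest haut Y
  have hc : Gd t z c := ⟨cz, Or.inr ct⟩
  have hzz : ∀ x ∈ X r, x = 1 ∨ x = z := by
    intro x hx
    by_cases hx1 : x = 1
    · exact Or.inl hx1
    · exact Or.inr (eq_of_ne D N.hr hx hz hx1 hz1)
  obtain ⟨V, O, Vsq, Vn⟩ := HK.exists_iso (pa N D) hzz (Gd.gX D hz hz1 N.hr hc) (Gd.gt HK hz hc)
    (by rw [ct]; intro e; exact hz1 (mul_eq_left.1 e)) (p0 := u) (Subgroup.mem_sup_left (Uv_le_Lv hu))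
    (fun p hp => hin D N.toNd hz hz1 HK hc (Uv_le_Lv hu) hl p hp)
  have hN : ∀ w k, Rp cs D.rgd.nsys w k → k ∈ K := by
    intro w k hk
    rw [← D.GG_eq]
    exact NN_le_GG D.rgd ⟨_, hk⟩
  refine ⟨V, N.hr, O.XW, Vsq, O.brk, O.cent, O.surj, ?_, ?_, ?_, fun w k hk => C.Kt k (hN w k hk)⟩
  · intro a ha hg w hw x hx
    exact O.WP w hw x (le_of_gd D N ha hg hx)
  · intro a ha h0 x hx v hv
    refine Vn x (C.Kt x (D.XK ha hx)).symm (fun y hy => ?_) v hv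
    rw [(rg D).pos a ha r N.hr (by rw [h0]) x hx y hy, mul_inv_cancel_right]
    exact hy
  · intro w k hk hwr v hv
    refine Vn k (C.Kt k (hN w k hk)).symm (fun y hy => ?_) v hv
    have h1 := D.rgd.conj_mem hk N.hr hy
    rwa [hwr] at h1

end Cfsg.Agent.OddHalf.D7Ex.DBaseOf
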