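import Cfsg.Agent.OddHalf.D7Ex.TriE

/-!
# `D_n(2)`, `n ≥ 5`: `KR` for `P₀ = L Q`, `L` without the isolated rank one factor

* `sup_comm_le`, `le_of_perf` : a perfect subgroup of `N S`, `S'' = 1`, lies in `N`;
* `exists_core` : the largest normal `p`-subgroup;
* `krD` : `KR` for `P₀ = Lv ⊔ Qr`.
-/

set_option autoImplicit false
set_option linter.unusedSectionVars false

namespace Cfsg.Agent.OddHalf.D7Ex.KRD

open Cfsg.Agent.OddHalf.SL Cfsg.Agent.KFacts CoxeterSystem Cfsg.Agent.ChevalleyStructure.CoxeterGeom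
  Cfsg.Agent.Tits.Roots Cfsg.Agent.Tits.Core
  Cfsg.Agent.Tits.RootComb Cfsg.Agent.Nodes.Comb Cfsg.Agent.Nodes.Reps Cfsg.Agent.Nodes.BNOf
  Cfsg.Agent.Nodes.Bruhat Cfsg.Agent.Nodes.Coroot Cfsg.Agent.OddHalf.SL.Index Cfsg.Agent.OddHalf.SL.OfRGD
  Cfsg.Agent.Nodes.StabComb Cfsg.Agent.Nodes.LeviDec Cfsg.Agent.Nodes.Sub Cfsg.Agent.Nodes.SubComb
  Cfsg.Agent.OddHalf.D7Ex.KTwo Cfsg.Agent.OddHalf.D7Ex.TriComb Cfsg.Agent.OddHalf.D7Ex.TriAux
  Cfsg.Agent.OddHalf.D7Ex.TriGrp Cfsg.Agent.OddHalf.D7Ex.TriFix Cfsg.Agent.OddHalf.D7Ex.TriLevi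
  Cfsg.Agent.OddHalf.D7Ex.Tri Cfsg.Agent.OddHalf.D7Ex.GamAut Cfsg.Agent.OddHalf.SL.OfDatum
  Cfsg.Agent.KFacts.RgdCent Cfsg.Agent.KFacts.RgdPar Cfsg.Agent.KFacts.RgdTI Cfsg.Agent.KFacts.RgdEx
  Cfsg.Agent.OddHalf.D7Ex.KData Cfsg.Agent.KFacts.SLRow.Def Cfsg.Agent.OddHalf.D7Ex.TriE
open scoped commutatorElement

/-! ### Groups -/

section Grp

variable {G : Type*} [Group G]

/-- `[N S, N S] ≤ N [S, S]` -/
theorem sup_comm_le {N S : Subgroup G} (hn : ∀ s ∈ S, ∀ x ∈ N, s * x * s⁻¹ ∈ N) :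
    ⁅N ⊔ S, N ⊔ S⁆ ≤ N ⊔ ⁅S, S⁆ := by
  have hmem : ∀ y ∈ N ⊔ S, ∃ x ∈ N, ∃ s ∈ S, y = x * s := by
    intro y hy
    rw [sup_comm] at hy
    obtain ⟨s, hs, x, hx, rfl⟩ := (mem_sup_norm hn).1 hy
    exact ⟨s * x * s⁻¹, hn s hs x hx, s, hs, by group⟩
  rw [Subgroup.commutator_le]
  intro g₁ hg₁ g₂ hg₂
  obtain ⟨x, hx, s, hs, rfl⟩ := hmem g₁ hg₁
  obtain ⟨y, hy, u, hu, rfl⟩ := hmem g₂ hg₂
  have h1 : s * u * s⁻¹ ∈ S := mul_mem (mul_mem hs hu) (inv_mem hs)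
  have h2 : s * y * s⁻¹ ∈ N := hn s hs y hy
  have h3 : (s * u * s⁻¹) * x⁻¹ * (s * u * s⁻¹)⁻¹ ∈ N := hn _ h1 _ (inv_mem hx)
  have h4 : s * u * s⁻¹ * u⁻¹ ∈ ⁅S, S⁆ := Subgroup.commutator_mem_commutator hs hu
  have e : ⁅x * s, y * u⁆ = (x * (s * y * s⁻¹) * ((s * u * s⁻¹) * x⁻¹ * (s * u * s⁻¹)⁻¹)) *
      (s * u * s⁻¹ * u⁻¹) * y⁻¹ := by
    rw [commutatorElement_def]; group
  rw [e]
  exact mul_mem (mul_mem (Subgroup.mem_sup_left (mul_mem (mul_mem hx h2) h3)) (Subgroup.mem_sup_right h4))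
    (Subgroup.mem_sup_left (inv_mem hy))

/-- a perfect subgroup of `N S`, `S'' = 1`, lies in `N` -/
theorem le_of_perf {N S R : Subgroup G} (hn : ∀ s ∈ S, ∀ x ∈ N, s * x * s⁻¹ ∈ N) (hR : R ≤ N ⊔ S)
    (perf : R ≤ ⁅R, R⁆) (h2 : ⁅⁅S, S⁆, ⁅S, S⁆⁆ = ⊥) : R ≤ N := by
  have hS : ⁅S, S⁆ ≤ S := (Subgroup.commutator_le).2 fun a ha b hb => by
    rw [commutatorElement_def]
    exact mul_mem (mul_mem (mul_mem ha hb) (inv_mem ha)) (inv_mem hb)
  have h3 : R ≤ N ⊔ ⁅S, S⁆ := perf.trans ((Subgroup.commutator_mono hR hR).trans (sup_comm_le hn))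
  have h4 := perf.trans ((Subgroup.commutator_mono h3 h3).trans (sup_comm_le fun s hs => hn s (hS hs)))
  rwa [h2, sup_bot_eq] at h4

/-- two involutions generate a group with trivial second derived group -/
theorem dih {a b : G} (ha : a * a = 1) (hb : b * b = 1) {S : Subgroup G}
    (hS : S ≤ Subgroup.zpowers (a * b) ⊔ Subgroup.zpowers a) : ⁅⁅S, S⁆, ⁅S, S⁆⁆ = ⊥ := by
  have ha' : a⁻¹ = a := inv_eq_of_mul_eq_one_left ha
  have hb' : b⁻¹ = b := inv_eq_of_mul_eq_one_left hb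
  have hab : ∀ H : Subgroup G, (∀ x ∈ H, ∀ y ∈ H, x * y = y * x) → ⁅H, H⁆ = ⊥ := by
    intro H hH
    rw [eq_bot_iff, Subgroup.commutator_le]
    intro x hx y hy
    rw [Subgroup.mem_bot, commutatorElement_eq_one_iff_mul_comm]
    exact hH x hx y hy
  have hz : ∀ c : G, ∀ x ∈ Subgroup.zpowers c, ∀ y ∈ Subgroup.zpowers c, x * y = y * x := by
    rintro c _ ⟨i, rfl⟩ _ ⟨j, rfl⟩
    show c ^ i * c ^ j = c ^ j * c ^ i
    rw [← zpow_add, ← zpow_add, add_comm]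
  have h1 : ∀ s ∈ Subgroup.zpowers a, ∀ x ∈ Subgroup.zpowers (a * b), s * x * s⁻¹ ∈ Subgroup.zpowers (a * b) := by
    have h2 : a ∈ Subgroup.normalizer (Subgroup.zpowers (a * b) : Set G) := by
      have key : ∀ x ∈ Subgroup.zpowers (a * b), a * x * a⁻¹ ∈ Subgroup.zpowers (a * b) := by
        rintro _ ⟨i, rfl⟩
        refine ⟨-i, ?_⟩
        show (a * b) ^ (-i) = a * (a * b) ^ i * a⁻¹
        rw [← conj_zpow, zpow_neg, ← inv_zpow, mul_inv_rev, ha', hb']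
        congr 1
        calc b * a = (a * a) * b * a := by rw [ha, one_mul]
          _ = a * (a * b) * a := by group
      rw [Subgroup.mem_normalizer_iff]
      intro x
      refine ⟨key x, fun hx => ?_⟩
      have := key _ hx
      have e : a * (a * x * a⁻¹) * a⁻¹ = x := by
        calc a * (a * x * a⁻¹) * a⁻¹ = (a * a) * x * (a * a)⁻¹ := by group
          _ = x := by rw [ha]; group
      rwa [e] at this
    intro s hs x hx
    have h3 : Subgroup.zpowers a ≤ Subgroup.normalizer (Subgroup.zpowers (a * b) : Set G) := by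
      rw [Subgroup.zpowers_le]; exact h2
    exact (Subgroup.mem_normalizer_iff.1 (h3 hs) x).1 hx
  have h2 : ⁅S, S⁆ ≤ Subgroup.zpowers (a * b) := by
    refine (Subgroup.commutator_mono hS hS).trans ((sup_comm_le h1).trans ?_)
    rw [hab _ (hz a), sup_bot_eq]
  exact hab _ fun x hx y hy => hz _ x (h2 hx) y (h2 hy)

/-- The largest `p`-subgroup normalised by `P` is normalised by the normaliser of `P`. -/
theorem exists_core {p : ℕ} [Fact p.Prime] [Finite G] {P R : Subgroup G} (hR : R ≤ P) (hp : IsPGroup p R)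
    (hn : ∀ x ∈ P, ∀ y ∈ R, x * y * x⁻¹ ∈ R) :
    ∃ O : Subgroup G, R ≤ O ∧ O ≤ P ∧ IsPGroup p O ∧
      ∀ u, (∀ x ∈ P, u * x * u⁻¹ ∈ P) → (∀ x ∈ P, u⁻¹ * x * u ∈ P) → ∀ x ∈ O, u * x * u⁻¹ ∈ O := by
  let O' : Subgroup ↥P := ⨅ S : Sylow p ↥P, (S : Subgroup ↥P)
  refine ⟨O'.map P.subtype, ?_, ?_, ?_, ?_⟩
  · intro x hx
    refine ⟨⟨x, hR hx⟩, ?_, rfl⟩
    have hnorm : (R.subgroupOf P).Normal := ⟨fun y hy g => by
      rw [Subgroup.mem_subgroupOf] at hy ⊢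
      exact hn g g.2 y hy⟩
    have hpg : IsPGroup p ↥(R.subgroupOf P) := hp.comap_of_injective P.subtype P.subtype_injective
    show (⟨x, hR hx⟩ : ↥P) ∈ O'
    rw [Subgroup.mem_iInf]
    intro S
    exact hpg.le_sylow_of_normal S (Subgroup.mem_subgroupOf.2 hx)
  · rintro _ ⟨x, -, rfl⟩
    exact x.2
  · obtain ⟨S⟩ : Nonempty (Sylow p ↥P) := inferInstance
    have h1 : O' ≤ S := iInf_le _ S
    exact (S.2.to_le h1).map _
  · rintro u h1 h2 _ ⟨x, hx, rfl⟩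
    let φ : MulAut ↥P :=
      { toFun := fun y => ⟨u * y * u⁻¹, h1 y y.2⟩
        invFun := fun y => ⟨u⁻¹ * y * u, h2 y y.2⟩
        left_inv := fun y => Subtype.ext (by show u⁻¹ * (u * y * u⁻¹) * u = y; group)
        right_inv := fun y => Subtype.ext (by show u * (u⁻¹ * y * u) * u⁻¹ = y; group)
        map_mul' := fun y z => Subtype.ext (by
          show u * (y * z) * u⁻¹ = (u * y * u⁻¹) * (u * z * u⁻¹); group) }
    refine ⟨φ x, ?_, rfl⟩
    have hx' : x ∈ O' := hx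
    show φ x ∈ O'
    rw [Subgroup.mem_iInf] at hx' ⊢
    intro S
    have h3 := hx' (φ⁻¹ • S)
    rw [Sylow.pointwise_smul_def, Subgroup.mem_inv_pointwise_smul_iff] at h3
    exact h3

end Grp

/-! ### The isolated node -/

variable {I J W G : Type*} [Fintype I] [DecidableEq I] [Fintype J] [DecidableEq J] [Group W] [Group G]
  {M : CoxeterMatrix I} {cs : CoxeterSystem M W} {A : I → I → ℤ} {h : IsCartan M A} {T : Subgroup G} {n : I → G}
  {X : (I → ℤ) → Subgroup G} {K : Subgroup G} {t : G}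

/-- node data with an isolated node `o` -/
structure Nodes (cs : CoxeterSystem M W) (h : IsCartan M A) (f : J ↪ I) (j : I) (κ : J) (r : I → ℤ) (o : I) : Prop where
  nd : Nd cs h f j κ r
  oj : o ≠ j
  fo : ∀ i, f i ≠ o
  full : ∀ i, i = j ∨ i = o ∨ ∃ k, f k = i
  jo : Bf A (sr o) (sr j) = -1

section Comb

variable [Finite W] {f : J ↪ I} {j : I} {κ : J} {r : I → ℤ} {o : I} (h4 : ∀ i j, M i j ≠ 4) (h6 : ∀ i j, M i j ≠ 6)
  (N : Nodes cs h f j κ r o)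

include h4 h6 N

/-- `(a, o) = 2 a o - a j` -/
theorem bf_o (a : I → ℤ) : Bf A a (sr o) = 2 * a o - a j := by
  have hR := roots cs h h4 h6
  rw [hR.symm, bf_expand, Finset.sum_eq_add o j N.oj]
  · rw [hR.two _ (isRoot_sr cs h o), N.jo]; ring
  · rintro i - ⟨hio, hij⟩
    obtain ⟨k, rfl⟩ := ((N.full i).resolve_left hij).resolve_left hio
    rw [N.nd.rest o N.oj N.fo k, mul_zero]
  · intro h1; exact absurd (Finset.mem_univ o) h1
  · intro h1; exact absurd (Finset.mem_univ j) h1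

/-- the roots orthogonal to `r` -/
theorem orth_cases {a : I → ℤ} (ha : IsRoot cs h a) (h0 : Bf A a r = 0) :
    a = sr o ∨ a = -sr o ∨ a ∈ RootsJ cs h (Set.range f) := by
  have hR := roots cs h h4 h6
  rw [bf_r h4 h6 N.nd] at h0
  have h1 := bf_o h4 h6 N a
  rw [h0, sub_zero] at h1
  have h2 := hR.le a ha _ (isRoot_sr cs h o)
  have h3 := hR.ge ha (isRoot_sr cs h o)
  rcases (show a o = 0 ∨ a o = 1 ∨ a o = -1 by omega) with h5 | h5 | h5
  · right; right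
    refine ⟨ha, fun k hk => ?_⟩
    rcases N.full k with e | e | e
    · rw [e, h0]
    · rw [e, h5]
    · exact absurd e hk
  · left
    exact hR.eq a ha _ (isRoot_sr cs h o) (by rw [h1, h5]; norm_num)
  · right; left
    exact hR.eq_neg ha (isRoot_sr cs h o) (by rw [h1, h5]; norm_num)

/-- the roots of `J` are orthogonal to `o` -/
theorem RootsJ_o {a : I → ℤ} (ha : a ∈ RootsJ cs h (Set.range f)) : Bf A a (sr o) = 0 := by
  rw [bf_o h4 h6 N, ha.2 o (by rintro ⟨i, hi⟩; exact N.fo i hi),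
    ha.2 j (by rintro ⟨i, hi⟩; exact N.nd.fj i hi)]
  norm_num

/-- every root of `Ph1` has a neighbour in `J` -/
theorem exists_J {b : I → ℤ} (hb : b ∈ Ph1 (Bf A) {x | IsRoot cs h x} r) :
    ∃ d ∈ RootsJ cs h (Set.range f), Bf A b d = 1 := by
  have hR := roots cs h h4 h6
  have hsJ : ∀ k, sr (f k) ∈ RootsJ cs h (Set.range f) := fun k => PosJ_subset _ (sr_mem_PosJ ⟨k, rfl⟩)
  have hj : ∃ d ∈ RootsJ cs h (Set.range f), Bf A (sr j) d = 1 ∧ Bf A (sr o) d = 0 := by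
    refine ⟨-sr (f κ), RootsJ.neg (hsJ κ), ?_, ?_⟩
    · rw [hR.neg_right, hR.symm, N.nd.kj]; norm_num
    · rw [hR.neg_right, N.nd.rest o N.oj N.fo κ]; norm_num
  -- the step
  have step : ∀ c, c ∈ Ph1 (Bf A) {x | IsRoot cs h x} r → Bf A c (sr o) ≠ 1 → c ≠ sr j →
      ∃ d ∈ RootsJ cs h (Set.range f), Bf A c d = 1 ∧ Bf A (sr o) d = 0 := by
    intro c hc hco hcj
    obtain ⟨i, hi, hci⟩ := exists_one h4 h6 N.nd hc hcj
    rcases N.full i with e | e | ⟨k, e⟩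
    · exact absurd e hi
    · rw [e] at hci; exact absurd hci hco
    · rw [← e] at hci
      exact ⟨sr (f k), hsJ k, hci, N.nd.rest o N.oj N.fo k⟩
  by_cases hbj : b = sr j
  · obtain ⟨d, hd, h1, -⟩ := hj
    exact ⟨d, hd, by rw [hbj]; exact h1⟩
  by_cases hbo : Bf A b (sr o) = 1
  · have hob : Bf A (sr o) r = 0 := N.nd.di o N.oj
    have hc : b - sr o ∈ Ph1 (Bf A) {x | IsRoot cs h x} r :=
      ⟨hR.sub_mem hb.1 (isRoot_sr cs h o) hbo, by rw [hR.sub_left, hb.2, hob]; norm_num⟩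
    have key : ∃ d ∈ RootsJ cs h (Set.range f), Bf A (b - sr o) d = 1 ∧ Bf A (sr o) d = 0 := by
      by_cases h1 : b - sr o = sr j
      · rw [h1]; exact hj
      · exact step _ hc (by rw [hR.sub_left, hbo, hR.two _ (isRoot_sr cs h o)]; norm_num) h1
    obtain ⟨d, hd, h1, h2⟩ := key
    rw [hR.sub_left, h2, sub_zero] at h1
    exact ⟨d, hd, h1⟩
  · obtain ⟨d, hd, h1, -⟩ := step b hb hbo hbj
    exact ⟨d, hd, h1⟩

end Comb

variable [Finite W] [Finite G] {f : J ↪ I} {j : I} {κ : J} {r : I → ℤ} {o : I} (D : Datum K 2 cs h T n X)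
  (N : Nodes cs h f j κ r o)

include D N

/-- `PR = P₀ ⟨X o, X (-o)⟩` -/
theorem PR_le' : PR (Bf A) {x | IsRoot cs h x} X r ≤ (Lv cs h X f ⊔ Qr cs h X r) ⊔ (X (sr o) ⊔ X (-sr o)) := by
  have hR := roots cs h D.h4 D.h6
  refine PR_le fun b hb h0 => ?_
  have h1 := hR.le b hb r N.nd.hr
  rcases (show Bf A b r = 0 ∨ Bf A b r = 1 ∨ Bf A b r = 2 by omega) with h2 | h2 | h2
  · rcases orth_cases D.h4 D.h6 N hb h2 with h3 | h3 | h3
    · rw [h3]; exact le_sup_left.trans le_sup_right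
    · rw [h3]; exact le_sup_right.trans le_sup_right
    · exact (RGD.le_Sup h3).trans (le_sup_left.trans le_sup_left)
  · exact (le_QS X r (show b ∈ Ph1 (Bf A) {x | IsRoot cs h x} r from ⟨hb, h2⟩)).trans (le_sup_right.trans le_sup_left)
  · rw [hR.eq b hb r N.nd.hr h2]
    exact (X_le_QS X _ r).trans (le_sup_right.trans le_sup_left)

theorem P0_le_PR : Lv cs h X f ⊔ Qr cs h X r ≤ PR (Bf A) {x | IsRoot cs h x} X r :=
  sup_le (Lv_le_PR D N.nd) (Q_le_PR D N.nd)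

theorem Xo_le_PR : X (sr o) ⊔ X (-sr o) ≤ PR (Bf A) {x | IsRoot cs h x} X r := by
  have hR := roots cs h D.h4 D.h6
  have h1 : Bf A (sr o) r = 0 := N.nd.di o N.oj
  exact sup_le (le_PR X (isRoot_sr cs h o) (by rw [h1]))
    (le_PR X (isRoot_sr cs h o).neg (by rw [hR.neg_left, h1, neg_zero]))

/-- `PR` normalises `P₀` -/
theorem norm_P0 {g p : G} (hg : g ∈ PR (Bf A) {x | IsRoot cs h x} X r) (hp : p ∈ Lv cs h X f ⊔ Qr cs h X r) :
    g * p * g⁻¹ ∈ Lv cs h X f ⊔ Qr cs h X r := by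
  have hR := roots cs h D.h4 D.h6
  have hor : IsRoot cs h (sr o) := isRoot_sr cs h o
  -- `X (± o)` centralises `L`
  have hL : ∀ a, (a = sr o ∨ a = -sr o) → ∀ x ∈ X a, ∀ l ∈ Lv cs h X f, x * l * x⁻¹ = l := by
    intro a ha x hx l hl
    have har : IsRoot cs h a := by
      rcases ha with e | e <;> rw [e]
      · exact hor
      · exact hor.neg
    have hle : Lv cs h X f ≤ Subgroup.centralizer ({x} : Set G) := RGD.Sup_le fun c hc y hy => by
      rw [Subgroup.mem_centralizer_singleton_iff]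
      have h0 := RootsJ_o D.h4 D.h6 N hc
      refine ((rg D).pos a har c hc.1 ?_ x hx y hy).symm
      rcases ha with e | e <;> rw [e]
      · rw [hR.symm, h0]
      · rw [hR.neg_left, hR.symm, h0, neg_zero]
    rw [← (Subgroup.mem_centralizer_singleton_iff.1 (hle hl)), mul_inv_cancel_right]
  have hS : X (sr o) ⊔ X (-sr o) ≤ Subgroup.normalizer ((Lv cs h X f ⊔ Qr cs h X r : Subgroup G) : Set G) := by
    have key : ∀ a, (a = sr o ∨ a = -sr o) → X a ≤ PR (Bf A) {x | IsRoot cs h x} X r →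
        X a ≤ Subgroup.normalizer ((Lv cs h X f ⊔ Qr cs h X r : Subgroup G) : Set G) := by
      intro a ha haP x hx
      have k2 : ∀ y ∈ X a, ∀ p ∈ Lv cs h X f ⊔ Qr cs h X r, y * p * y⁻¹ ∈ Lv cs h X f ⊔ Qr cs h X r := by
        intro y hy p hp
        obtain ⟨l, hl, q, hq, rfl⟩ := (mem_sup_norm (nQ D N.nd)).1 hp
        have e : y * (l * q) * y⁻¹ = (y * l * y⁻¹) * (y * q * y⁻¹) := by group
        rw [e, hL a ha y hy l hl]
        exact mul_mem (Subgroup.mem_sup_left hl) (Subgroup.mem_sup_right ((rg D).PQ N.nd.hr (haP hy) hq))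
      rw [Subgroup.mem_normalizer_iff]
      intro p
      refine ⟨k2 x hx p, fun hp => ?_⟩
      have := k2 x⁻¹ (inv_mem hx) _ hp
      have e : x⁻¹ * (x * p * x⁻¹) * x⁻¹⁻¹ = p := by group
      rwa [e] at this
    have hP := Xo_le_PR D N
    exact sup_le (key _ (Or.inl rfl) (le_sup_left.trans hP)) (key _ (Or.inr rfl) (le_sup_right.trans hP))
  have hle := (PR_le' D N).trans (sup_le Subgroup.le_normalizer hS)
  exact (Subgroup.mem_normalizer_iff.1 (hle hg) p).1 hp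

theorem neg_of {f : J ↪ I} (hnb : ∀ i, ∃ i', Bf A (sr (f i)) (sr (f i')) = -1) {a : I → ℤ}
    (ha : a ∈ RootsJ cs h (Set.range f)) : ∃ d ∈ RootsJ cs h (Set.range f), Bf A a d = 1 :=
  exists_nb D.h4 D.h6 hnb ha

/-- `P₀` is perfect. -/
theorem perf (hnb : ∀ i, ∃ i', Bf A (sr (f i)) (sr (f i')) = -1) :
    Lv cs h X f ⊔ Qr cs h X r ≤ ⁅Lv cs h X f ⊔ Qr cs h X r, Lv cs h X f ⊔ Qr cs h X r⁆ := by
  have hR := roots cs h D.h4 D.h6
  have hXJ : ∀ a ∈ RootsJ cs h (Set.range f), X a ≤ Lv cs h X f ⊔ Qr cs h X r := fun a ha =>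
    (RGD.le_Sup ha).trans le_sup_left
  have hX1 : ∀ a ∈ Ph1 (Bf A) {x | IsRoot cs h x} r, X a ≤ Lv cs h X f ⊔ Qr cs h X r := fun a ha =>
    (le_QS X r ha).trans le_sup_right
  have key : ∀ b, IsRoot cs h b → ∀ d ∈ RootsJ cs h (Set.range f), Bf A b d = 1 →
      X (b - d) ≤ Lv cs h X f ⊔ Qr cs h X r →
      X b ≤ ⁅Lv cs h X f ⊔ Qr cs h X r, Lv cs h X f ⊔ Qr cs h X r⁆ := by
    intro b hb d hd h3 hbd y hy
    obtain ⟨p, hp, hp1⟩ := exists_ne D.rgd hd.1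
    have h5 : Bf A d (b - d) = -1 := by rw [hR.sub_right, hR.symm d b, h3, hR.two d hd.1]; norm_num
    obtain ⟨v, hv, e⟩ := (rg D).sur d hd.1 (b - d) (hR.sub_mem hb hd.1 h3) h5 p hp hp1 y
      (by rw [add_sub_cancel]; exact hy)
    rw [← e, ← commutatorElement_def]
    exact Subgroup.commutator_mem_commutator (hXJ d hd hp) (hbd hv)
  refine sup_le (RGD.Sup_le fun b hb => ?_) (QS_le ?_ fun b hb => ?_)
  · obtain ⟨d, hd, h1⟩ := neg_of D N hnb hb
    refine key b hb.1 d hd h1 (hXJ _ ⟨hR.sub_mem hb.1 hd.1 h1, fun k hk => ?_⟩)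
    rw [Pi.sub_apply, hb.2 k hk, hd.2 k hk, sub_zero]
  · exact ((rg D).XQQ N.nd.hr).trans (Subgroup.commutator_mono le_sup_right le_sup_right)
  · obtain ⟨d, hd, h1⟩ := exists_J D.h4 D.h6 N hb
    refine key b hb.1 d hd h1 (hX1 _ ⟨hR.sub_mem hb.1 hd.1 h1, ?_⟩)
    rw [hR.sub_left, hb.2, RootsJ_zero D.h4 D.h6 N.nd hd]; norm_num

variable (C : Fl t K)

include C

/-- **`KR` for `P₀`, `q = 2`, in all of `C(t)`** -/
theorem krD (hs : ∀ P' : Subgroup G, (∀ x ∈ P', x * t = t * x) → P' ≤ ⁅P', P'⁆ → P' ≤ K)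
    (hnb : ∀ i, ∃ i', Bf A (sr (f i)) (sr (f i')) = -1) :
    KR t (Bf A) {x | IsRoot cs h x} X r (Lv cs h X f ⊔ Qr cs h X r) T := by
  have hR := roots cs h D.h4 D.h6
  have hr := N.nd.hr
  have hT := T_eq_bot D
  have tX : ∀ a ∈ {x | IsRoot cs h x}, ∀ x ∈ X a, t * x = x * t := fun a ha x hx => C.Kt x (D.XK ha hx)
  have hP := P0_le_PR D N
  have hPK : PR (Bf A) {x | IsRoot cs h x} X r ≤ K := PR_le fun b hb _ => D.XK hb
  have hPC : Lv cs h X f ⊔ Qr cs h X r ≤ CC t (X r) := fun p hp => by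
    rw [mem_CC]
    exact ⟨(C.Kt p (hPK (hP hp))).symm, fun x hx => ((rg D).XP hr hx (hP hp)).symm⟩
  have hperf := perf D N hnb
  refine ⟨rg D, hr, ⟨le_sup_right, hP, ?_⟩, C.tt, tX, fun ht => C.tK (D.XK hr ht), fun g hg => C.Kt g (D.TK hg),
    fun g hg => TX' D g hg r hr, ?_, ?_, ?_, hperf, ?_, ?_⟩
  · intro b hb
    obtain ⟨d, hd, h1⟩ := exists_J D.h4 D.h6 N hb
    exact ⟨d, hd.1, (RGD.le_Sup hd).trans le_sup_left, RootsJ_zero D.h4 D.h6 N.nd hd, h1⟩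
  · intro g hg p hp
    rw [hT, Subgroup.mem_bot] at hg
    rw [hg, one_mul, inv_one, mul_one]; exact hp
  · intro g hg k hk
    rw [hT, Subgroup.mem_bot] at hg hk
    rw [hg, hk]
  · intro c hct hc
    refine KTwo.k1 D C hr hct.symm fun a ha h1 x hx => hc x (Subgroup.mem_sup_right ?_)
    have h2 := hR.le a ha r hr
    rcases (show Bf A a r = 1 ∨ Bf A a r = 2 by omega) with h3 | h3
    · exact le_QS X r (show a ∈ Ph1 (Bf A) {x | IsRoot cs h x} r from ⟨ha, h3⟩) hx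
    · rw [hR.eq a ha r hr h3] at hx
      exact X_le_QS X _ r hx
  · intro g hX ht p hp
    have h1 := conj_le_PR D C.tt hs hr hPC hperf hX ht
    have h2 : (Lv cs h X f ⊔ Qr cs h X r).map (MulAut.conj g).toMonoidHom ≤ Lv cs h X f ⊔ Qr cs h X r := by
      refine le_of_perf (S := X (sr o) ⊔ X (-sr o)) (fun s hs x hx => norm_P0 D N (Xo_le_PR D N hs) hx)
        (h1.trans (PR_le' D N)) ?_ ?_
      · rw [← Subgroup.map_commutator]
        exact Subgroup.map_mono hperf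
      · obtain ⟨a, ha, ha1, haX⟩ := exists_z D (isRoot_sr cs h o)
        obtain ⟨b, hb, hb1, hbX⟩ := exists_z D (isRoot_sr cs h o).neg
        have a2 := (rg D).X2 _ (isRoot_sr cs h o) a ha
        refine dih a2 ((rg D).X2 _ (isRoot_sr cs h o).neg b hb) (sup_le (fun x hx => ?_) fun x hx => ?_)
        · rcases haX x hx with e | e <;> rw [e]
          · exact one_mem _
          · exact Subgroup.mem_sup_right (Subgroup.mem_zpowers a)
        · rcases hbX x hx with e | e <;> rw [e]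
          · exact one_mem _
          · have e1 : b = a * (a * b) := by rw [← mul_assoc, a2, one_mul]
            rw [e1]
            exact mul_mem (Subgroup.mem_sup_right (Subgroup.mem_zpowers a))
              (Subgroup.mem_sup_left (by rw [← e1]; exact Subgroup.mem_zpowers _))
    exact h2 ⟨p, hp, rfl⟩
  · intro R' hR' h2 hn
    have : Fact (Nat.Prime 2) := ⟨Nat.prime_two⟩
    obtain ⟨O, hRO, hOP, hO2, hOn⟩ := exists_core hR' h2 hn
    refine hRO.trans ((core_le D.rgd hr (D := O) ?_ hO2 ?_).trans (sup_Rad_le D hr))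
    · rw [D.GG_eq]; exact hOP.trans (hP.trans hPK)
    · intro u hu
      rw [sup_Ge D hr] at hu
      have h3 : ∀ v ∈ PR (Bf A) {x | IsRoot cs h x} X r, ∀ x ∈ O, v * x * v⁻¹ ∈ O := fun v hv =>
        hOn v (fun x hx => norm_P0 D N hv hx) (fun x hx => by
          have := norm_P0 D N (inv_mem hv) hx
          rwa [inv_inv] at this)
      apply le_antisymm
      · rintro _ ⟨x, hx, rfl⟩
        exact h3 u hu x hx
      · intro x hx
        have := h3 u⁻¹ (inv_mem hu) x hx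
        rw [mem_cj]
        rwa [inv_inv] at this

end Cfsg.Agent.OddHalf.D7Ex.KRD
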