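import Cfsg.Agent.OddHalf.D7Ex.OfFront
import Cfsg.Agent.KFacts.RgdSys

/-!
# The torus elements of `Tor` from coordinates, rank at least `3`, `q > 2`

* `tor` : `h = h_r(c)`, `k = h_β(c)`, `β` orthogonal to `r`; `Tor.map`; `exists_tor` in `G`;
* `tab` : the torus is abelian;
* `exists_base0` : `OfFront.exists_base0` without the hypotheses on the rank and the torus.
-/

set_option autoImplicit false
set_option linter.unusedSectionVars false

namespace Cfsg.Agent.OddHalf.D7Ex.TorSys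

open Cfsg.Agent.OddHalf.SL Cfsg.Agent.KFacts CoxeterSystem Cfsg.Agent.ChevalleyStructure.CoxeterGeom Cfsg.Agent.Tits.Roots Cfsg.Agent.Tits.Core
  Cfsg.Agent.Tits.RootComb Cfsg.Agent.Nodes.Comb Cfsg.Agent.Nodes.Reps Cfsg.Agent.Nodes.BNOf
  Cfsg.Agent.Nodes.Bruhat Cfsg.Agent.Nodes.Coroot Cfsg.Agent.OddHalf.SL.Index Cfsg.Agent.OddHalf.SL.OfRGD
  Cfsg.Agent.OddHalf.SL.PreOf Cfsg.Agent.KFacts.RgdPar Cfsg.Agent.KFacts.RgdSL Cfsg.Agent.KFacts.RgdTI
  Cfsg.Agent.KFacts.RgdCent Cfsg.Agent.KFacts.RgdOdd Cfsg.Agent.KFacts.RgdEx Cfsg.Agent.KFacts.SLRow.Def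
  Cfsg.Agent.KFacts.ChevTwo Cfsg.Agent.KFacts.RgdSys
  Cfsg.Agent.OddHalf.SL.OfDatum Cfsg.Agent.OddHalf.D7Ex.KData Cfsg.Agent.OddHalf.D7Ex.KFull
  Cfsg.Agent.OddHalf.D7Ex.OutBase Cfsg.Agent.OddHalf.D7Out
open scoped commutatorElement

/-- transport of `Tor` -/
theorem map_tor {L Y Y' : Type*} [AddCommGroup L] [Group Y] [Group Y'] {B : L → L → ℤ} {Φ : Set L} {X : L → Subgroup Y}
    {r : L} {T : Subgroup Y} {β : L} {g k : Y} (H : Tor B Φ X r T β g k) (f : Y →* Y') (hf : Function.Injective f) :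
    Tor B Φ (fun x => (X x).map f) r (T.map f) β (f g) (f k) where
  mβ := H.mβ
  βr := H.βr
  mh := ⟨g, H.mh, rfl⟩
  kT := ⟨k, H.kT, rfl⟩
  kP := by
    have h1 : PR B Φ X r ≤ (PR B Φ (fun x => (X x).map f) r).comap f := by
      refine PR_le fun b hb hb0 x hx => ?_
      exact le_PR (fun x => (X x).map f) hb hb0 ⟨x, hx, rfl⟩
    exact h1 H.kP
  hk := by
    rintro c hc h1 h2 _ ⟨x, hx, rfl⟩
    rw [← map_inv, ← map_inv, ← map_mul, ← map_mul, ← map_mul, ← map_mul, H.hk c hc h1 h2 x hx]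
  h0 := by
    rintro b hb hbr _ ⟨x, hx, rfl⟩
    rw [← map_mul, ← map_mul, H.h0 b hb hbr x hx]
  ne := by
    obtain ⟨x, hx, hne⟩ := H.ne
    refine ⟨f x, ⟨x, hx, rfl⟩, fun h1 => hne (hf ?_)⟩
    rw [map_mul, map_mul, map_inv]; exact h1
  odd := by
    obtain ⟨m, hm, h1⟩ := H.odd
    exact ⟨m, hm, by rw [← map_pow, h1, map_one]⟩

variable {I W Y : Type*} [Fintype I] [DecidableEq I] [Group W] [Group Y] {M : CoxeterMatrix I}
  {cs : CoxeterSystem M W} {A : I → I → ℤ} {h : IsCartan M A} {q : ℕ}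

section

variable [Finite W] {T : Subgroup Y} {n : I → Y} {X : (I → ℤ) → Subgroup Y} {F : Type*} [Field F]
  {e : (I → ℤ) → F → Y} (D : Datum (⊤ : Subgroup Y) q cs h T n X) (Sy : Sys D.rgd e)

include D Sy

/-- an element different from `0` and `1` of the field -/
theorem exists_field (hq : 2 < q) : ∃ c : F, c ≠ 0 ∧ c ≠ 1 := by
  have hnt : Nonempty I := by
    have := D.three
    exact Fintype.card_pos_iff.1 (by omega)
  obtain ⟨i⟩ := hnt
  have hr := isRoot_sr cs h i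
  by_contra hcon
  push Not at hcon
  have h1 : Nat.card ↥(X (sr i)) ≤ 2 := by
    have h2 : Function.Surjective (fun b : Bool => (⟨e (sr i) (if b then 1 else 0), Sy.mem hr _⟩ : ↥(X (sr i)))) := by
      rintro ⟨x, hx⟩
      obtain ⟨c, rfl⟩ := (Sy.mem_X _ hr x).1 hx
      by_cases hc : c = 0
      · exact ⟨false, by simp [hc]⟩
      · exact ⟨true, by simp [hcon c hc]⟩
    have h3 := Nat.card_le_card_of_surjective _ h2
    simpa using h3
  rw [D.card _ hr] at h1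
  omega

/-- **The torus is abelian.** -/
theorem tab : ∀ g ∈ T, ∀ k ∈ T, g * k = k * g := by
  intro g hg k hk
  obtain ⟨χ, hχ⟩ := Sy.chi g hg
  obtain ⟨ψ, hψ⟩ := Sy.chi k hk
  refine ext_T Sy D.cent (mul_mem hg hk) (mul_mem hk hg) fun r hr a => ?_
  calc g * k * e r a * (g * k)⁻¹ = g * (k * e r a * k⁻¹) * g⁻¹ := by group
    _ = e r (((ψ r).toMul : Fˣ) * (((χ r).toMul : Fˣ) * a)) := by rw [hψ r hr, hχ r hr, mul_left_comm]
    _ = k * (g * e r a * g⁻¹) * k⁻¹ := by rw [hχ r hr, hψ r hr]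
    _ = k * g * e r a * (k * g)⁻¹ := by group

/-- **The torus elements at a root `r`.** -/
theorem tor {c : F} (hc0 : c ≠ 0) (hc1 : c ≠ 1) {r β : I → ℤ} (hr : IsRoot cs h r) (hβ : IsRoot cs h β)
    (hβr : Bf A β r = 0) :
    Tor (Bf A) {x | IsRoot cs h x} X r T β (hel e r c) (hel e β c) := by
  have hR := roots cs h D.h4 D.h6
  have act : ∀ y, IsRoot cs h y → ∀ x, IsRoot cs h x → ∀ t : F,
      hel e y c * e x t * (hel e y c)⁻¹ = e x (c ^ Bf A x y * t) := fun y hy x hx t => by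
    rw [Sy.data.hel_conj hx hy hc0, bf_eq_cpr D.h4 D.h6 x hy]
  have hT : ∀ y, IsRoot cs h y → hel e y c ∈ T := fun y hy => hel_mem Sy D.gen hy hc0
  refine ⟨hβ, hβr, hT r hr, hT β hβ, ?_, ?_, ?_, ?_, ?_⟩
  · have h5 : ∀ t, e β t ∈ PR (Bf A) {x | IsRoot cs h x} X r := fun t =>
      le_PR X hβ (by rw [hβr]) (Sy.mem hβ t)
    have h6 : ∀ t, e (-β) t ∈ PR (Bf A) {x | IsRoot cs h x} X r := fun t =>
      le_PR X hβ.neg (by rw [hR.neg_left, hβr, neg_zero]) (Sy.mem hβ.neg t)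
    rw [hel_def, nel, nc_def, nc_def]
    exact mul_mem (mul_mem (mul_mem (h5 _) (h6 _)) (h5 _)) (mul_mem (mul_mem (h5 _) (h6 _)) (h5 _))
  · intro x hx hx1 hx2 y hy
    obtain ⟨t, rfl⟩ := (Sy.mem_X x hx y).1 hy
    rw [act _ hr _ hx, act _ hβ _ hx, hx1, hx2]
  · intro x hx hx1 y hy
    obtain ⟨t, rfl⟩ := (Sy.mem_X x hx y).1 hy
    have h3 := act _ hr _ hx t
    rw [hx1, zpow_zero, one_mul, mul_inv_eq_iff_eq_mul] at h3
    exact h3
  · refine ⟨e r 1, Sy.mem hr 1, ?_⟩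
    rw [act _ hr _ hr]
    intro h3
    have h4 := Sy.data.injective hr h3
    rw [hR.two r hr, mul_one] at h4
    have h6 : (c - 1) * (c - 1) = 0 := by
      have h8 := Sy.data.two (1 : F)
      have h9 : c * c = 1 := (zpow_two c).symm.trans h4
      linear_combination h9 + (-c + 1) * h8
    exact hc1 (sub_eq_zero.1 (mul_self_eq_zero.1 h6))
  · refine ⟨Nat.card T, Nat.coprime_two_right.1 D.rgd.tcop, ?_⟩
    have := pow_card_eq_one' (G := T) (x := ⟨hel e r c, hT r hr⟩)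
    exact congrArg Subtype.val this

/-- **Every root has torus elements**, `q > 2`. -/
theorem exists_tor_top [Finite Y] (hq : 2 < q) {r : I → ℤ} (hr : IsRoot cs h r) :
    ∃ β g k, Tor (Bf A) {x | IsRoot cs h x} X r T β g k := by
  have hR := roots cs h D.h4 D.h6
  obtain ⟨c, hc0, hc1⟩ := exists_field D Sy hq
  obtain ⟨s, hs, hrs⟩ := exists_neg_one D.h4 D.h6 D.irr D.three hr
  have hs1 : (-s) ∈ Ph1 (Bf A) {x | IsRoot cs h x} r := by
    refine ⟨hs.neg, ?_⟩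
    rw [hR.neg_left, hR.symm, hrs, neg_neg]
  obtain ⟨β, hβ, h1, -⟩ := exists_orth D hr hs1
  exact ⟨β, _, _, tor D Sy hc0 hc1 hr hβ h1⟩

end

section

variable {G : Type*} [Group G] {K : Subgroup G} {t : G}
variable [Finite W] [Finite G] {T₀ : Subgroup ↥K} {n₀ : I → ↥K} {X₀ : (I → ℤ) → Subgroup ↥K} {F : Type*} [Field F]
  {e : (I → ℤ) → F → ↥K} {v : G} {ρ : I → ℤ} {T : Subgroup G} {g : ↥T →* Equiv.Perm I × (F ≃+* F)} {m z : G}

/-- Every root has torus elements in `G`. -/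
theorem exists_tor (D : Datum (⊤ : Subgroup ↥K) q cs h T₀ n₀ X₀) (Sy : Sys D.rgd e) (hq : 2 < q) {r : I → ℤ}
    (hr : IsRoot cs h r) :
    ∃ β g k, Tor (Bf A) {x | IsRoot cs h x} (fun x => (X₀ x).map K.subtype) r (T₀.map K.subtype) β g k := by
  obtain ⟨β, g, k, H⟩ := exists_tor_top D Sy hq hr
  exact ⟨β, _, _, map_tor H K.subtype K.subtype_injective⟩

/-- **`Base0` at `ρ` from the front**, `q > 2`, every rank `≥ 3`. -/
theorem exists_base0 (D : Datum (⊤ : Subgroup ↥K) q cs h T₀ n₀ X₀) (Sy : Sys D.rgd e)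
    (O : FrontSL.Out cs h T₀ X₀ e t v ρ T g m z) (C : CT t K) (hq : 2 < q) :
    ∃ V, Base0.Base0 (dm D).rgd t ρ V :=
  OfFront.exists_base0 D O C (tab D Sy) hq (Or.inr (exists_tor D Sy hq O.root))

end

end Cfsg.Agent.OddHalf.D7Ex.TorSys
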