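import Cfsg.Agent.OddHalf.D7Ex.Move

/-!
# ODD D7, `q = 2`, type `A_n` (`n ≥ 4`): no swap (helper57; text: helper991 #8439 (III)(e)(f))

`X = {1, z}`, `P = QL`, `Q/X = R₁/X ⊕ R₂/X`. If `n` maps `t` to `tz` and interchanges `R₁` and `R₂`, then some element of
`C_G(t)` maps `R₁` to `R₂` (`exists_fuse`); so some `n` mapping `t` to `tz` fixes `R₁` and `R₂` (`exists_fix`), and acts
on `P/Q` like an element of `P` (`exists_inner`). Together with `Setup.exists_cent_of_inner`: `exists_cent`.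
-/

set_option autoImplicit false

namespace Cfsg.Agent.OddHalf.D7Ex.TwoA

open Subgroup

variable {G : Type*} [Group G]

/-- the conjugate subgroup `g R g⁻¹` -/
def cj (g : G) (R : Subgroup G) : Subgroup G := R.map (MulAut.conj g).toMonoidHom

theorem mem_cj {g a : G} {R : Subgroup G} : a ∈ cj g R ↔ g⁻¹ * a * g ∈ R := by
  constructor
  · rintro ⟨b, hb, rfl⟩
    have : g⁻¹ * (g * b * g⁻¹) * g = b := by group
    show g⁻¹ * (g * b * g⁻¹) * g ∈ R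
    rw [this]; exact hb
  · intro h
    refine ⟨_, h, ?_⟩
    show g * (g⁻¹ * a * g) * g⁻¹ = a
    group

theorem conj_mem_cj {g a : G} {R : Subgroup G} (ha : a ∈ R) : g * a * g⁻¹ ∈ cj g R := ⟨a, ha, rfl⟩

theorem cj_mul (g h : G) (R : Subgroup G) : cj (g * h) R = cj g (cj h R) := by
  ext a
  rw [mem_cj, mem_cj, mem_cj]
  have : (g * h)⁻¹ * a * (g * h) = h⁻¹ * (g⁻¹ * a * g) * h := by group
  rw [this]

theorem cj_one (R : Subgroup G) : cj 1 R = R := by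
  ext a
  rw [mem_cj]
  simp

theorem cj_inv {g : G} {R R' : Subgroup G} (h : cj g R = R') : cj g⁻¹ R' = R := by
  rw [← h, ← cj_mul, inv_mul_cancel, cj_one]

/-- **no swap**: if `n` (`t ↦ tz`) interchanges `R₁` and `R₂`, they are fused in `C_G(t)` -/
theorem exists_fuse {t z n : G} {R1 R2 : Subgroup G} (hnt : n * t * n⁻¹ = t * z)
    (h12 : cj n R1 = R2) (h21 : cj n R2 = R1) (hz1 : z ∈ R1)
    {z' : G} (hz' : z' ∈ R1) (hz'1 : z' ≠ 1) (hz'z : z' ≠ z)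
    (tr1 : ∀ x ∈ R1, x ≠ 1 → ∃ k, k * t = t * k ∧ k * z * k⁻¹ = x ∧ cj k R1 = R1)
    (tr2 : ∀ x ∈ R2, x ≠ 1 → ∃ k, k * t = t * k ∧ k * z * k⁻¹ = x ∧ cj k R2 = R2) :
    ∃ m, m * t = t * m ∧ cj m R1 = R2 := by
  obtain ⟨k1, hk1t, hk1z, hk1R⟩ := tr1 z' hz' hz'1
  have hz'' : n⁻¹ * (z⁻¹ * z') * n ∈ R2 := by
    rw [← mem_cj, h21]
    exact R1.mul_mem (R1.inv_mem hz1) hz'
  have hz''1 : n⁻¹ * (z⁻¹ * z') * n ≠ 1 := by
    intro h
    apply hz'z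
    have h1 : z⁻¹ * z' = 1 := by
      calc z⁻¹ * z' = n * (n⁻¹ * (z⁻¹ * z') * n) * n⁻¹ := by group
        _ = 1 := by rw [h]; group
    exact (inv_mul_eq_one.1 h1).symm
  obtain ⟨k2, hk2t, hk2z, hk2R⟩ := tr2 _ hz'' hz''1
  have hk1 : k1 * t * k1⁻¹ = t := by rw [hk1t]; group
  have hk2 : k2 * t * k2⁻¹ = t := by rw [hk2t]; group
  -- `h = k1 n`
  have hh : (k1 * n) * t * (k1 * n)⁻¹ = t * z' := by
    calc (k1 * n) * t * (k1 * n)⁻¹ = k1 * (n * t * n⁻¹) * k1⁻¹ := by group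
      _ = (k1 * t * k1⁻¹) * (k1 * z * k1⁻¹) := by rw [hnt]; group
      _ = t * z' := by rw [hk1, hk1z]
  have hhR : cj (k1 * n) R2 = R1 := by rw [cj_mul, h21, hk1R]
  -- `g = n k2 n`
  have hg : (n * k2 * n) * t * (n * k2 * n)⁻¹ = t * z' := by
    calc (n * k2 * n) * t * (n * k2 * n)⁻¹ = n * (k2 * (n * t * n⁻¹) * k2⁻¹) * n⁻¹ := by group
      _ = n * ((k2 * t * k2⁻¹) * (k2 * z * k2⁻¹)) * n⁻¹ := by rw [hnt]; group
      _ = (n * t * n⁻¹) * (z⁻¹ * z') := by rw [hk2, hk2z]; group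
      _ = t * z' := by rw [hnt]; group
  have hgR : cj (n * k2 * n) R1 = R1 := by rw [cj_mul, cj_mul, h12, hk2R, h21]
  refine ⟨(k1 * n)⁻¹ * (n * k2 * n), ?_, ?_⟩
  · rw [← mul_inv_eq_iff_eq_mul]
    calc (k1 * n)⁻¹ * (n * k2 * n) * t * ((k1 * n)⁻¹ * (n * k2 * n))⁻¹
        = (k1 * n)⁻¹ * ((n * k2 * n) * t * (n * k2 * n)⁻¹) * (k1 * n) := by group
      _ = (k1 * n)⁻¹ * ((k1 * n) * t * (k1 * n)⁻¹) * (k1 * n) := by rw [hg, hh]
      _ = t := by group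
  · rw [cj_mul, hgR]
    exact cj_inv hhR

/-- The facts on `P = C_K(z)`, `K = L_m(2)`. -/
structure Two (t z : G) (X Q P R1 R2 : Subgroup G) : Prop where
  hX : ∀ x ∈ X, x = 1 ∨ x = z
  zX : z ∈ X
  X1 : X ≤ R1
  X2 : X ≤ R2
  R1Q : R1 ≤ Q
  R2Q : R2 ≤ Q
  ne : R1 ≠ R2
  /-- `R₁/X` and `R₂/X` are the only proper `P`-submodules of `Q/X` -/
  only : ∀ R : Subgroup G, X ≤ R → R ≤ Q → (∀ p ∈ P, ∀ r ∈ R, p * r * p⁻¹ ∈ R) → R = X ∨ R = R1 ∨ R = R2 ∨ R = Q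
  P1 : ∀ p ∈ P, ∀ r ∈ R1, p * r * p⁻¹ ∈ R1
  P2 : ∀ p ∈ P, ∀ r ∈ R2, p * r * p⁻¹ ∈ R2
  X1' : R1 ≠ X
  X2' : R2 ≠ X
  Q1' : R1 ≠ Q
  Q2' : R2 ≠ Q
  tr1 : ∀ x ∈ R1, x ≠ 1 → ∃ k, k * t = t * k ∧ k * z * k⁻¹ = x ∧ cj k R1 = R1
  tr2 : ∀ x ∈ R2, x ≠ 1 → ∃ k, k * t = t * k ∧ k * z * k⁻¹ = x ∧ cj k R2 = R2
  /-- `P` induces all automorphisms of `R₁/X` -/
  gl : ∀ f : G → G, (∀ r ∈ R1, f r ∈ R1) → (∀ r ∈ R1, ∀ s ∈ R1, f (r * s) = f r * f s) →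
    (∀ r ∈ R1, f r ∈ X ↔ r ∈ X) → ∃ p ∈ P, ∀ r ∈ R1, f r * (p * r * p⁻¹)⁻¹ ∈ X
  /-- `P/Q` is faithful on `R₁/X` -/
  faith : ∀ p ∈ P, (∀ r ∈ R1, p * r * p⁻¹ * r⁻¹ ∈ X) → p ∈ Q

namespace Two

variable {t z : G} {X Q P R1 R2 H : Subgroup G}

theorem cj_Q (S : Setup t X Q P H) {n : G} (hn : n ∈ S.N) : cj n Q = Q := by
  ext a
  rw [mem_cj]
  constructor
  · intro h
    have h1 := S.N_Q hn h
    have h2 : n * (n⁻¹ * a * n) * n⁻¹ = a := by group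
    rwa [h2] at h1
  · intro h
    have h1 := S.N_Q (inv_mem hn) h
    rwa [inv_inv] at h1

theorem cj_X (S : Setup t X Q P H) {n : G} (hn : n ∈ S.N) : cj n X = X := by
  ext a
  rw [mem_cj]
  constructor
  · intro h
    have h1 := hn.1 _ h
    have h2 : n * (n⁻¹ * a * n) * n⁻¹ = a := by group
    rwa [h2] at h1
  · intro h
    exact hn.2.1 _ h

theorem cj_inj {g : G} {R R' : Subgroup G} (h : cj g R = cj g R') : R = R' := by
  rw [← cj_inv (g := g) (R := R) rfl, h, cj_inv rfl]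

/-- an element of `N` permutes `R₁`, `R₂` -/
theorem image (F : Two t z X Q P R1 R2) (S : Setup t X Q P H) {n : G} (hn : n ∈ S.N) {R : Subgroup G}
    (hX : X ≤ R) (hQ : R ≤ Q) (hP : ∀ p ∈ P, ∀ r ∈ R, p * r * p⁻¹ ∈ R) (hX' : R ≠ X) (hQ' : R ≠ Q) :
    cj n R = R1 ∨ cj n R = R2 := by
  have h1 : X ≤ cj n R := by
    rw [← cj_X S hn]
    exact map_mono hX
  have h2 : cj n R ≤ Q := by
    rw [← cj_Q S hn]
    exact map_mono hQ
  have h3 : ∀ p ∈ P, ∀ r ∈ cj n R, p * r * p⁻¹ ∈ cj n R := by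
    intro p hp r hr
    rw [mem_cj] at hr ⊢
    have h4 := hP _ (S.N_P (inv_mem hn) hp) _ hr
    have h5 : n⁻¹ * p * n⁻¹⁻¹ * (n⁻¹ * r * n) * (n⁻¹ * p * n⁻¹⁻¹)⁻¹ = n⁻¹ * (p * r * p⁻¹) * n := by group
    rwa [h5] at h4
  rcases F.only _ h1 h2 h3 with h | h | h | h
  · exact absurd (cj_inj (h.trans (cj_X S hn).symm)) hX'
  · exact Or.inl h
  · exact Or.inr h
  · exact absurd (cj_inj (h.trans (cj_Q S hn).symm)) hQ'

theorem dich (F : Two t z X Q P R1 R2) (S : Setup t X Q P H) {n : G} (hn : n ∈ S.N) :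
    (cj n R1 = R1 ∧ cj n R2 = R2) ∨ (cj n R1 = R2 ∧ cj n R2 = R1) := by
  have h1 := F.image S hn F.X1 F.R1Q F.P1 F.X1' F.Q1'
  have h2 := F.image S hn F.X2 F.R2Q F.P2 F.X2' F.Q2'
  rcases h1 with h1 | h1
  · rcases h2 with h2 | h2
    · exact absurd (cj_inj (h1.trans h2.symm)) F.ne
    · exact Or.inl ⟨h1, h2⟩
  · rcases h2 with h2 | h2
    · exact Or.inr ⟨h1, h2⟩
    · exact absurd (cj_inj (h1.trans h2.symm)) F.ne

/-- some element of `N` moves `t` and fixes `R₁`, `R₂` -/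
theorem exists_fix (F : Two t z X Q P R1 R2) (S : Setup t X Q P H) {n : G} (hn : n ∈ S.N)
    (hnt : n * t * n⁻¹ ≠ t) : ∃ m ∈ S.N, m * t * m⁻¹ ≠ t ∧ cj m R1 = R1 ∧ cj m R2 = R2 := by
  rcases F.dich S hn with ⟨h1, h2⟩ | ⟨h12, h21⟩
  · exact ⟨n, hn, hnt, h1, h2⟩
  have hnt' : n * t * n⁻¹ = t * z := by
    have h1 := hn.2.2
    rcases F.hX _ h1 with h2 | h2
    · exfalso
      apply hnt
      calc n * t * n⁻¹ = (t * t) * (n * t * n⁻¹) := by rw [S.tt, one_mul]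
        _ = t * (t * (n * t * n⁻¹)) := by group
        _ = t := by rw [h2, mul_one]
    · calc n * t * n⁻¹ = (t * t) * (n * t * n⁻¹) := by rw [S.tt, one_mul]
        _ = t * (t * (n * t * n⁻¹)) := by group
        _ = t * z := by rw [h2]
  -- a third element of `R₁`
  obtain ⟨z', hz', hz'X⟩ : ∃ z' ∈ R1, z' ∉ X := by
    by_contra hcon
    push Not at hcon
    exact F.X1' (le_antisymm hcon F.X1)
  obtain ⟨m, hmt, hmR⟩ := exists_fuse hnt' h12 h21 (F.X1 F.zX) hz' (fun h => hz'X (by rw [h]; exact X.one_mem))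
    (fun h => hz'X (by rw [h]; exact F.zX)) F.tr1 F.tr2
  -- adjust `m` so that it centralises `z`
  have hz1 : z ≠ 1 := by
    rintro rfl
    exact hnt (by rw [hnt', mul_one])
  obtain ⟨k, hkt, hkz, hkR⟩ := F.tr2 (m * z * m⁻¹) (by rw [← hmR]; exact conj_mem_cj (F.X1 F.zX)) (by
    intro h
    apply hz1
    calc z = m⁻¹ * (m * z * m⁻¹) * m := by group
      _ = 1 := by rw [h]; group)
  set y := k⁻¹ * m with hy
  have hyz : y * z * y⁻¹ = z := by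
    rw [hy]
    calc k⁻¹ * m * z * (k⁻¹ * m)⁻¹ = k⁻¹ * (m * z * m⁻¹) * k := by group
      _ = z := by rw [← hkz]; group
  have hyt : y * t * y⁻¹ = t := by
    have h1 : k⁻¹ * t * k = t := by
      calc k⁻¹ * t * k = k⁻¹ * (t * k) := by group
        _ = t := by rw [← hkt]; group
    calc y * t * y⁻¹ = k⁻¹ * (m * t * m⁻¹) * k := by rw [hy]; group
      _ = k⁻¹ * t * k := by rw [hmt]; group
      _ = t := h1
  have hyN : y ∈ S.N := by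
    refine ⟨fun x hx => ?_, fun x hx => ?_, ?_⟩
    · rcases F.hX x hx with h | h
      · rw [h]; simp
      · rw [h, hyz]; exact F.zX
    · rcases F.hX x hx with h | h
      · rw [h]; simp
      · have h1 : y⁻¹ * z * y = z := by
          calc y⁻¹ * z * y = y⁻¹ * (y * z * y⁻¹) * y := by rw [hyz]
            _ = z := by group
        rw [h, h1]; exact F.zX
    · rw [hyt, S.tt]; exact X.one_mem
  have hyR : cj y R1 = R2 := by
    rw [hy, cj_mul, hmR]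
    exact cj_inv hkR
  have hyR' : cj y R2 = R1 := by
    rcases F.dich S hyN with ⟨h1, -⟩ | ⟨-, h2⟩
    · exact absurd (h1.symm.trans hyR) F.ne
    · exact h2
  refine ⟨n * y, mul_mem hn hyN, ?_, ?_, ?_⟩
  · have : n * y * t * (n * y)⁻¹ = n * (y * t * y⁻¹) * n⁻¹ := by group
    rw [this, hyt]; exact hnt
  · rw [cj_mul, hyR, h21]
  · rw [cj_mul, hyR', h12]

/-- an element of `N` fixing `R₁` acts on `P/Q` like an element of `P` -/
theorem exists_inner (F : Two t z X Q P R1 R2) (S : Setup t X Q P H) {m : G} (hm : m ∈ S.N)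
    (hmR : cj m R1 = R1) : ∃ p0 ∈ P, ∀ p ∈ P, m * p * m⁻¹ * (p0 * p * p0⁻¹)⁻¹ ∈ Q := by
  have hR : ∀ r ∈ R1, m * r * m⁻¹ ∈ R1 := fun r hr => by rw [← hmR]; exact conj_mem_cj hr
  obtain ⟨p0, hp0, h0⟩ := F.gl (fun r => m * r * m⁻¹) hR (fun r _ s _ => by group) (fun r _ => by
    constructor
    · intro h
      have h1 := hm.2.1 _ h
      have h2 : m⁻¹ * (m * r * m⁻¹) * m = r := by group
      rwa [h2] at h1
    · exact hm.1 r)
  refine ⟨p0, hp0, ?_⟩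
  set y := p0⁻¹ * m with hy
  have hXn : ∀ p ∈ P, ∀ x ∈ X, p * x * p⁻¹ = x := fun p hp x hx => by rw [← S.XP x hx p hp]; group
  have hyN : y ∈ S.N := by
    refine mul_mem (inv_mem ?_) hm
    refine ⟨fun x hx => by rw [hXn p0 hp0 x hx]; exact hx, fun x hx => ?_, ?_⟩
    · have := hXn p0⁻¹ (inv_mem hp0) x hx
      rw [inv_inv] at this
      rw [this]; exact hx
    · rw [← S.tP p0 hp0, mul_inv_cancel_right, S.tt]; exact X.one_mem
  -- `y` is trivial on `R₁/X`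
  have hyR : ∀ r ∈ R1, y * r * y⁻¹ * r⁻¹ ∈ X := by
    intro r hr
    have h1 := h0 r hr
    have h2 : y * r * y⁻¹ * r⁻¹ = p0⁻¹ * (m * r * m⁻¹ * (p0 * r * p0⁻¹)⁻¹) * p0⁻¹⁻¹ := by rw [hy]; group
    rw [h2, hXn p0⁻¹ (inv_mem hp0) _ h1]
    exact h1
  -- so `[y, p]` is trivial on `R₁/X`
  have hc : ∀ p ∈ P, y * p * y⁻¹ * p⁻¹ ∈ Q := by
    intro p hp
    refine F.faith _ (P.mul_mem (S.N_P hyN hp) (P.inv_mem hp)) fun r hr => ?_
    have e1 : ∀ r ∈ R1, ∃ x ∈ X, y * r * y⁻¹ = x * r := fun r hr =>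
      ⟨_, hyR r hr, by group⟩
    have e2 : ∀ r ∈ R1, ∃ x ∈ X, y⁻¹ * r * y = x * r := by
      intro r hr
      have hr' : y⁻¹ * r * y ∈ R1 := by
        have h3 : cj y R1 = R1 := by
          ext a
          constructor
          · rintro ⟨b, hb, rfl⟩
            obtain ⟨x, hx, h⟩ := e1 b hb
            show y * b * y⁻¹ ∈ R1
            rw [h]; exact R1.mul_mem (F.X1 hx) hb
          · intro ha
            rw [hy, cj_mul, hmR, mem_cj]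
            have := F.P1 p0 hp0 a ha
            rwa [inv_inv]
        rw [← mem_cj, h3]; exact hr
      obtain ⟨x, hx, h⟩ := e1 _ hr'
      refine ⟨x⁻¹, X.inv_mem hx, ?_⟩
      have h2 : y * (y⁻¹ * r * y) * y⁻¹ = r := by group
      rw [h2] at h
      rw [eq_inv_mul_iff_mul_eq]
      exact h.symm
    -- compute `c r c⁻¹`, `c = y p y⁻¹ p⁻¹`
    obtain ⟨x1, hx1, h1⟩ := e2 _ (F.P1 p⁻¹ (P.inv_mem hp) r hr)
    rw [inv_inv] at h1
    -- `y⁻¹ (p⁻¹ r p) y = x1 (p⁻¹ r p)`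
    obtain ⟨x2, hx2, h2⟩ := e1 r hr
    have h3 : p * (y⁻¹ * (p⁻¹ * r * p) * y) * p⁻¹ = x1 * r := by
      rw [h1]
      calc p * (x1 * (p⁻¹ * r * p)) * p⁻¹ = (p * x1 * p⁻¹) * r := by group
        _ = x1 * r := by rw [hXn p hp x1 hx1]
    have h4 : y * p * y⁻¹ * p⁻¹ * r * (y * p * y⁻¹ * p⁻¹)⁻¹ =
        y * (p * (y⁻¹ * (p⁻¹ * r * p) * y) * p⁻¹) * y⁻¹ := by group
    rw [h4, h3]
    have h5 : y * (x1 * r) * y⁻¹ * r⁻¹ = (y * x1 * y⁻¹) * (y * r * y⁻¹ * r⁻¹) := by group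
    rw [h5]
    exact X.mul_mem (hyN.1 _ hx1) (hyR r hr)
  intro p hp
  have h1 : m * p * m⁻¹ * (p0 * p * p0⁻¹)⁻¹ = p0 * (y * p * y⁻¹ * p⁻¹) * p0⁻¹ := by rw [hy]; group
  rw [h1]
  exact S.PQ p0 hp0 _ (hc p hp)

/-- **`C_G(P)` moves `t`** (`q = 2`, type `A`) -/
theorem exists_cent [Finite G] (F : Two t z X Q P R1 R2) (S : Setup t X Q P H) (hlin : Lin X Q P) {n : G}
    (hn : n ∈ S.N)
    (hnt : n * t * n⁻¹ ≠ t) {x : G} (hx : x ∈ X) :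
    ∃ b : G, (∀ p ∈ P, b * p = p * b) ∧ b * t * b⁻¹ = t * x := by
  obtain ⟨m, hm, hmt, hmR, -⟩ := F.exists_fix S hn hnt
  obtain ⟨p0, hp0, hin⟩ := F.exists_inner S hm hmR
  exact S.exists_cent_of_inner hlin F.hX hm hmt hp0 hin hx

end Two

end Cfsg.Agent.OddHalf.D7Ex.TwoA
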