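import Cfsg.Agent.OddHalf.D7Ex.LinA
import Cfsg.Agent.OddHalf.D7Ex.TriE

/-!
# `q = 2`, an isolated root `b` of `r^⊥`: the doubled root group commuting with `P = ⟨X d : (d, r) = (d, b) = 0⟩ Q`
(helper875)

* `KR.exists_iso` : abstract form;
* `exists_iso` : from a Sylow 2-subgroup of `C(t)` and an element of its normaliser (`Tri.exists_inner`).
-/

set_option autoImplicit false
set_option linter.style.haveILetI false
set_option linter.unusedSectionVars false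
set_option linter.unusedVariables false

namespace Cfsg.Agent.OddHalf.D7Ex

open Subgroup Cfsg.Agent.OddHalf.SL.Defs
open scoped commutatorElement

namespace KR

variable {L : Type*} [AddCommGroup L] {G : Type*} [Group G]
  {t : G} {B : L → L → ℤ} {Φ : Set L} {X : L → Subgroup G} {r : L} {P T : Subgroup G}

/-- `X r` commutes with `t` and with `⟨X b, X (-b)⟩` -/
theorem tA (K : KR t B Φ X r P T) {b : L} (p : PA B Φ X r b P) : ∀ a ∈ X b ⊔ X (-b), t * a = a * t := by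
  have hle : X b ⊔ X (-b) ≤ centralizer ({t} : Set G) := sup_le
    (fun x hx => mem_centralizer_singleton_iff.2 (K.tX b p.hb x hx).symm)
    fun x hx => mem_centralizer_singleton_iff.2 (K.tX _ (K.rg.roots.neg_mem b p.hb) x hx).symm
  exact fun a ha => (mem_centralizer_singleton_iff.1 (hle ha)).symm

theorem nice_of (K : KR t B Φ X r P T) [Finite G] {k : G} (kt : k * t = t * k)
    (kX : ∀ x ∈ X r, k * x * k⁻¹ ∈ X r) : Nice t (X r) P 1 k := by
  have ht : t * (k * t * k⁻¹) ∈ X r := by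
    rw [kt, mul_inv_cancel_right, K.tt]; exact one_mem _
  obtain ⟨kX', ht'⟩ := K.inv_norm kX ht
  refine ⟨kt, fun x => ⟨kX x, fun hx => ?_⟩, fun p => ⟨K.nP0 k kX ht p, fun hp => ?_⟩, ?_⟩
  · have := kX' _ hx
    have e : k⁻¹ * (k * x * k⁻¹) * k⁻¹⁻¹ = x := by group
    rwa [e] at this
  · have := K.nP0 k⁻¹ kX' ht' _ hp
    have e : k⁻¹ * (k * p * k⁻¹) * k⁻¹⁻¹ = p := by group
    rwa [e] at this
  · rw [mul_one, mul_inv_cancel, inv_one, mul_one]; exact one_mem _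

/-- **The doubled root group, `q = 2`, `b` isolated in `r^⊥`**: `n` acts on `P/Q` as an element of `P`. -/
theorem exists_iso (K : KR t B Φ X r P T) {b : L} (pa : PA B Φ X r b P) [Finite G] {z : G}
    (hz : ∀ x ∈ X r, x = 1 ∨ x = z)
    {n : G} (hX : ∀ x ∈ X r, n * x * n⁻¹ ∈ X r) (ht : t * (n * t * n⁻¹) ∈ X r) (hnt : n * t * n⁻¹ ≠ t)
    {p0 : G} (hp0 : p0 ∈ P) (hin : ∀ p ∈ P, n * p * n⁻¹ * (p0 * p * p0⁻¹)⁻¹ ∈ QS X (Ph1 B Φ r) r) :
    ∃ W, IsDbl t (X r) P W ∧ (∀ w ∈ W, w * w = 1) ∧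
      ∀ k, k * t = t * k → (∀ x ∈ X r, k * x * k⁻¹ ∈ X r) → ∀ w ∈ W, k * w * k⁻¹ ∈ W := by
  have S := K.setup
  have hn : n ∈ S.N := by
    refine ⟨hX, fun x hx => ?_, ht⟩
    have := (K.inv_norm hX ht).1 x hx
    rwa [inv_inv] at this
  have hp0t : t * p0 = p0 * t := S.tP p0 hp0
  have hp0N : p0 ∈ S.N := by
    refine ⟨fun x hx => ?_, fun x hx => ?_, ?_⟩
    · rw [← S.XP x hx p0 hp0, mul_inv_cancel_right]; exact hx
    · rw [mul_assoc, S.XP x hx p0 hp0, inv_mul_cancel_left]; exact hx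
    · rw [← hp0t, mul_inv_cancel_right, S.tt]; exact one_mem _
  -- `p0⁻¹ n` is trivial on `P/Q`
  have hc : p0⁻¹ * n ∈ S.C4 := by
    refine ⟨mul_mem (inv_mem hp0N) hn, fun p hp => ?_⟩
    have h1 := hin p hp
    have h2 := S.PQ p0⁻¹ (inv_mem hp0) _ h1
    have e : p0⁻¹ * n * p * (p0⁻¹ * n)⁻¹ * p⁻¹ = p0⁻¹ * (n * p * n⁻¹ * (p0 * p * p0⁻¹)⁻¹) * p0⁻¹⁻¹ := by group
    rwa [e]
  obtain ⟨a, ha, hD⟩ := pa.exists_A K.rg K.hr K.pg.PPR S (K.tA pa) hc
  obtain ⟨y, hy, hyt⟩ := S.exists_cent hD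
  have haPR := pa.A_le_PR K.rg ha
  -- `y` moves `t` to `n t n⁻¹`
  have e1 : a * (p0⁻¹ * n) * t * (a * (p0⁻¹ * n))⁻¹ = n * t * n⁻¹ := by
    have hx : t * (n * t * n⁻¹) ∈ X r := ht
    have e2 : n * t * n⁻¹ = t * (t * (n * t * n⁻¹)) := by rw [← mul_assoc, K.tt, one_mul]
    have c1 : (n * t * n⁻¹) * p0 = p0 * (n * t * n⁻¹) := by
      rw [e2]
      calc t * (t * (n * t * n⁻¹)) * p0 = t * ((t * (n * t * n⁻¹)) * p0) := by group
        _ = (t * p0) * (t * (n * t * n⁻¹)) := by rw [S.XP _ hx p0 hp0]; group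
        _ = _ := by rw [hp0t]; group
    have c2 : (n * t * n⁻¹) * a = a * (n * t * n⁻¹) := by
      rw [e2]
      calc t * (t * (n * t * n⁻¹)) * a = t * ((t * (n * t * n⁻¹)) * a) := by group
        _ = (t * a) * (t * (n * t * n⁻¹)) := by rw [K.rg.XP K.hr hx haPR]; group
        _ = _ := by rw [K.tA pa a ha]; group
    calc a * (p0⁻¹ * n) * t * (a * (p0⁻¹ * n))⁻¹ = a * p0⁻¹ * ((n * t * n⁻¹) * p0) * a⁻¹ := by group
      _ = a * (n * t * n⁻¹) * a⁻¹ := by rw [c1]; group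
      _ = n * t * n⁻¹ := by rw [← c2, mul_inv_cancel_right]
  have hnx : t * (n * t * n⁻¹) ≠ 1 := by
    intro e
    apply hnt
    have : t * (n * t * n⁻¹) = t * t := by rw [e, K.tt]
    exact mul_left_cancel this
  have hzn : t * (n * t * n⁻¹) = z := (hz _ ht).resolve_left hnx
  have C : Cent t (X r) P := K.cent fun x hx => by
    rcases hz x hx with h1 | h1
    · exact ⟨1, fun p _ => by rw [one_mul, mul_one], by rw [h1]; group⟩
    · refine ⟨y, hy, ?_⟩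
      rw [hyt, e1, h1, ← hzn, ← mul_assoc, K.tt, one_mul]
  exact ⟨C.Wtwo hz, C.isDbl_two hz, fun w hw => hw.2.1, fun k kt kX w hw => C.nice_two hz (K.nice_of kt kX) hw⟩

end KR

end Cfsg.Agent.OddHalf.D7Ex
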