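import Cfsg.Agent.OddHalf.D7Ex.OfFront
import Cfsg.Agent.OddHalf.D7Ex.KTwo

/-!
# The output of the front for `q = 2` (ODD D7; helper158)

* `fl` : `Fl t K`; `mz` : `m` centralises `z`; `normX` : `m` normalises `X ρ`.
* `hs` : the perfect subgroups of `C(t)` lie in `K`, form of `KTwo.krTwo`.
-/

set_option autoImplicit false
set_option linter.unusedSectionVars false

namespace Cfsg.Agent.OddHalf.D7Ex.FrontTwo

open Cfsg.Agent.OddHalf.SL Cfsg.Agent.KFacts CoxeterSystem Cfsg.Agent.ChevalleyStructure.CoxeterGeom Cfsg.Agent.Tits.Roots Cfsg.Agent.Tits.Core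
  Cfsg.Agent.Tits.RootComb Cfsg.Agent.Nodes.Comb Cfsg.Agent.Nodes.Reps Cfsg.Agent.Nodes.BNOf
  Cfsg.Agent.Nodes.Bruhat Cfsg.Agent.Nodes.Coroot Cfsg.Agent.OddHalf.SL.Index Cfsg.Agent.OddHalf.SL.OfRGD
  Cfsg.Agent.OddHalf.SL.PreOf Cfsg.Agent.KFacts.RgdPar Cfsg.Agent.KFacts.RgdSL Cfsg.Agent.KFacts.RgdTI
  Cfsg.Agent.KFacts.RgdCent Cfsg.Agent.KFacts.RgdOdd Cfsg.Agent.KFacts.RgdEx Cfsg.Agent.KFacts.SLRow.Def
  Cfsg.Agent.OddHalf.SL.OfDatum Cfsg.Agent.OddHalf.D7Ex.KData Cfsg.Agent.OddHalf.D7Ex.KFull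
  Cfsg.Agent.OddHalf.D7Ex.OutBase Cfsg.Agent.OddHalf.D7Out

theorem fl {G : Type*} [Group G] {t : G} {K : Subgroup G} (C : CT t K) : KTwo.Fl t K :=
  ⟨C.tt, C.tK, C.Kt, C.nrm, C.cK⟩

theorem hs {G : Type*} [Group G] {t : G} {K : Subgroup G} (C : CT t K) :
    ∀ P' : Subgroup G, (∀ x ∈ P', x * t = t * x) → P' ≤ ⁅P', P'⁆ → P' ≤ K := fun P' h1 h2 =>
  C.perf P' (fun x hx => Subgroup.mem_centralizer_singleton_iff.2 (h1 x hx)) h2

variable {I W G : Type*} [Fintype I] [DecidableEq I] [Group W] [Group G] {M : CoxeterMatrix I}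
  {cs : CoxeterSystem M W} {A : I → I → ℤ} {h : IsCartan M A} {K : Subgroup G} {t : G}
  [Finite W] [Finite G] {T₀ : Subgroup ↥K} {n₀ : I → ↥K} {X₀ : (I → ℤ) → Subgroup ↥K} {F : Type*} [Field F]
  {e : (I → ℤ) → F → ↥K} {v : G} {ρ : I → ℤ} {T : Subgroup G} {g : ↥T →* Equiv.Perm I × (F ≃+* F)} {m z : G}

/-- `m z m⁻¹ = z` -/
theorem mz (D : Datum (⊤ : Subgroup ↥K) 2 cs h T₀ n₀ X₀) (O : FrontSL.Out cs h T₀ X₀ e t v ρ T g m z) :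
    m * z = z * m := by
  have h1 : m⁻¹ * z * m ∈ (X₀ ρ).map K.subtype := OfFront.conj_z O.fr.toFr O.mT O.zX O.zT O.mt
  have h2 : m⁻¹ * z * m = z := KTwo.eq_of_ne (dm D) O.root h1 O.zX (fun h3 => O.z1 (by
    calc z = m * (m⁻¹ * z * m) * m⁻¹ := by group
      _ = 1 := by rw [h3]; group)) O.z1
  calc m * z = m * (m⁻¹ * z * m) := by rw [h2]
    _ = z * m := by group

/-- `m` normalises `X ρ` -/
theorem normX (D : Datum (⊤ : Subgroup ↥K) 2 cs h T₀ n₀ X₀) (O : FrontSL.Out cs h T₀ X₀ e t v ρ T g m z) :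
    ∀ x ∈ (X₀ ρ).map K.subtype, m * x * m⁻¹ ∈ (X₀ ρ).map K.subtype := by
  intro x hx
  by_cases hx1 : x = 1
  · rw [hx1, mul_one, mul_inv_cancel]; exact one_mem _
  · have h1 : x = z := KTwo.eq_of_ne (dm D) O.root hx O.zX hx1 O.z1
    rw [h1, mz D O, mul_inv_cancel_right]
    exact O.zX

theorem tmt (C : CT t K) (O : FrontSL.Out cs h T₀ X₀ e t v ρ T g m z) :
    t * (m * t * m⁻¹) ∈ (X₀ ρ).map K.subtype := by
  rw [O.mt, ← mul_assoc, C.tt, one_mul]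
  exact O.zX

theorem mt_ne (O : FrontSL.Out cs h T₀ X₀ e t v ρ T g m z) : m * t * m⁻¹ ≠ t := by
  rw [O.mt]
  exact fun h => O.z1 (mul_eq_left.1 h)

end Cfsg.Agent.OddHalf.D7Ex.FrontTwo
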