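import Cfsg.Agent.OddHalf.Front.Cyclic
import Cfsg.Agent.OddHalf.TFormula

/-!
# ODD D7, step (1): `t` is conjugate to `t z` in `N_G(T)` (helper57; text: helper763 #6693 (1), helper118 #7489 (1)(2))

`T` a Sylow 2-subgroup of `C_G(t)`, `φ : T → A` a homomorphism to an abelian group with `φ t ≠ 1`, `G` perfect. Then
some element of `N_G(T)` moves `t` (`exists_move`).

`FusFacts K t q X T`: `K` simple, standard at `t`, `Q = ⟨q⟩`, `T ≤ QK`, `X = Z(T ∩ K)` elementary abelian. Then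
`Q = ⟨t⟩` and some `n ∈ N_G(T)` normalises `X` and maps `t` to `t z`, `1 ≠ z ∈ X` (`FusFacts.exists_n`).
-/

set_option autoImplicit false

namespace Cfsg.Agent.OddHalf.D7Ex.Fus

open Subgroup Cfsg.Agent.OddHalf.Front.FE Cfsg.Agent.OddHalf.Front.Cyclic
open scoped commutatorElement

universe u

variable {G : Type u} [Group G]

/-- a 2-element commuting with `t` that normalises `T` lies in `T` -/
theorem mem_of_normalizer {t : G} {T : Subgroup G} (pT : IsPGroup 2 ↥T) (tc : ∀ x ∈ T, x * t = t * x)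
    (max : ∀ P : Subgroup G, IsPGroup 2 ↥P → T ≤ P → (∀ x ∈ P, x * t = t * x) → P ≤ T)
    {x : G} (hx : x ∈ normalizer (T : Set G)) (hp : IsPGroup 2 ↥(zpowers x)) (hxt : x * t = t * x) :
    x ∈ T := by
  have hle : zpowers x ≤ normalizer (T : Set G) := by
    rw [zpowers_le]; exact hx
  have h1 : IsPGroup 2 ↥(zpowers x ⊔ T : Subgroup G) := hp.to_sup_of_normal_right' pT hle
  have h2 : ∀ y ∈ zpowers x ⊔ T, y * t = t * y := by
    have : zpowers x ⊔ T ≤ centralizer ({t} : Set G) := by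
      rw [sup_le_iff, zpowers_le]
      exact ⟨mem_centralizer_singleton_iff.2 hxt, fun y hy => mem_centralizer_singleton_iff.2 (tc y hy)⟩
    intro y hy
    exact mem_centralizer_singleton_iff.1 (this hy)
  exact max _ h1 le_sup_right h2 ((le_sup_left : zpowers x ≤ _) (mem_zpowers x))

/-- **`N_G(T)` moves `t`** -/
theorem exists_move {A : Type*} [CommGroup A] [Finite G] (hG : commutator G = ⊤) {t : G} {T : Subgroup G}
    (tt : t * t = 1) (pT : IsPGroup 2 ↥T) (tc : ∀ x ∈ T, x * t = t * x)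
    (max : ∀ P : Subgroup G, IsPGroup 2 ↥P → T ≤ P → (∀ x ∈ P, x * t = t * x) → P ≤ T)
    (tT : t ∈ T) (φ : ↥T →* A) (hφ : φ ⟨t, tT⟩ ≠ 1) :
    ∃ n ∈ normalizer (T : Set G), n * t * n⁻¹ ≠ t := by
  classical
  have : Fact (Nat.Prime 2) := ⟨Nat.prime_two⟩
  by_contra hcon
  push Not at hcon
  -- `T` is a Sylow subgroup of `G`
  obtain ⟨S, hTS⟩ := pT.exists_le_sylow
  have hST : (S : Subgroup G) = T := by
    by_contra hne
    have hlt : T < (S : Subgroup G) := lt_of_le_of_ne hTS (Ne.symm hne)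
    have : Group.IsNilpotent (S : Subgroup G) := S.isPGroup'.isNilpotent
    obtain ⟨x, hxS, hxT, hxN⟩ :=
      Cfsg.Agent.Transfer.FrobeniusFusion.exists_mem_normalizer_notMem hlt
    have h1 := hcon x hxN
    apply hxT
    refine mem_of_normalizer pT tc max hxN ?_ (mul_inv_eq_iff_eq_mul.1 h1)
    exact S.isPGroup'.to_le (by rw [zpowers_le]; exact hxS)
  have := Fintype.ofFinite (G ⧸ T)
  obtain ⟨f, hf, s, hs, hprod⟩ := TFormula.transfer_eq_prod T φ t tt T pT tc
  have h1 : MonoidHom.transfer φ t = 1 := TFormula.hom_eq_one hG _ t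
  -- the fixed cosets are those of `N_G(T)`
  have hfix : ∀ g : G, (g : G ⧸ T) ∈ s ↔ g ∈ normalizer (T : Set G) := by
    intro g
    rw [hs]
    constructor
    · rintro ⟨-, h2⟩
      have h3 : ∀ x ∈ T, g⁻¹ * x * g ∈ T := by
        intro x hx
        have h4 := h2 x hx
        rw [MulAction.Quotient.smul_mk, smul_eq_mul, eq_comm, QuotientGroup.eq] at h4
        rwa [← mul_assoc] at h4
      have h5 : g⁻¹ ∈ normalizer (T : Set G) := mem_normalizer_fintype fun x hx => by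
        rw [inv_inv]; exact h3 x hx
      exact inv_mem_iff.1 h5
    · intro hg
      have h3 : ∀ x ∈ T, x • (g : G ⧸ T) = g := by
        intro x hx
        rw [MulAction.Quotient.smul_mk, smul_eq_mul, eq_comm, QuotientGroup.eq, ← mul_assoc]
        have h4 := (mem_normalizer_iff.1 (inv_mem hg) x).1 hx
        rwa [inv_inv] at h4
      exact ⟨h3 t tT, h3⟩
  have hval : ∀ q ∈ s, f q = φ ⟨t, tT⟩ := by
    intro q
    induction q using QuotientGroup.induction_on with
    | H g =>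
      intro hq
      have hg := (hfix g).1 hq
      have h2 := hcon g⁻¹ (inv_mem hg)
      rw [inv_inv] at h2
      rw [hf _ g rfl (by rw [h2]; exact tT)]
      congr 1
      exact Subtype.ext h2
  have hprod2 : MonoidHom.transfer φ t = φ ⟨t, tT⟩ ^ s.card := by
    rw [hprod, Finset.prod_congr rfl hval, Finset.prod_const]
  -- their number is odd
  have hcard : Odd s.card := by
    have h2 : s.card = Nat.card ↥(MulAction.fixedPoints ↥T (G ⧸ T)) := by
      rw [← Fintype.card_coe, ← Nat.card_eq_fintype_card]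
      refine Nat.card_congr (Equiv.subtypeEquivRight fun q => ?_)
      rw [hs, MulAction.mem_fixedPoints]
      constructor
      · rintro ⟨-, h3⟩ ⟨x, hx⟩
        exact h3 x hx
      · intro h3
        exact ⟨h3 ⟨t, tT⟩, fun x hx => h3 ⟨x, hx⟩⟩
    have h3 := pT.card_modEq_card_fixedPoints (G ⧸ T)
    rw [← h2] at h3
    have h4 : ¬ 2 ∣ Nat.card (G ⧸ T) := by
      have := S.not_dvd_index
      rwa [hST] at this
    rw [← Nat.not_even_iff_odd, even_iff_two_dvd]
    intro h5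
    exact h4 ((Nat.modEq_zero_iff_dvd.1 (h3.trans (Nat.modEq_zero_iff_dvd.2 h5))))
  rw [h1] at hprod2
  apply hφ
  have h2 : φ ⟨t, tT⟩ ^ 2 = 1 := by
    rw [← map_pow]
    have : (⟨t, tT⟩ : ↥T) ^ 2 = 1 := Subtype.ext (by
      rw [Subgroup.coe_pow, pow_two]; exact tt)
    rw [this, map_one]
  obtain ⟨j, hj⟩ := hcard
  rw [hj, pow_succ, pow_mul, h2, one_pow, one_mul] at hprod2
  exact hprod2.symm

/-- the position of the nodes with `Z(T ∩ K) = X` elementary abelian, `C(t)/QK` of odd order -/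
structure FusFacts (K : Subgroup G) (t q : G) (X T : Subgroup G) : Prop extends Start K t q where
  pT : IsPGroup 2 ↥T
  tc : ∀ x ∈ T, x * t = t * x
  max : ∀ P : Subgroup G, IsPGroup 2 ↥P → T ≤ P → (∀ x ∈ P, x * t = t * x) → P ≤ T
  XK : X ≤ K
  XT : X ≤ T
  X2 : ∀ x ∈ X, x * x = 1
  XS : ∀ x ∈ X, ∀ y ∈ T, y ∈ K → y * x = x * y
  /-- `Z(S) ≤ X` -/
  P1 : ∀ y ∈ T, y ∈ K → (∀ x ∈ T, x ∈ K → x * y = y * x) → y ∈ X
  XD : X ≤ ⁅T ⊓ K, T ⊓ K⁆
  /-- no outer 2-elements -/
  clean : T ≤ zpowers q ⊔ K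
  /-- `X` lies in a perfect subgroup of `C_K(X)` -/
  P2 : ∃ L : Subgroup G, L ≤ K ∧ ⁅L, L⁆ = L ∧ X ≤ L ∧ ∀ y ∈ L, ∀ x ∈ X, y * x = x * y
  /-- perfect subgroups of `C(t)` lie in `K` -/
  perf : ∀ L : Subgroup G, (∀ x ∈ L, x * t = t * x) → ⁅L, L⁆ = L → L ≤ K

namespace FusFacts

variable {K : Subgroup G} {t q : G} {X T : Subgroup G}

/-- `t` is not conjugate to an element of `X` -/
theorem not_conj (F : FusFacts K t q X T) (g : G) : g * t * g⁻¹ ∉ X := by
  intro hg
  obtain ⟨L, hLK, hLp, hXL, hLX⟩ := F.P2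
  set L' : Subgroup G := L.map (MulAut.conj g⁻¹).toMonoidHom with hL'
  have hp : ⁅L', L'⁆ = L' := by rw [hL', ← map_commutator, hLp]
  have h1 : ∀ x ∈ L', x * t = t * x := by
    rintro _ ⟨y, hy, rfl⟩
    have h2 := hLX y hy _ hg
    show g⁻¹ * y * g⁻¹⁻¹ * t = t * (g⁻¹ * y * g⁻¹⁻¹)
    calc g⁻¹ * y * g⁻¹⁻¹ * t = g⁻¹ * (y * (g * t * g⁻¹)) * g := by group
      _ = g⁻¹ * (g * t * g⁻¹ * y) * g := by rw [h2]
      _ = t * (g⁻¹ * y * g⁻¹⁻¹) := by group
  have h2 := F.perf L' h1 hp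
  have h3 : t ∈ L' := ⟨g * t * g⁻¹, hXL hg, by
    show g⁻¹ * (g * t * g⁻¹) * g⁻¹⁻¹ = t
    group⟩
  exact F.t1 (KQ F.toStart (h2 h3) F.tQ)

theorem qc (F : FusFacts K t q X T) : ∀ y ∈ zpowers q, ∀ x ∈ T, x * y = y * x := by
  intro y hy x hx
  obtain ⟨a, ha, k, hk, rfl⟩ := (mem_M F.toStart0).1 (F.clean hx)
  have h1 : a * y = y * a := by
    obtain ⟨m, rfl⟩ := mem_zpowers_iff.1 hy
    obtain ⟨n, rfl⟩ := mem_zpowers_iff.1 ha
    rw [← zpow_add, ← zpow_add, add_comm]
  calc a * k * y = a * (k * y) := by group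
    _ = a * (y * k) := by rw [F.QK y hy k hk]
    _ = (a * y) * k := by group
    _ = y * (a * k) := by rw [h1]; group

theorem QT (F : FusFacts K t q X T) : zpowers q ≤ T := by
  intro y hy
  refine mem_of_normalizer F.pT F.tc F.max (mem_normalizer_iff.2 fun x => ?_) (F.pQ.to_le ?_) (F.Qt y hy)
  · constructor
    · intro hx
      have h1 : y * x * y⁻¹ = x := by rw [← F.qc y hy x hx]; group
      rwa [h1]
    · intro hx
      have h1 := F.qc y⁻¹ (inv_mem hy) _ hx
      have h2 : x = y⁻¹ * (y * x * y⁻¹) * y := by group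
      have h3 : y⁻¹ * (y * x * y⁻¹) * y = y * x * y⁻¹ := by rw [← h1]; group
      rw [h2, h3]; exact hx
  · rw [zpowers_le]; exact hy

theorem tT (F : FusFacts K t q X T) : t ∈ T := F.QT F.tQ

/-- `Z(T) = Q × X` -/
theorem center_eq (F : FusFacts K t q X T) {y : G} (hy : y ∈ T) (hc : ∀ x ∈ T, x * y = y * x) :
    ∃ a ∈ zpowers q, ∃ x ∈ X, y = a * x := by
  obtain ⟨a, ha, k, hk, rfl⟩ := (mem_M F.toStart0).1 (F.clean hy)
  refine ⟨a, ha, k, F.P1 k ?_ hk fun x hx hxK => ?_, rfl⟩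
  · have := T.mul_mem (T.inv_mem (F.QT ha)) hy
    rwa [inv_mul_cancel_left] at this
  · have h1 := hc x hx
    have h2 := F.QK a ha x hxK
    have h3 : a * (x * k) = a * (k * x) := by
      calc a * (x * k) = (a * x) * k := by group
        _ = (x * a) * k := by rw [h2]
        _ = x * (a * k) := by group
        _ = a * (k * x) := by rw [h1]; group
    exact mul_left_cancel h3

theorem Xc (F : FusFacts K t q X T) {x : G} (hx : x ∈ X) : ∀ y ∈ T, y * x = x * y := by
  intro y hy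
  obtain ⟨a, ha, k, hk, rfl⟩ := (mem_M F.toStart0).1 (F.clean hy)
  have hkT : k ∈ T := by
    have := T.mul_mem (T.inv_mem (F.QT ha)) hy
    rwa [inv_mul_cancel_left] at this
  calc a * k * x = a * (k * x) := by group
    _ = a * (x * k) := by rw [F.XS x hx k hkT hk]
    _ = (a * x) * k := by group
    _ = (x * a) * k := by rw [← F.QK a ha x (F.XK hx)]
    _ = x * (a * k) := by group

/-- `T' ≤ K` -/
theorem comm_le (F : FusFacts K t q X T) : ⁅T, T⁆ ≤ K := by
  rw [commutator_le]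
  intro x hx y hy
  obtain ⟨a, ha, k, hk, rfl⟩ := (mem_M F.toStart0).1 (F.clean hx)
  obtain ⟨b, hb, l, hl, rfl⟩ := (mem_M F.toStart0).1 (F.clean hy)
  have hkT : k ∈ T := by
    have := T.mul_mem (T.inv_mem (F.QT ha)) hx
    rwa [inv_mul_cancel_left] at this
  have hlT : l ∈ T := by
    have := T.mul_mem (T.inv_mem (F.QT hb)) hy
    rwa [inv_mul_cancel_left] at this
  have h1 : ⁅a * k, b * l⁆ = ⁅k, l⁆ := by
    rw [commutatorElement_def, commutatorElement_def]
    have ca := F.qc a ha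
    have cb := F.qc b hb
    calc a * k * (b * l) * (a * k)⁻¹ * (b * l)⁻¹
        = a * (k * (b * l) * k⁻¹) * a⁻¹ * (l⁻¹ * b⁻¹) := by group
      _ = (k * (b * l) * k⁻¹) * a * a⁻¹ * (l⁻¹ * b⁻¹) := by
        rw [ca _ (T.mul_mem (T.mul_mem hkT hy) (T.inv_mem hkT))]
      _ = (k * b) * l * k⁻¹ * l⁻¹ * b⁻¹ := by group
      _ = (b * k) * l * k⁻¹ * l⁻¹ * b⁻¹ := by rw [cb k hkT]
      _ = b * (k * l * k⁻¹ * l⁻¹) * b⁻¹ := by group
      _ = (k * l * k⁻¹ * l⁻¹) * b * b⁻¹ := by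
        rw [cb _ (T.mul_mem (T.mul_mem (T.mul_mem hkT hlT) (T.inv_mem hkT)) (T.inv_mem hlT))]
      _ = k * l * k⁻¹ * l⁻¹ := by group
  rw [h1, commutatorElement_def]
  exact K.mul_mem (K.mul_mem (K.mul_mem hk hl) (K.inv_mem hk)) (K.inv_mem hl)

/-- `N(T)` maps the centre of `T` to itself -/
theorem conj_center (F : FusFacts K t q X T) {n : G} (hn : n ∈ normalizer (T : Set G)) {y : G} (hy : y ∈ T)
    (hc : ∀ x ∈ T, x * y = y * x) : n * y * n⁻¹ ∈ T ∧ ∀ x ∈ T, x * (n * y * n⁻¹) = n * y * n⁻¹ * x := by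
  refine ⟨(mem_normalizer_iff.1 hn y).1 hy, fun x hx => ?_⟩
  have h1 : n⁻¹ * x * n ∈ T := by
    have h2 := (mem_normalizer_iff.1 (inv_mem hn) x).1 hx
    rwa [inv_inv] at h2
  calc x * (n * y * n⁻¹) = n * ((n⁻¹ * x * n) * y) * n⁻¹ := by group
    _ = n * (y * (n⁻¹ * x * n)) * n⁻¹ := by rw [hc _ h1]
    _ = n * y * n⁻¹ * x := by group

/-- `N(T)` normalises `X = Z(T) ∩ T'` -/
theorem conj_X (F : FusFacts K t q X T) {n : G} (hn : n ∈ normalizer (T : Set G)) {x : G} (hx : x ∈ X) :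
    n * x * n⁻¹ ∈ X := by
  obtain ⟨h1, h2⟩ := F.conj_center hn (F.XT hx) (F.Xc hx)
  obtain ⟨a, ha, y, hy, h3⟩ := F.center_eq h1 h2
  have h4 : n * x * n⁻¹ ∈ K := by
    apply F.comm_le
    have h5 : x ∈ ⁅T, T⁆ := commutator_mono inf_le_left inf_le_left (F.XD hx)
    have h6 : (⁅T, T⁆).map (MulAut.conj n).toMonoidHom = ⁅T, T⁆ := by
      rw [map_commutator, mem_normalizer_iff_map.1 hn]
    rw [← h6]
    exact ⟨x, h5, rfl⟩
  have h5 : a ∈ K := by
    have : a = n * x * n⁻¹ * y⁻¹ := by rw [h3]; group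
    rw [this]
    exact K.mul_mem h4 (K.inv_mem (F.XK hy))
  have h6 : a = 1 := KQ F.toStart h5 ha
  rw [h3, h6, one_mul]; exact hy

/-- **step (1)** -/
theorem exists_n [Finite G] (F : FusFacts K t q X T) (hG : commutator G = ⊤) :
    q = t ∧ ∃ n ∈ normalizer (T : Set G), (∀ x ∈ X, n * x * n⁻¹ ∈ X) ∧ (∀ x ∈ X, n⁻¹ * x * n ∈ X) ∧
      t * (n * t * n⁻¹) ∈ X ∧ n * t * n⁻¹ ≠ t := by
  classical
  -- the homomorphism `T → T / (T ∩ K)`
  set S : Subgroup ↥T := K.subgroupOf T with hS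
  have hSn : S.Normal := by
    refine ⟨fun x hx g => ?_⟩
    rw [hS, mem_subgroupOf] at hx ⊢
    exact conjK F.toStart0 (F.tc g g.2) hx
  have hcomm : ∀ a b : ↥T ⧸ S, a * b = b * a := by
    intro a b
    induction a using QuotientGroup.induction_on with
    | H a =>
      induction b using QuotientGroup.induction_on with
      | H b =>
        rw [← QuotientGroup.mk_mul, ← QuotientGroup.mk_mul, QuotientGroup.eq, hS, mem_subgroupOf]
        have h1 := F.comm_le (commutator_mem_commutator (T.inv_mem b.2) (T.inv_mem a.2))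
        rw [commutatorElement_def, inv_inv, inv_inv] at h1
        show (((a * b)⁻¹ * (b * a) : ↥T) : G) ∈ K
        have h2 : (((a * b)⁻¹ * (b * a) : ↥T) : G) = (b : G)⁻¹ * (a : G)⁻¹ * b * a := by
          push_cast; group
        rw [h2]; exact h1
  let _ : CommGroup (↥T ⧸ S) := { (inferInstance : Group (↥T ⧸ S)) with mul_comm := hcomm }
  obtain ⟨n, hn, hnt⟩ := exists_move hG F.tt F.pT F.tc F.max F.tT (QuotientGroup.mk' S) (by
    intro h1
    rw [QuotientGroup.mk'_apply, QuotientGroup.eq_one_iff, hS, mem_subgroupOf] at h1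
    exact F.t1 (KQ F.toStart h1 F.tQ))
  have key : ∀ m ∈ normalizer (T : Set G), ∀ a ∈ zpowers q, ∃ b ∈ zpowers q, ∃ x ∈ X, m * a * m⁻¹ = b * x := by
    intro m hm a ha
    obtain ⟨h1, h2⟩ := F.conj_center hm (F.QT ha) (F.qc a ha)
    exact F.center_eq h1 h2
  have sq : ∀ b ∈ zpowers q, ∀ x ∈ X, (b * x) * (b * x) = b * b := by
    intro b hb x hx
    have h1 := F.QK b hb x (F.XK hx)
    calc (b * x) * (b * x) = b * (x * b) * x := by group
      _ = b * b * (x * x) := by rw [h1]; group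
      _ = b * b := by rw [F.X2 x hx, mul_one]
  have hqt : q = t := by
    by_contra hne
    apply hnt
    -- `t = r²`
    obtain ⟨r, hr, hrt⟩ : ∃ r ∈ zpowers q, r * r = t := by
      have h1 : t ∈ zpowers (q ^ 2) ∨ t * q⁻¹ ∈ zpowers (q ^ 2) := by
        obtain ⟨i, hi⟩ := mem_zpowers_iff.1 F.tQ
        rcases Int.even_or_odd' i with ⟨j, hj | hj⟩
        · left
          refine mem_zpowers_iff.2 ⟨j, ?_⟩
          rw [← hi, hj, ← zpow_natCast q 2, ← zpow_mul]; rfl
        · right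
          refine mem_zpowers_iff.2 ⟨j, ?_⟩
          rw [← hi, hj, ← zpow_natCast q 2, ← zpow_mul, zpow_add_one, mul_inv_cancel_right]; rfl
      rcases h1 with h1 | h1
      · obtain ⟨j, hj⟩ := mem_zpowers_iff.1 h1
        refine ⟨q ^ j, zpow_mem (mem_zpowers q) j, ?_⟩
        rw [← hj, ← zpow_natCast q 2, ← zpow_mul, ← zpow_add]
        congr 1
        push_cast
        ring
      · -- `q` is a power of `t`, so `q = t`
        exfalso
        apply hne
        obtain ⟨i, hi⟩ := mem_zpowers_iff.1 F.tQ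
        obtain ⟨j, hj⟩ := mem_zpowers_iff.1 h1
        -- `t = q^(2j+1)`
        have h2 : t = q ^ (2 * j + 1) := by
          have h3 : t = q ^ 2 ^ 0 * (t * q⁻¹) := by
            have h4 : t * q = q * t := (F.Qt q (mem_zpowers q)).symm
            rw [pow_zero, pow_one]
            calc t = t * q * q⁻¹ := by group
              _ = q * t * q⁻¹ := by rw [h4]
              _ = q * (t * q⁻¹) := by group
          rw [h3, ← hj, pow_zero, pow_one, ← zpow_natCast q 2, ← zpow_mul, add_comm, zpow_one_add]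
          rfl
        -- `q^2 = 1`
        obtain ⟨k, hk⟩ := IsPGroup.iff_card.1 F.pQ
        rw [Nat.card_zpowers] at hk
        have h3 : q ^ (2 * (2 * j + 1)) = 1 := by
          rw [two_mul, zpow_add, ← h2, F.tt]
        have h4 : ((orderOf q : ℕ) : ℤ) ∣ 2 * (2 * j + 1) := orderOf_dvd_iff_zpow_eq_one.2 h3
        have h5 : IsCoprime ((orderOf q : ℕ) : ℤ) (2 * j + 1) := by
          rw [hk]
          push_cast
          apply IsCoprime.pow_left
          exact ⟨-j, 1, by ring⟩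
        have h6 : ((orderOf q : ℕ) : ℤ) ∣ 2 := h5.dvd_of_dvd_mul_right h4
        have h7 : q ^ (2 : ℤ) = 1 := orderOf_dvd_iff_zpow_eq_one.1 h6
        rw [h2, zpow_add, zpow_mul, h7, one_zpow, one_mul, zpow_one]
    obtain ⟨b, hb, x, hx, h2⟩ := key n hn r hr
    have h3 : n * t * n⁻¹ = b * b := by
      rw [← sq b hb x hx, ← h2, ← hrt]; group
    rw [h3]
    apply F.uniq (mul_mem hb hb)
    · rw [← h3]
      calc n * t * n⁻¹ * (n * t * n⁻¹) = n * (t * t) * n⁻¹ := by group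
        _ = 1 := by rw [F.tt]; group
    · rw [← h3]
      intro h4
      apply F.t1
      calc t = n⁻¹ * (n * t * n⁻¹) * n := by group
        _ = 1 := by rw [h4]; group
  refine ⟨hqt, n, hn, fun x hx => F.conj_X hn hx, fun x hx => ?_, ?_, hnt⟩
  · have := F.conj_X (inv_mem hn) hx
    rwa [inv_inv] at this
  · obtain ⟨b, hb, x, hx, h2⟩ := key n hn t F.tQ
    have h3 : (n * t * n⁻¹) * (n * t * n⁻¹) = 1 := by
      calc n * t * n⁻¹ * (n * t * n⁻¹) = n * (t * t) * n⁻¹ := by group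
        _ = 1 := by rw [F.tt]; group
    have h4 : b * b = 1 := by rw [← sq b hb x hx, ← h2]; exact h3
    have h5 : b ≠ 1 := by
      rintro rfl
      rw [one_mul] at h2
      exact F.not_conj n (by rw [h2]; exact hx)
    have h6 := F.uniq hb h4 h5
    rw [h2, h6, ← mul_assoc, F.tt, one_mul]
    exact hx

end FusFacts

end Cfsg.Agent.OddHalf.D7Ex.Fus
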