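import Cfsg.Agent.KFacts.RgdRigid
import Cfsg.Agent.Nodes.Sub

/-!
# ODD D7, `q = 2`: automorphisms of Levi factors (helper57)

* `inner_of_fix` : an automorphism of a group with a root group datum (`|X_i| = 2`) which fixes `U` and all minimal
  parabolic subgroups is inner; `exists_sym` : in general it induces a symmetry of the diagram;
* `Act L Q g` : `g` acts on `L Q / Q`; `Act.inner`, `Act.sym` : the same for this action.
-/

set_option autoImplicit false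
set_option linter.unusedSectionVars false

namespace Cfsg.Agent.OddHalf.D7Ex.GamAut

open CoxeterSystem Cfsg.Agent.ChevalleyStructure.CoxeterGeom Cfsg.Agent.Tits.Roots Cfsg.Agent.Tits.Core
  Cfsg.Agent.Tits.Exchange Cfsg.Agent.Nodes.Reps Cfsg.Agent.Nodes.BNOf Cfsg.Agent.Nodes.StabComb
  Cfsg.Agent.Nodes.Bruhat Cfsg.Agent.Nodes.OppDec Cfsg.Agent.Nodes.LeviDec Cfsg.Agent.Nodes.NormalForm
  Cfsg.Agent.Nodes.RGDLib
  Cfsg.Agent.KFacts.RgdOpp Cfsg.Agent.KFacts.RgdAut Cfsg.Agent.KFacts.RgdDiag Cfsg.Agent.KFacts.RgdRigid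
open scoped commutatorElement

variable {I W Y : Type*} [Fintype I] [DecidableEq I] [Group W] [Group Y] {M : CoxeterMatrix I}
  {cs : CoxeterSystem M W} {A : I → I → ℤ} {h : IsCartan M A} {p : ℕ} {T : Subgroup Y} {n : I → Y}
  {X : (I → ℤ) → Subgroup Y}

theorem X_neg_le_PJ (i : I) : X (-sr i) ≤ PJ cs h T X {i} := by
  refine le_trans (X_le_LJ (T := T) (RootsJ.neg ?_)) LJ_le_PJ
  exact PosJ_subset _ (sr_mem_PosJ rfl)

/-- the permutation of the diagram -/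
theorem exists_sym [Finite W] (R : RGD cs h p T n X) (hG1 : RGD.Sup X {x | IsRoot cs h x} = ⊤) {α : MulAut Y}
    (hU : Fix α (RGD.Sup X (RGD.Pos cs h))) :
    ∃ σ : Equiv.Perm I, (∀ i, ∀ x ∈ X (-sr i), α x ∈ PJ cs h T X {σ i}) ∧
      (∀ i j, (∃ x ∈ X (-sr i), x ≠ 1 ∧ α x ∈ PJ cs h T X {j}) → σ i = j) ∧
      ∀ i j, M (σ i) (σ j) = M i j := by
  obtain ⟨u, hu, hβU, -, hβN, -, -⟩ := exists_frame R (GG_eq_top hG1) hU
  obtain ⟨σ, D⟩ := exists_diag R (GG_eq_top hG1) hβU hβN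
  have e : ∀ x, α x = u⁻¹ * (MulAut.conj u * α) x * u := by
    intro x
    rw [MulAut.mul_apply, MulAut.conj_apply]; group
  have e' : ∀ x, (MulAut.conj u * α) x = u * α x * u⁻¹ := fun x => by
    rw [MulAut.mul_apply, MulAut.conj_apply]
  have huP : ∀ j, u ∈ PJ cs h T X {j} := fun j => B_le_PJ (RGD.U_le_B hu)
  refine ⟨σ, fun i x hx => ?_, ?_, fun i j => D.matrix (R := R) i j⟩
  · rw [e]
    exact mul_mem (mul_mem (inv_mem (huP _)) (X_neg_le_PJ _ ((D.neg i x).2 hx))) (huP _)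
  · rintro i j ⟨x, hx, hx1, hxj⟩
    by_contra hne
    have h1 : (MulAut.conj u * α) x ∈ X (-sr (σ i)) := (D.neg i x).2 hx
    have h2 : (MulAut.conj u * α) x ∈ PJ cs h T X {j} := by
      rw [e']
      exact mul_mem (mul_mem (huP _) hxj) (inv_mem (huP _))
    have h3 : (MulAut.conj u * α) x ∈ X (-sr j) := by
      rw [← X_neg_sr_eq R]
      exact ⟨X_le_UN (isRoot_sr cs h _).neg (neg_nonpos.2 (sr_nonneg _)) h1, h2⟩
    have h4 := X_inf_X R (isRoot_sr cs h (σ i)).neg (isRoot_sr cs h j).neg (by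
      intro h5
      have h6 := congrFun (neg_injective h5) j
      rw [sr_self, sr_ne (fun e => hne e.symm)] at h6
      exact absurd h6 (by decide))
    have h5 : (MulAut.conj u * α) x = 1 := by
      rw [Subgroup.eq_bot_iff_forall] at h4
      exact h4 _ ⟨h1, h3⟩
    exact hx1 ((MulAut.conj u * α).injective (by rw [h5, map_one]))

/-- **rigidity** for root groups of order `2` -/
theorem inner_of_fix [Finite W] (R : RGD cs h p T n X) (hG1 : RGD.Sup X {x | IsRoot cs h x} = ⊤)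
    (h2 : ∀ i, ∀ x ∈ X (sr i), ∀ y ∈ X (sr i), x ≠ 1 → y ≠ 1 → x = y) {α : MulAut Y}
    (hU : Fix α (RGD.Sup X (RGD.Pos cs h)))
    (hP : ∀ i, ∀ x ∈ X (-sr i), α x ∈ PJ cs h T X {i}) :
    ∃ u ∈ RGD.Sup X (RGD.Pos cs h), ∀ x, α x = u * x * u⁻¹ := by
  obtain ⟨u, hu, hβU, -, hβN, -, -⟩ := exists_frame R (GG_eq_top hG1) hU
  obtain ⟨σ, D⟩ := exists_diag R (GG_eq_top hG1) hβU hβN
  have e' : ∀ x, (MulAut.conj u * α) x = u * α x * u⁻¹ := fun x => by
    rw [MulAut.mul_apply, MulAut.conj_apply]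
  have huP : ∀ j, u ∈ PJ cs h T X {j} := fun j => B_le_PJ (RGD.U_le_B hu)
  have hσ : σ = 1 := by
    ext i
    show σ i = i
    by_contra hne
    obtain ⟨⟨x, hx⟩, hx1⟩ := Subgroup.ne_bot_iff_exists_ne_one.1 (X_ne_bot R (isRoot_sr cs h i).neg)
    have h1 : (MulAut.conj u * α) x ∈ X (-sr (σ i)) := (D.neg i x).2 hx
    have h2 : (MulAut.conj u * α) x ∈ PJ cs h T X {i} := by
      rw [e']
      exact mul_mem (mul_mem (huP _) (hP i x hx)) (inv_mem (huP _))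
    have h3 : (MulAut.conj u * α) x ∈ X (-sr i) := by
      rw [← X_neg_sr_eq R]
      exact ⟨X_le_UN (isRoot_sr cs h _).neg (neg_nonpos.2 (sr_nonneg _)) h1, h2⟩
    have h4 := X_inf_X R (isRoot_sr cs h (σ i)).neg (isRoot_sr cs h i).neg (by
      intro h5
      have h6 := congrFun (neg_injective h5) i
      rw [sr_self, sr_ne (fun e => hne e.symm)] at h6
      exact absurd h6 (by decide))
    have h5 : (MulAut.conj u * α) x = 1 := by
      rw [Subgroup.eq_bot_iff_forall] at h4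
      exact h4 _ ⟨h1, h3⟩
    exact hx1 (Subtype.ext ((MulAut.conj u * α).injective (h5.trans (map_one (MulAut.conj u * α)).symm)))
  subst hσ
  have h3 : MulAut.conj u * α = 1 := by
    refine Diag.eq_one R hG1 D fun i x hx => ?_
    have h4 : (MulAut.conj u * α) x ∈ X (sr i) := (D.pos i x).2 hx
    by_cases hx1 : x = 1
    · rw [hx1, map_one]
    · refine h2 i _ h4 x hx (fun h5 => hx1 ((MulAut.conj u * α).injective (by rw [h5, map_one]))) hx1
  refine ⟨u⁻¹, inv_mem hu, fun x => ?_⟩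
  have h4 : (MulAut.conj u * α) x = x := by rw [h3]; rfl
  rw [e'] at h4
  rw [inv_inv]
  calc α x = u⁻¹ * (u * α x * u⁻¹) * u := by group
    _ = _ := by rw [h4]

/-! ### The action on `L Q / Q` -/

/-- `g` acts on `L Q / Q` -/
structure Act (L Q : Subgroup Y) (g : Y) : Prop where
  nQ : ∀ l ∈ L, ∀ q ∈ Q, l * q * l⁻¹ ∈ Q
  inf : ∀ x ∈ L, x ∈ Q → x = 1
  gQ : ∀ q, g * q * g⁻¹ ∈ Q ↔ q ∈ Q
  gL : ∀ l ∈ L, ∃ l' ∈ L, ∃ q ∈ Q, g * l * g⁻¹ = l' * q

namespace Act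

variable {L Q : Subgroup Y} {g : Y}

theorem unique (H : Act L Q g) {l l' q q' : Y} (hl : l ∈ L) (hl' : l' ∈ L) (hq : q ∈ Q) (hq' : q' ∈ Q)
    (e : l * q = l' * q') : l = l' := by
  have h1 : l'⁻¹ * l = q' * q⁻¹ := by
    calc l'⁻¹ * l = l'⁻¹ * (l * q) * q⁻¹ := by group
      _ = q' * q⁻¹ := by rw [e]; group
  have h2 := H.inf (l'⁻¹ * l) (mul_mem (inv_mem hl') hl) (by rw [h1]; exact mul_mem hq' (inv_mem hq))
  exact (inv_mul_eq_one.1 h2).symm

/-- the action -/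
noncomputable def fn (H : Act L Q g) (l : ↥L) : ↥L :=
  ⟨(H.gL l l.2).choose, (H.gL l l.2).choose_spec.1⟩

theorem fn_spec (H : Act L Q g) (l : ↥L) : ∃ q ∈ Q, g * (l : Y) * g⁻¹ = (H.fn l : Y) * q :=
  (H.gL l l.2).choose_spec.2

theorem fn_eq (H : Act L Q g) {l l' : ↥L} {q : Y} (hq : q ∈ Q) (e : g * (l : Y) * g⁻¹ = (l' : Y) * q) :
    H.fn l = l' := by
  obtain ⟨q', hq', e'⟩ := H.fn_spec l
  exact Subtype.ext (H.unique (H.fn l).2 l'.2 hq' hq (e'.symm.trans e))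

/-- the action as a homomorphism -/
noncomputable def hom (H : Act L Q g) : ↥L →* ↥L where
  toFun := H.fn
  map_one' := H.fn_eq (one_mem Q) (by
    show g * 1 * g⁻¹ = 1 * 1
    group)
  map_mul' a b := by
    obtain ⟨q, hq, e⟩ := H.fn_spec a
    obtain ⟨q', hq', e'⟩ := H.fn_spec b
    refine H.fn_eq (q := ((H.fn b : Y)⁻¹ * q * (H.fn b : Y)) * q') (mul_mem ?_ hq') ?_
    · have := H.nQ _ (inv_mem (H.fn b).2) q hq
      rwa [inv_inv] at this
    · show g * ((a : Y) * (b : Y)) * g⁻¹ = ((H.fn a : Y) * (H.fn b : Y)) * _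
      calc g * ((a : Y) * (b : Y)) * g⁻¹ = (g * (a : Y) * g⁻¹) * (g * (b : Y) * g⁻¹) := by group
        _ = ((H.fn a : Y) * q) * ((H.fn b : Y) * q') := by rw [e, e']
        _ = _ := by group

theorem hom_injective (H : Act L Q g) : Function.Injective H.hom := by
  rw [injective_iff_map_eq_one]
  intro a ha
  obtain ⟨q, hq, e⟩ := H.fn_spec a
  have h1 : H.fn a = 1 := ha
  rw [h1] at e
  have h2 : g * (a : Y) * g⁻¹ ∈ Q := by
    rw [e]
    show (1 : Y) * q ∈ Q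
    rwa [one_mul]
  exact Subtype.ext (H.inf a a.2 ((H.gQ a).1 h2))

/-- the action as an automorphism -/
noncomputable def aut [Finite Y] (H : Act L Q g) : MulAut ↥L :=
  MulEquiv.ofBijective H.hom (Finite.injective_iff_bijective.1 H.hom_injective)

theorem aut_spec [Finite Y] (H : Act L Q g) (l : ↥L) : ∃ q ∈ Q, g * (l : Y) * g⁻¹ = (H.aut l : Y) * q := H.fn_spec l

end Act

/-! ### The minimal parabolic subgroups -/

theorem mem_RootsJ_singleton {i : I} {x : I → ℤ} (hx : x ∈ RootsJ cs h {i}) : x = sr i ∨ x = -sr i := by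
  rcases hx.1.pos_or_neg with h1 | h1
  · exact Or.inl (hx.1.eq_sr h1 i fun k hk => hx.2 k hk)
  · right
    have h2 := hx.1.neg.eq_sr (neg_nonneg.2 h1) i fun k hk => by rw [Pi.neg_apply, hx.2 k hk, neg_zero]
    rw [← h2, neg_neg]

theorem PJ_singleton (i : I) : PJ cs h T X {i} = T ⊔ (RGD.Sup X (RGD.Pos cs h) ⊔ X (-sr i)) := by
  apply le_antisymm
  · refine sup_le (sup_le le_sup_left (RGD.Sup_le fun x hx => ?_)) ((VJ_le_U _).trans (le_sup_left.trans le_sup_right))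
    rcases mem_RootsJ_singleton hx with rfl | rfl
    · exact (RGD.le_Sup (S := RGD.Pos cs h) ⟨isRoot_sr cs h i, sr_nonneg i⟩).trans (le_sup_left.trans le_sup_right)
    · exact le_sup_right.trans le_sup_right
  · refine sup_le (T_le_LJ.trans LJ_le_PJ) (sup_le (RGD.U_le_B.trans B_le_PJ) (X_neg_le_PJ i))

/-- the group generated by the root groups -/
def LL (cs : CoxeterSystem M W) (h : IsCartan M A) (X : (I → ℤ) → Subgroup Y) : Subgroup Y :=
  RGD.Sup X {x | IsRoot cs h x}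

/-- `U` -/
def UU (cs : CoxeterSystem M W) (h : IsCartan M A) (X : (I → ℤ) → Subgroup Y) : Subgroup Y :=
  RGD.Sup X (RGD.Pos cs h)

/-- the minimal parabolic subgroup (`T = 1`) -/
def PI (cs : CoxeterSystem M W) (h : IsCartan M A) (X : (I → ℤ) → Subgroup Y) (i : I) :
    Subgroup Y := UU cs h X ⊔ X (-sr i)

theorem X_le_LL {x : I → ℤ} (hx : IsRoot cs h x) : X x ≤ LL cs h X := RGD.le_Sup (S := {x | IsRoot cs h x}) hx

theorem UU_le_LL : UU cs h X ≤ LL cs h X := RGD.Sup_le fun _ hx => X_le_LL hx.1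

theorem PI_le_LL (i : I) : PI cs h X i ≤ LL cs h X := sup_le UU_le_LL (X_le_LL (isRoot_sr cs h i).neg)

theorem mem_sup_iff {L Q S : Subgroup Y} (nQ : ∀ l ∈ L, ∀ q ∈ Q, l * q * l⁻¹ ∈ Q) (hS : S ≤ L) {y : Y} :
    y ∈ S ⊔ Q ↔ ∃ s ∈ S, ∃ q ∈ Q, y = s * q := by
  constructor
  · intro hy
    have h1 : S ≤ Subgroup.normalizer (Q : Set Y) := by
      intro s hs
      rw [Subgroup.mem_normalizer_iff]
      intro q
      refine ⟨fun hq => nQ s (hS hs) q hq, fun hq => ?_⟩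
      have := nQ s⁻¹ (inv_mem (hS hs)) _ hq
      have e : s⁻¹ * (s * q * s⁻¹) * s⁻¹⁻¹ = q := by group
      rwa [e] at this
    have h2 : y ∈ ((S ⊔ Q : Subgroup Y) : Set Y) := hy
    rw [Subgroup.coe_mul_of_left_le_normalizer_right _ _ h1, Set.mem_mul] at h2
    obtain ⟨s, hs, q, hq, e⟩ := h2
    exact ⟨s, hs, q, hq, e.symm⟩
  · rintro ⟨s, hs, q, hq, rfl⟩
    exact mul_mem (Subgroup.mem_sup_left hs) (Subgroup.mem_sup_right hq)

theorem Sup_subgroupOf {K : Subgroup Y} {S : Set (I → ℤ)} (hX : ∀ x ∈ S, X x ≤ K) :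
    RGD.Sup (fun x => (X x).subgroupOf K) S = (RGD.Sup X S).subgroupOf K :=
  (iSup_subgroupOf (K := K) (fun z : S => X z.1) (fun z => hX z.1 z.2)).symm

/-- `n i` lies in the group generated by the root groups if `T = 1` -/
theorem n_mem_LL (R : RGD cs h p T n X) (hT : T = ⊥) (i : I) : n i ∈ LL cs h X := by
  obtain ⟨t, ht, a, ha, v, hv, b, hb, e⟩ := exists_n_eq R i
  rw [hT, Subgroup.mem_bot] at ht
  subst ht
  rw [e, one_mul]
  exact mul_mem (mul_mem (X_le_LL (isRoot_sr cs h i) ha) (X_le_LL (isRoot_sr cs h i).neg hv))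
    (X_le_LL (isRoot_sr cs h i) hb)

theorem top_L : RGD.Sup (fun x => (X x).subgroupOf (LL cs h X)) {x | IsRoot cs h x} = ⊤ := by
  have h1 := Sup_subgroupOf (X := X) (K := LL cs h X) (S := {x | IsRoot cs h x}) fun x hx => X_le_LL hx
  rw [h1]
  exact Subgroup.subgroupOf_self _

theorem U_L : RGD.Sup (fun x => (X x).subgroupOf (LL cs h X)) (RGD.Pos cs h) = (UU cs h X).subgroupOf (LL cs h X) :=
  Sup_subgroupOf fun _ hx => X_le_LL hx.1

theorem PJ_L (hT : T = ⊥) (i : I) :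
    PJ cs h (T.subgroupOf (LL cs h X)) (fun x => (X x).subgroupOf (LL cs h X)) {i} =
      (PI cs h X i).subgroupOf (LL cs h X) := by
  rw [PJ_singleton, U_L, hT, Subgroup.bot_subgroupOf, bot_sup_eq]
  exact (Subgroup.subgroupOf_sup UU_le_LL (X_le_LL (isRoot_sr cs h i).neg)).symm

section RGD

variable [Finite Y] [Finite W] (R : RGD cs h p T n X) (hT : T = ⊥) {Q : Subgroup Y} {g : Y}
  (H : Act (LL cs h X) Q g)

include H in
/-- membership in `S Q` for the image of an element -/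
theorem mem_aut {S : Subgroup Y} (hS : S ≤ LL cs h X) (l : ↥(LL cs h X)) :
    g * (l : Y) * g⁻¹ ∈ S ⊔ Q ↔ (H.aut l : Y) ∈ S := by
  obtain ⟨q, hq, e⟩ := H.aut_spec l
  rw [mem_sup_iff H.nQ hS]
  constructor
  · rintro ⟨s, hs, q', hq', e'⟩
    have := H.unique (H.aut l).2 (hS hs) hq hq' (e.symm.trans e')
    rwa [this]
  · intro h1
    exact ⟨_, h1, q, hq, e⟩

include H in
theorem fix_U (hU : ∀ x ∈ UU cs h X, g * x * g⁻¹ ∈ UU cs h X ⊔ Q) :
    Fix H.aut (RGD.Sup (fun x => (X x).subgroupOf (LL cs h X)) (RGD.Pos cs h)) := by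
  rw [U_L]
  have h1 : ∀ x ∈ (UU cs h X).subgroupOf (LL cs h X), H.aut x ∈ (UU cs h X).subgroupOf (LL cs h X) := by
    intro x hx
    rw [Subgroup.mem_subgroupOf] at hx ⊢
    exact (mem_aut H UU_le_LL x).1 (hU _ hx)
  have hinj : Function.Injective (fun x : ↥((UU cs h X).subgroupOf (LL cs h X)) =>
      (⟨H.aut x.1, h1 _ x.2⟩ : ↥((UU cs h X).subgroupOf (LL cs h X)))) := by
    intro x y hxy
    exact Subtype.ext (H.aut.injective (congrArg Subtype.val hxy))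
  intro x
  refine ⟨fun hx => ?_, h1 x⟩
  obtain ⟨y, hy⟩ := Finite.surjective_of_injective hinj ⟨H.aut x, hx⟩
  have h2 : H.aut y.1 = H.aut x := congrArg Subtype.val hy
  rw [← H.aut.injective h2]
  exact y.2

include R hT H

/-- **the permutation of the diagram** -/
theorem Act.sym (hU : ∀ x ∈ UU cs h X, g * x * g⁻¹ ∈ UU cs h X ⊔ Q) :
    ∃ σ : Equiv.Perm I, (∀ i, ∀ x ∈ PI cs h X i, g * x * g⁻¹ ∈ PI cs h X (σ i) ⊔ Q) ∧
      (∀ i j, (∀ x ∈ X (-sr i), g * x * g⁻¹ ∈ PI cs h X j ⊔ Q) → σ i = j) ∧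
      ∀ i j, M (σ i) (σ j) = M i j := by
  have R' := rgd_restrict R (LL cs h X) (fun x hx => X_le_LL hx) (n_mem_LL R hT)
  obtain ⟨σ, h1, h2, h3⟩ := exists_sym R' top_L (fix_U H hU)
  refine ⟨σ, fun i => ?_, fun i j hij => ?_, h3⟩
  · have hle : PI cs h X i ≤ (PI cs h X (σ i) ⊔ Q).comap (MulAut.conj g).toMonoidHom := by
      refine sup_le (fun x hx => ?_) fun x hx => ?_
      · exact (sup_le_sup_right le_sup_left Q : UU cs h X ⊔ Q ≤ PI cs h X (σ i) ⊔ Q) (hU x hx)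
      · have hxL := X_le_LL (isRoot_sr cs h i).neg hx
        refine (mem_aut H (PI_le_LL (σ i)) ⟨x, hxL⟩).2 ?_
        have := h1 i ⟨x, hxL⟩ (Subgroup.mem_subgroupOf.2 hx)
        rwa [PJ_L hT, Subgroup.mem_subgroupOf] at this
    exact fun x hx => hle hx
  · obtain ⟨⟨x, hx⟩, hx1⟩ := Subgroup.ne_bot_iff_exists_ne_one.1 (X_ne_bot R (isRoot_sr cs h i).neg)
    have hxL := X_le_LL (isRoot_sr cs h i).neg hx
    refine h2 i j ⟨⟨x, hxL⟩, Subgroup.mem_subgroupOf.2 hx, fun h0 => hx1 (Subtype.ext ?_), ?_⟩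
    · exact congrArg (Subtype.val : ↥(LL cs h X) → Y) h0
    rw [PJ_L hT, Subgroup.mem_subgroupOf]
    exact (mem_aut H (PI_le_LL j) ⟨x, hxL⟩).1 (hij x hx)

/-- **rigidity** -/
theorem Act.inner (hU : ∀ x ∈ UU cs h X, g * x * g⁻¹ ∈ UU cs h X ⊔ Q)
    (hP : ∀ i, ∀ x ∈ X (-sr i), g * x * g⁻¹ ∈ PI cs h X i ⊔ Q)
    (h2 : ∀ i, ∀ x ∈ X (sr i), ∀ y ∈ X (sr i), x ≠ 1 → y ≠ 1 → x = y) :
    ∃ u ∈ UU cs h X, ∀ l ∈ LL cs h X, ∃ q ∈ Q, g * l * g⁻¹ = (u * l * u⁻¹) * q := by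
  have R' := rgd_restrict R (LL cs h X) (fun x hx => X_le_LL hx) (n_mem_LL R hT)
  obtain ⟨u, hu, e⟩ := inner_of_fix R' top_L (fun i x hx y hy hx1 hy1 => Subtype.ext
    (h2 i x (Subgroup.mem_subgroupOf.1 hx) y (Subgroup.mem_subgroupOf.1 hy)
      (fun h0 => hx1 (Subtype.ext h0)) (fun h0 => hy1 (Subtype.ext h0)))) (fix_U H hU) (fun i x hx => by
    rw [PJ_L hT, Subgroup.mem_subgroupOf]
    exact (mem_aut H (PI_le_LL i) x).1 (hP i x (Subgroup.mem_subgroupOf.1 hx)))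
  rw [U_L, Subgroup.mem_subgroupOf] at hu
  refine ⟨u, hu, fun l hl => ?_⟩
  obtain ⟨q, hq, e'⟩ := H.aut_spec ⟨l, hl⟩
  refine ⟨q, hq, ?_⟩
  rw [e ⟨l, hl⟩] at e'
  exact e'

end RGD

end Cfsg.Agent.OddHalf.D7Ex.GamAut
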