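import Mathlib

/-!
# Existence of the doubled root group (ODD D7, helper657; text: helper763 #6693, helper118 #7489, helper350)

`t` an involution, `X = Z(Q)` a long root group of `K ≤ C_G(t)`, `P = QL` the group generated by the 2-elements of
`C_K(X)` (or `O²` of it), `H ≤ N_K(X)` a torus.

If some `n` normalising `X` moves `t` to `tz`, `1 ≠ z ∈ X` (and acts on `P/Q` as an inner automorphism if `q = 2`), then
for every `x ∈ X` there is `b ∈ C_G(P)` with `b t b⁻¹ = t x`.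
-/

set_option autoImplicit false

namespace Cfsg.Agent.OddHalf.D7Ex

open Subgroup
open scoped commutatorElement

variable {G : Type*} [Group G]

/-- A 2-element commuting with `P` on `Q/X` is trivial there. -/
def Lin (X Q P : Subgroup G) : Prop :=
  ∀ n : G, IsPGroup 2 (zpowers n) → (∀ q ∈ Q, n * q * n⁻¹ ∈ Q) → (∀ x ∈ X, n * x * n⁻¹ ∈ X) →
    (∀ p ∈ P, n * p * n⁻¹ * p⁻¹ ∈ Q) → ∀ q ∈ Q, n * q * n⁻¹ * q⁻¹ ∈ X

/-- The local hypotheses. -/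
structure Setup (t : G) (X Q P H : Subgroup G) : Prop where
  tt : t * t = 1
  tX : t ∉ X
  X2 : ∀ x ∈ X, x * x = 1
  XQ : X ≤ Q
  QP : Q ≤ P
  tP : ∀ p ∈ P, t * p = p * t
  XP : ∀ x ∈ X, ∀ p ∈ P, x * p = p * x
  PQ : ∀ p ∈ P, ∀ q ∈ Q, p * q * p⁻¹ ∈ Q
  tH : ∀ h ∈ H, t * h = h * t
  HX : ∀ h ∈ H, ∀ x ∈ X, h * x * h⁻¹ ∈ X
  /-- an element normalising `X` and `t X` normalises `P` and `Q` -/
  nP : ∀ n : G, (∀ x ∈ X, n * x * n⁻¹ ∈ X) → t * (n * t * n⁻¹) ∈ X →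
    (∀ p ∈ P, n * p * n⁻¹ ∈ P) ∧ (∀ q ∈ Q, n * q * n⁻¹ ∈ Q)
  XQQ : X ≤ ⁅Q, Q⁆
  QQ : ∀ v ∈ Q, ∀ w ∈ Q, v * w * v⁻¹ * w⁻¹ ∈ X
  ZQ : ∀ q ∈ Q, (∀ v ∈ Q, q * v = v * q) → q ∈ X
  /-- `H^0(P, Hom(Q/X, X) / Inn Q) = 0` -/
  E2 : ∀ f : G → G, (∀ v ∈ Q, f v ∈ X) → (∀ v ∈ Q, ∀ w ∈ Q, f (v * w) = f v * f w) → (∀ x ∈ X, f x = 1) →
    (∀ p ∈ P, ∃ q ∈ Q, ∀ v ∈ Q, f (p * v * p⁻¹) = f v * (q * v * q⁻¹ * v⁻¹)) →
    ∃ q ∈ Q, ∀ v ∈ Q, f v = q * v * q⁻¹ * v⁻¹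
  /-- `P` has no homomorphism onto a group of order 2 -/
  noh : ∀ f : P →* X, ∀ p, f p = 1

namespace Setup

variable {t : G} {X Q P H : Subgroup G}

theorem t_inv (S : Setup t X Q P H) : t⁻¹ = t := inv_eq_of_mul_eq_one_left S.tt

theorem comm_X (S : Setup t X Q P H) {x y : G} (hx : x ∈ X) (hy : y ∈ X) : x * y = y * x :=
  S.XP x hx y (S.QP (S.XQ hy))

theorem tx (S : Setup t X Q P H) {x : G} (hx : x ∈ X) : t * x = x * t := S.tP x (S.QP (S.XQ hx))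

theorem inv_X (S : Setup t X Q P H) {x : G} (hx : x ∈ X) : x⁻¹ = x := inv_eq_of_mul_eq_one_left (S.X2 x hx)

/-- The normaliser of `X` and of `t X`. -/
def N (S : Setup t X Q P H) : Subgroup G where
  carrier := {n | (∀ x ∈ X, n * x * n⁻¹ ∈ X) ∧ (∀ x ∈ X, n⁻¹ * x * n ∈ X) ∧ t * (n * t * n⁻¹) ∈ X}
  one_mem' := ⟨fun x hx => by simpa using hx, fun x hx => by simpa using hx, by
    rw [one_mul, inv_one, mul_one, S.tt]; exact one_mem _⟩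
  mul_mem' := by
    rintro a b ⟨ha1, ha2, ha3⟩ ⟨hb1, hb2, hb3⟩
    refine ⟨fun x hx => ?_, fun x hx => ?_, ?_⟩
    · have := ha1 _ (hb1 x hx)
      have e : a * b * x * (a * b)⁻¹ = a * (b * x * b⁻¹) * a⁻¹ := by group
      rwa [e]
    · have := hb2 _ (ha2 x hx)
      have e : (a * b)⁻¹ * x * (a * b) = b⁻¹ * (a⁻¹ * x * a) * b := by group
      rwa [e]
    · have h1 := mul_mem ha3 (ha1 _ hb3)
      have e : t * (a * b * t * (a * b)⁻¹) = t * (a * t * a⁻¹) * (a * (t * (b * t * b⁻¹)) * a⁻¹) := by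
        calc t * (a * b * t * (a * b)⁻¹) = t * a * 1 * b * t * b⁻¹ * a⁻¹ := by group
          _ = t * a * (t * t) * b * t * b⁻¹ * a⁻¹ := by rw [S.tt]
          _ = _ := by group
      rwa [e]
  inv_mem' := by
    rintro a ⟨ha1, ha2, ha3⟩
    refine ⟨fun x hx => by simpa using ha2 x hx, fun x hx => by simpa using ha1 x hx, ?_⟩
    have h1 := inv_mem (ha2 _ ha3)
    have e : t * (a⁻¹ * t * a⁻¹⁻¹) = (a⁻¹ * (t * (a * t * a⁻¹)) * a)⁻¹ := by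
      calc t * (a⁻¹ * t * a⁻¹⁻¹) = t⁻¹ * (a⁻¹ * t⁻¹ * a) := by rw [S.t_inv, inv_inv]
        _ = _ := by group
    rwa [e]

theorem mem_N (S : Setup t X Q P H) {n : G} :
    n ∈ S.N ↔ (∀ x ∈ X, n * x * n⁻¹ ∈ X) ∧ (∀ x ∈ X, n⁻¹ * x * n ∈ X) ∧ t * (n * t * n⁻¹) ∈ X := Iff.rfl

theorem N_P (S : Setup t X Q P H) {n : G} (hn : n ∈ S.N) {p : G} (hp : p ∈ P) : n * p * n⁻¹ ∈ P :=
  (S.nP n hn.1 hn.2.2).1 p hp

theorem N_Q (S : Setup t X Q P H) {n : G} (hn : n ∈ S.N) {q : G} (hq : q ∈ Q) : n * q * n⁻¹ ∈ Q :=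
  (S.nP n hn.1 hn.2.2).2 q hq

/-- The elements of `N` trivial on `P/Q`. -/
def C4 (S : Setup t X Q P H) : Subgroup G where
  carrier := {n | n ∈ S.N ∧ ∀ p ∈ P, n * p * n⁻¹ * p⁻¹ ∈ Q}
  one_mem' := ⟨one_mem _, fun p _ => by
    rw [one_mul, inv_one, mul_one, mul_inv_cancel]; exact one_mem _⟩
  mul_mem' := by
    rintro a b ⟨ha, ha2⟩ ⟨hb, hb2⟩
    refine ⟨mul_mem ha hb, fun p hp => ?_⟩
    have h1 := mul_mem (S.N_Q ha (hb2 p hp)) (ha2 p hp)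
    have e : a * b * p * (a * b)⁻¹ * p⁻¹ = a * (b * p * b⁻¹ * p⁻¹) * a⁻¹ * (a * p * a⁻¹ * p⁻¹) := by group
    rwa [e]
  inv_mem' := by
    rintro a ⟨ha, ha2⟩
    refine ⟨inv_mem ha, fun p hp => ?_⟩
    have h1 := inv_mem (S.N_Q (inv_mem ha) (ha2 p hp))
    have e : a⁻¹ * p * a⁻¹⁻¹ * p⁻¹ = (a⁻¹ * (a * p * a⁻¹ * p⁻¹) * a⁻¹⁻¹)⁻¹ := by group
    rwa [e]

theorem mem_C4 (S : Setup t X Q P H) {n : G} : n ∈ S.C4 ↔ n ∈ S.N ∧ ∀ p ∈ P, n * p * n⁻¹ * p⁻¹ ∈ Q := Iff.rfl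

theorem C4_le (S : Setup t X Q P H) : S.C4 ≤ S.N := fun _ h => h.1

/-- `C4` is normal in `N`. -/
theorem conj_C4 (S : Setup t X Q P H) {n c : G} (hn : n ∈ S.N) (hc : c ∈ S.C4) : n * c * n⁻¹ ∈ S.C4 := by
  refine ⟨mul_mem (mul_mem hn hc.1) (inv_mem hn), fun p hp => ?_⟩
  have h1 := S.N_Q hn (hc.2 _ (S.N_P (inv_mem hn) hp))
  have e : n * c * n⁻¹ * p * (n * c * n⁻¹)⁻¹ * p⁻¹ =
    n * (c * (n⁻¹ * p * n⁻¹⁻¹) * c⁻¹ * (n⁻¹ * p * n⁻¹⁻¹)⁻¹) * n⁻¹ := by group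
  rwa [e]

/-- The elements of `N` trivial on `P/Q` and on `Q/X`. -/
def D (S : Setup t X Q P H) : Subgroup G where
  carrier := {n | n ∈ S.C4 ∧ ∀ q ∈ Q, n * q * n⁻¹ * q⁻¹ ∈ X}
  one_mem' := ⟨one_mem _, fun p _ => by
    rw [one_mul, inv_one, mul_one, mul_inv_cancel]; exact one_mem _⟩
  mul_mem' := by
    rintro a b ⟨ha, ha2⟩ ⟨hb, hb2⟩
    refine ⟨mul_mem ha hb, fun p hp => ?_⟩
    have h1 := mul_mem (ha.1.1 _ (hb2 p hp)) (ha2 p hp)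
    have e : a * b * p * (a * b)⁻¹ * p⁻¹ = a * (b * p * b⁻¹ * p⁻¹) * a⁻¹ * (a * p * a⁻¹ * p⁻¹) := by group
    rwa [e]
  inv_mem' := by
    rintro a ⟨ha, ha2⟩
    refine ⟨inv_mem ha, fun p hp => ?_⟩
    have h1 := inv_mem (ha.1.2.1 _ (ha2 p hp))
    have e : a⁻¹ * p * a⁻¹⁻¹ * p⁻¹ = (a⁻¹ * (a * p * a⁻¹ * p⁻¹) * a)⁻¹ := by group
    rwa [e]

theorem mem_D (S : Setup t X Q P H) {n : G} : n ∈ S.D ↔ n ∈ S.C4 ∧ ∀ q ∈ Q, n * q * n⁻¹ * q⁻¹ ∈ X := Iff.rfl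

theorem D_le (S : Setup t X Q P H) : S.D ≤ S.C4 := fun _ h => h.1

theorem conj_D (S : Setup t X Q P H) {n c : G} (hn : n ∈ S.N) (hc : c ∈ S.D) : n * c * n⁻¹ ∈ S.D := by
  refine ⟨S.conj_C4 hn hc.1, fun q hq => ?_⟩
  have h1 := hn.1 _ (hc.2 _ (S.N_Q (inv_mem hn) hq))
  have e : n * c * n⁻¹ * q * (n * c * n⁻¹)⁻¹ * q⁻¹ =
    n * (c * (n⁻¹ * q * n⁻¹⁻¹) * c⁻¹ * (n⁻¹ * q * n⁻¹⁻¹)⁻¹) * n⁻¹ := by group
  rwa [e]

/-- A 2-element of `C4` lies in `D`. -/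
theorem mem_D_of_two (S : Setup t X Q P H) (hlin : Lin X Q P) {n : G} (hn : n ∈ S.C4)
    (h2 : IsPGroup 2 (zpowers n)) : n ∈ S.D :=
  ⟨hn, hlin n h2 (fun _ hq => S.N_Q hn.1 hq) hn.1.1 hn.2⟩

/-- `D` centralises `X`. -/
theorem D_X (S : Setup t X Q P H) {n : G} (hn : n ∈ S.D) {x : G} (hx : x ∈ X) : n * x = x * n := by
  have hle : ⁅Q, Q⁆ ≤ centralizer ({n} : Set G) := by
    rw [commutator_le]
    intro a ha b hb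
    rw [mem_centralizer_singleton_iff]
    have ha' := hn.2 a ha
    have hb' := hn.2 b hb
    set x := n * a * n⁻¹ * a⁻¹ with hx
    set y := n * b * n⁻¹ * b⁻¹ with hy
    have ea : n * a * n⁻¹ = x * a := by rw [hx]; group
    have eb : n * b * n⁻¹ = y * b := by rw [hy]; group
    have c1 : ∀ q ∈ Q, x * q = q * x := fun q hq => S.XP x ha' q (S.QP hq)
    have c2 : ∀ q ∈ Q, y * q = q * y := fun q hq => S.XP y hb' q (S.QP hq)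
    have e : n * ⁅a, b⁆ * n⁻¹ = ⁅a, b⁆ := by
      have e1 : n * ⁅a, b⁆ * n⁻¹ = (n * a * n⁻¹) * (n * b * n⁻¹) * (n * a * n⁻¹)⁻¹ * (n * b * n⁻¹)⁻¹ := by
        rw [commutatorElement_def]; group
      rw [e1, ea, eb, commutatorElement_def]
      calc x * a * (y * b) * (x * a)⁻¹ * (y * b)⁻¹
          = x * (a * (y * b)) * (a⁻¹ * x⁻¹) * (b⁻¹ * y⁻¹) := by group
        _ = x * (a * (y * b) * a⁻¹) * x⁻¹ * (b⁻¹ * y⁻¹) := by group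
        _ = (a * (y * b) * a⁻¹) * x * x⁻¹ * (b⁻¹ * y⁻¹) := by
          rw [c1 (a * (y * b) * a⁻¹) (mul_mem (mul_mem ha (mul_mem (S.XQ hb') hb)) (inv_mem ha))]
        _ = a * y * (b * a⁻¹ * b⁻¹) * y⁻¹ := by group
        _ = y * (a * (b * a⁻¹ * b⁻¹)) * y⁻¹ := by rw [← c2 a ha]; group
        _ = a * (b * a⁻¹ * b⁻¹) := by
          rw [c2 _ (mul_mem ha (mul_mem (mul_mem hb (inv_mem ha)) (inv_mem hb)))]; group
        _ = a * b * a⁻¹ * b⁻¹ := by group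
    calc ⁅a, b⁆ * n = n * ⁅a, b⁆ * n⁻¹ * n := by rw [e]
      _ = n * ⁅a, b⁆ := by group
  exact (mem_centralizer_singleton_iff.1 (hle (S.XQQ hx))).symm

/-- **Lemma B**: an element of `D` agrees on `t` with an element of `C_G(P)`. -/
theorem exists_cent (S : Setup t X Q P H) {n : G} (hn : n ∈ S.D) :
    ∃ b : G, (∀ p ∈ P, b * p = p * b) ∧ b * t * b⁻¹ = n * t * n⁻¹ := by
  obtain ⟨q, hq, hf⟩ := S.E2 (fun v => n * v * n⁻¹ * v⁻¹) (fun v hv => hn.2 v hv)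
    (by
      intro v hv w hw
      have hx := hn.2 w hw
      have c1 := S.XP _ hx v (S.QP hv)
      calc n * (v * w) * n⁻¹ * (v * w)⁻¹ = (n * v * n⁻¹) * ((n * w * n⁻¹ * w⁻¹) * v⁻¹) := by group
        _ = (n * v * n⁻¹) * (v⁻¹ * (n * w * n⁻¹ * w⁻¹)) := by
          rw [S.XP _ hx v⁻¹ (S.QP (inv_mem hv))]
        _ = n * v * n⁻¹ * v⁻¹ * (n * w * n⁻¹ * w⁻¹) := by group)
    (by
      intro x hx
      show n * x * n⁻¹ * x⁻¹ = 1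
      rw [S.D_X hn hx]; group)
    (by
      intro p hp
      have hq1 := hn.1.2 p hp
      set q1 := n * p * n⁻¹ * p⁻¹ with hq1d
      refine ⟨p⁻¹ * q1 * p, by simpa using S.PQ p⁻¹ (inv_mem hp) q1 hq1, fun v hv => ?_⟩
      have hxv := hn.2 v hv
      set x := n * v * n⁻¹ * v⁻¹ with hxd
      have e1 : n * p = q1 * p * n := by rw [hq1d]; group
      have e2 : n * v = x * v * n := by rw [hxd]; group
      have c1 : ∀ p ∈ P, x * p = p * x := fun p hp => S.XP x hxv p hp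
      have hq1P := S.QP hq1
      calc n * (p * v * p⁻¹) * n⁻¹ * (p * v * p⁻¹)⁻¹
          = (n * p) * v * (n * p)⁻¹ * (p * v * p⁻¹)⁻¹ := by group
        _ = q1 * p * (n * v) * n⁻¹ * p⁻¹ * q1⁻¹ * (p * v * p⁻¹)⁻¹ := by rw [e1]; group
        _ = (q1 * p) * x * v * p⁻¹ * q1⁻¹ * (p * v * p⁻¹)⁻¹ := by rw [e2]; group
        _ = x * (q1 * p) * v * p⁻¹ * q1⁻¹ * (p * v * p⁻¹)⁻¹ := by rw [c1 _ (mul_mem hq1P hp)]
        _ = x * p * ((p⁻¹ * q1 * p) * v * (p⁻¹ * q1 * p)⁻¹ * v⁻¹) * p⁻¹ := by group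
        _ = x * (p * ((p⁻¹ * q1 * p) * v * (p⁻¹ * q1 * p)⁻¹ * v⁻¹) * p⁻¹) := by group
        _ = x * ((p⁻¹ * q1 * p) * v * (p⁻¹ * q1 * p)⁻¹ * v⁻¹) := by
          congr 1
          have h3 : (p⁻¹ * q1 * p) * v * (p⁻¹ * q1 * p)⁻¹ * v⁻¹ ∈ X :=
            S.QQ _ (by simpa using S.PQ p⁻¹ (inv_mem hp) q1 hq1) v hv
          rw [← S.XP _ h3 p hp]; group)
  have hqP := S.QP hq
  -- `b = q⁻¹ n` centralises `Q`
  have hbQ : ∀ v ∈ Q, (q⁻¹ * n) * v * (q⁻¹ * n)⁻¹ = v := by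
    intro v hv
    have h1 : n * v * n⁻¹ = q * v * q⁻¹ := by
      have := hf v hv
      exact mul_right_cancel this
    calc (q⁻¹ * n) * v * (q⁻¹ * n)⁻¹ = q⁻¹ * (n * v * n⁻¹) * q := by group
      _ = v := by rw [h1]; group
  have hbP : ∀ p ∈ P, (q⁻¹ * n) * p * (q⁻¹ * n)⁻¹ * p⁻¹ ∈ X := by
    intro p hp
    have h1 : (q⁻¹ * n) * p * (q⁻¹ * n)⁻¹ * p⁻¹ ∈ Q := by
      have h2 := hn.1.2 p hp
      have e : (q⁻¹ * n) * p * (q⁻¹ * n)⁻¹ * p⁻¹ = q⁻¹ * (n * p * n⁻¹ * p⁻¹) * (p * q * p⁻¹) := by group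
      rw [e]
      exact mul_mem (mul_mem (inv_mem hq) h2) (S.PQ p hp q hq)
    apply S.ZQ _ h1
    intro v hv
    have h2 := hbQ _ (S.PQ p⁻¹ (inv_mem hp) v hv)
    rw [inv_inv] at h2
    have h3 := hbQ v hv
    set b := q⁻¹ * n with hb
    have h4 : b⁻¹ * v * b = v := by
      calc b⁻¹ * v * b = b⁻¹ * (b * v * b⁻¹) * b := by rw [h3]
        _ = v := by group
    calc b * p * b⁻¹ * p⁻¹ * v = (b * p * b⁻¹) * (p⁻¹ * v * p) * p⁻¹ := by group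
      _ = (b * p * b⁻¹) * (b * (p⁻¹ * v * p) * b⁻¹) * p⁻¹ := by rw [h2]
      _ = b * (v * p) * b⁻¹ * p⁻¹ := by group
      _ = (b * v * b⁻¹) * (b * p * b⁻¹ * p⁻¹) := by group
      _ = v * (b * p * b⁻¹ * p⁻¹) := by rw [h3]
  let f : P →* X :=
    { toFun := fun p => ⟨(q⁻¹ * n) * p * (q⁻¹ * n)⁻¹ * (p : G)⁻¹, hbP p p.2⟩
      map_one' := Subtype.ext (by
        show (q⁻¹ * n) * (1 : G) * (q⁻¹ * n)⁻¹ * (1 : G)⁻¹ = 1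
        group)
      map_mul' := by
        rintro ⟨a, ha⟩ ⟨b, hb⟩
        apply Subtype.ext
        show (q⁻¹ * n) * (a * b) * (q⁻¹ * n)⁻¹ * (a * b)⁻¹ =
          ((q⁻¹ * n) * a * (q⁻¹ * n)⁻¹ * a⁻¹) * ((q⁻¹ * n) * b * (q⁻¹ * n)⁻¹ * b⁻¹)
        have h1 := S.XP _ (hbP b hb) a⁻¹ (inv_mem ha)
        calc (q⁻¹ * n) * (a * b) * (q⁻¹ * n)⁻¹ * (a * b)⁻¹
            = ((q⁻¹ * n) * a * (q⁻¹ * n)⁻¹) * (((q⁻¹ * n) * b * (q⁻¹ * n)⁻¹ * b⁻¹) * a⁻¹) := by group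
          _ = _ := by rw [h1]; group }
  refine ⟨q⁻¹ * n, fun p hp => ?_, ?_⟩
  · have h1 := S.noh f ⟨p, hp⟩
    have h2 : (q⁻¹ * n) * p * (q⁻¹ * n)⁻¹ * p⁻¹ = 1 := congrArg Subtype.val h1
    exact eq_of_mul_inv_eq_one (by
      calc q⁻¹ * n * p * (p * (q⁻¹ * n))⁻¹ = (q⁻¹ * n) * p * (q⁻¹ * n)⁻¹ * p⁻¹ := by group
        _ = 1 := h2)
  · have hx : t * (n * t * n⁻¹) ∈ X := hn.1.1.2.2
    have e : n * t * n⁻¹ = t * (t * (n * t * n⁻¹)) := by rw [← mul_assoc, S.tt, one_mul]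
    have c1 : (t * (t * (n * t * n⁻¹))) * q = q * (t * (t * (n * t * n⁻¹))) := by
      rw [mul_assoc, S.XP _ hx q hqP, ← mul_assoc, S.tP q hqP, mul_assoc]
    calc q⁻¹ * n * t * (q⁻¹ * n)⁻¹ = q⁻¹ * ((n * t * n⁻¹) * q) := by group
      _ = q⁻¹ * (q * (n * t * n⁻¹)) := by rw [e, c1]
      _ = n * t * n⁻¹ := by group

end Setup

end Cfsg.Agent.OddHalf.D7Ex
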