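import Mathlib
import Cfsg.Agent.OddHalf.D7Ex.Setup

/-!
# (H3) of THEOREM H (ODD D7, helper875 #8710) from the local hypotheses

`Hyp` (`Hyp.of_setup` : from `D7Ex.Setup`); `h3` : if every element of `C_H(t)` centralising `Q` is in `⟨t⟩X` (`cenQ`), the 2-subgroups of `P` normalised by `P` are in
`Q` (`core`), and `Lin X Q P`, then a 2-subgroup `N` of `C_H(t)` normalised by `C_H(t)` is contained in `Q ∪ tQ`.
Any `K`; only `P`-invariance of `N` is used.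
-/

set_option autoImplicit false

namespace Cfsg.Agent.OddHalf.D7Ex.HThree

open Subgroup
open scoped commutatorElement

variable {G : Type*} [Group G]

theorem mem_closure_comm {Q : Subgroup G} {f : G →* G} (h : ∀ v ∈ Q, ∀ w ∈ Q, f ⁅v, w⁆ = ⁅v, w⁆) :
    ∀ x ∈ ⁅Q, Q⁆, f x = x := by
  intro x hx
  have h1 : ⁅Q, Q⁆ ≤ f.eqLocus (MonoidHom.id G) := by
    rw [commutator_le]
    intro v hv w hw
    exact h v hv w hw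
  exact h1 hx

/-- the local hypotheses used -/
structure Hyp (t : G) (X Q P : Subgroup G) : Prop where
  XQ : X ≤ Q
  QP : Q ≤ P
  tP : ∀ p ∈ P, t * p = p * t
  XP : ∀ x ∈ X, ∀ p ∈ P, x * p = p * x
  PQ : ∀ p ∈ P, ∀ q ∈ Q, p * q * p⁻¹ ∈ Q
  XQQ : X ≤ ⁅Q, Q⁆
  QQ : ∀ v ∈ Q, ∀ w ∈ Q, v * w * v⁻¹ * w⁻¹ ∈ X
  E2 : ∀ f : G → G, (∀ v ∈ Q, f v ∈ X) → (∀ v ∈ Q, ∀ w ∈ Q, f (v * w) = f v * f w) → (∀ x ∈ X, f x = 1) →
    (∀ p ∈ P, ∃ q ∈ Q, ∀ v ∈ Q, f (p * v * p⁻¹) = f v * (q * v * q⁻¹ * v⁻¹)) →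
    ∃ q ∈ Q, ∀ v ∈ Q, f v = q * v * q⁻¹ * v⁻¹

theorem Hyp.of_setup {t : G} {X Q P H0 : Subgroup G} (S : Setup t X Q P H0) : Hyp t X Q P :=
  ⟨S.XQ, S.QP, S.tP, S.XP, S.PQ, S.XQQ, S.QQ, S.E2⟩

/-- **(H3)** -/
theorem h3 {t : G} {X Q P H : Subgroup G} (S : Hyp t X Q P) (hlin : Lin X Q P) (PH : P ≤ H)
    (nor : ∀ h ∈ H, h * t = t * h → (∀ p ∈ P, h * p * h⁻¹ ∈ P) ∧ (∀ q ∈ Q, h * q * h⁻¹ ∈ Q) ∧
      ∀ x ∈ X, h * x * h⁻¹ ∈ X)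
    (cenQ : ∀ c ∈ H, c * t = t * c → (∀ y ∈ Q, c * y = y * c) → c ∈ X ∨ t * c ∈ X)
    (core : ∀ D : Subgroup G, D ≤ P → IsPGroup 2 D → (∀ p ∈ P, ∀ d ∈ D, p * d * p⁻¹ ∈ D) → D ≤ Q)
    (N : Subgroup G) (hNH : N ≤ H) (hNt : ∀ x ∈ N, x * t = t * x) (hN2 : IsPGroup 2 N)
    (hN : ∀ h ∈ H, h * t = t * h → ∀ x ∈ N, h * x * h⁻¹ ∈ N) : ∀ x ∈ N, x ∈ Q ∨ t * x ∈ Q := by
  intro n hn
  have hPt : ∀ p ∈ P, p * t = t * p := fun p hp => (S.tP p hp).symm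
  obtain ⟨nP, nQ, nX⟩ := nor n (hNH hn) (hNt n hn)
  -- `[n, P] ≤ Q`
  have h1 : ∀ p ∈ P, n * p * n⁻¹ * p⁻¹ ∈ Q := by
    intro p hp
    have h2 : N ⊓ P ≤ Q := by
      refine core _ inf_le_right (hN2.to_le inf_le_left) fun q hq d hd => ?_
      refine mem_inf.2 ⟨hN q (PH hq) (hPt q hq) d hd.1, mul_mem (mul_mem hq hd.2) (inv_mem hq)⟩
    apply h2
    refine mem_inf.2 ⟨?_, mul_mem (nP p hp) (inv_mem hp)⟩
    have e : n * p * n⁻¹ * p⁻¹ = n * (p * n⁻¹ * p⁻¹) := by group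
    rw [e]
    exact mul_mem hn (hN p (PH hp) (hPt p hp) _ (inv_mem hn))
  -- `[n, Q] ≤ X`
  have hn2 : IsPGroup 2 (zpowers n) := hN2.to_le (zpowers_le.2 hn)
  have h2 : ∀ q ∈ Q, n * q * n⁻¹ * q⁻¹ ∈ X := hlin n hn2 nQ nX h1
  have cX : ∀ x ∈ X, ∀ p ∈ P, x * p = p * x := S.XP
  -- the homomorphism
  obtain ⟨q, hq, hf⟩ := S.E2 (fun v => n * v * n⁻¹ * v⁻¹) h2 (by
    intro v hv w hw
    have e : n * (v * w) * n⁻¹ * (v * w)⁻¹ = n * v * n⁻¹ * (n * w * n⁻¹ * w⁻¹) * v⁻¹ := by group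
    show n * (v * w) * n⁻¹ * (v * w)⁻¹ = n * v * n⁻¹ * v⁻¹ * (n * w * n⁻¹ * w⁻¹)
    rw [e]
    have h3 := cX _ (h2 w hw) v⁻¹ (inv_mem (S.QP hv))
    calc n * v * n⁻¹ * (n * w * n⁻¹ * w⁻¹) * v⁻¹ = n * v * n⁻¹ * ((n * w * n⁻¹ * w⁻¹) * v⁻¹) := by group
      _ = n * v * n⁻¹ * (v⁻¹ * (n * w * n⁻¹ * w⁻¹)) := by rw [h3]
      _ = _ := by group) (by
    intro x hx
    show n * x * n⁻¹ * x⁻¹ = 1
    have h3 := mem_closure_comm (Q := Q) (f := (MulAut.conj n).toMonoidHom) (by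
      intro v hv w hw
      show n * (v * w * v⁻¹ * w⁻¹) * n⁻¹ = v * w * v⁻¹ * w⁻¹
      set a := n * v * n⁻¹ * v⁻¹ with ha
      set b := n * w * n⁻¹ * w⁻¹ with hb
      have haX : a ∈ X := h2 v hv
      have hbX : b ∈ X := h2 w hw
      have e1 : n * v * n⁻¹ = a * v := by rw [ha]; group
      have e2 : n * w * n⁻¹ = b * w := by rw [hb]; group
      have c1 : a * (b * w) = b * w * a := cX a haX _ (mul_mem (S.QP (S.XQ hbX)) (S.QP hw))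
      have c2 : a⁻¹ * (b * w)⁻¹ = (b * w)⁻¹ * a⁻¹ := by rw [← mul_inv_rev, ← mul_inv_rev, c1]
      have c3 : b * v⁻¹ = v⁻¹ * b := cX b hbX _ (inv_mem (S.QP hv))
      have c4 : b * v = v * b := cX b hbX _ (S.QP hv)
      have c5 : a * v = v * a := cX a haX _ (S.QP hv)
      calc n * (v * w * v⁻¹ * w⁻¹) * n⁻¹ = (n * v * n⁻¹) * (n * w * n⁻¹) * (n * v * n⁻¹)⁻¹ * (n * w * n⁻¹)⁻¹ := by
            group
        _ = (a * v) * (b * w) * (a * v)⁻¹ * (b * w)⁻¹ := by rw [e1, e2]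
        _ = (v * a) * (b * w) * (v * a)⁻¹ * (b * w)⁻¹ := by rw [c5]
        _ = v * (a * (b * w)) * a⁻¹ * v⁻¹ * (b * w)⁻¹ := by group
        _ = v * (b * w * a) * a⁻¹ * v⁻¹ * (b * w)⁻¹ := by rw [c1]
        _ = (v * b) * w * v⁻¹ * w⁻¹ * b⁻¹ := by group
        _ = (b * v) * w * v⁻¹ * w⁻¹ * b⁻¹ := by rw [← c4]
        _ = b * (v * w * v⁻¹ * w⁻¹) * b⁻¹ := by group
        _ = (v * w * v⁻¹ * w⁻¹) * b * b⁻¹ := by
          rw [cX b hbX (v * w * v⁻¹ * w⁻¹) (mul_mem (mul_mem (mul_mem (S.QP hv) (S.QP hw)) (inv_mem (S.QP hv)))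
            (inv_mem (S.QP hw)))]
        _ = _ := by group) x (S.XQQ hx)
    have h4 : n * x * n⁻¹ = x := h3
    rw [h4, mul_inv_cancel]) (by
    intro p hp
    have hq0 : p⁻¹ * (n * p * n⁻¹) ∈ Q := by
      have h3 := S.PQ p⁻¹ (inv_mem hp) _ (h1 p hp)
      have e : p⁻¹ * (n * p * n⁻¹ * p⁻¹) * p⁻¹⁻¹ = p⁻¹ * (n * p * n⁻¹) := by group
      rwa [e] at h3
    refine ⟨p⁻¹ * (n * p * n⁻¹), hq0, fun v hv => ?_⟩
    set q0 := p⁻¹ * (n * p * n⁻¹) with hq0d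
    show n * (p * v * p⁻¹) * n⁻¹ * (p * v * p⁻¹)⁻¹ = n * v * n⁻¹ * v⁻¹ * (q0 * v * q0⁻¹ * v⁻¹)
    have e1 : n * p * n⁻¹ = p * q0 := by rw [hq0d]; group
    set a := n * v * n⁻¹ * v⁻¹ with ha
    have haX : a ∈ X := h2 v hv
    have e2 : n * v * n⁻¹ = a * v := by rw [ha]; group
    have hc : q0 * v * q0⁻¹ * v⁻¹ ∈ X := S.QQ q0 hq0 v hv
    calc n * (p * v * p⁻¹) * n⁻¹ * (p * v * p⁻¹)⁻¹
        = (n * p * n⁻¹) * (n * v * n⁻¹) * (n * p * n⁻¹)⁻¹ * p * v⁻¹ * p⁻¹ := by group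
      _ = (p * q0) * (a * v) * (p * q0)⁻¹ * p * v⁻¹ * p⁻¹ := by rw [e1, e2]
      _ = ((p * q0) * a) * v * q0⁻¹ * v⁻¹ * p⁻¹ := by group
      _ = (a * (p * q0)) * v * q0⁻¹ * v⁻¹ * p⁻¹ := by rw [cX a haX _ (mul_mem hp (S.QP hq0))]
      _ = a * (p * (q0 * v * q0⁻¹ * v⁻¹)) * p⁻¹ := by group
      _ = a * ((q0 * v * q0⁻¹ * v⁻¹) * p) * p⁻¹ := by rw [cX _ hc p hp]
      _ = _ := by group)
  -- `c = q⁻¹ n`
  have hqt := hPt q (S.QP hq)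
  have hc : ∀ y ∈ Q, (q⁻¹ * n) * y = y * (q⁻¹ * n) := by
    intro y hy
    have h3 : n * y * n⁻¹ * y⁻¹ = q * y * q⁻¹ * y⁻¹ := hf y hy
    have h4 : n * y * n⁻¹ = q * y * q⁻¹ := mul_right_cancel h3
    calc (q⁻¹ * n) * y = q⁻¹ * (n * y * n⁻¹) * n := by group
      _ = q⁻¹ * (q * y * q⁻¹) * n := by rw [h4]
      _ = _ := by group
  have hqH := PH (S.QP hq)
  have hct : (q⁻¹ * n) * t = t * (q⁻¹ * n) := by
    have h3 : Commute q t := hqt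
    have h4 : Commute n t := hNt n hn
    exact (h3.inv_left.mul_left h4).eq
  rcases cenQ _ (mul_mem (inv_mem hqH) (hNH hn)) hct hc with h | h
  · left
    have e : n = q * (q⁻¹ * n) := by group
    rw [e]
    exact mul_mem hq (S.XQ h)
  · right
    have e : t * n = q * (t * (q⁻¹ * n)) := by
      calc t * n = (t * q) * (q⁻¹ * n) := by group
        _ = (q * t) * (q⁻¹ * n) := by rw [hqt]
        _ = _ := by group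
    rw [e]
    exact mul_mem hq (S.XQ h)

end Cfsg.Agent.OddHalf.D7Ex.HThree
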