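import Cfsg.Agent.OddHalf.D7Ex.DLastOf
import Cfsg.Agent.KFacts.SLRow.OmegaPlus

/-!
# `D_m`, `m ≥ 5`: the isolated root orthogonal to `r` (helper909)

`r = e_a + e_b` (signed indices), `b = e_a - e_b`, `s = e_a + e_k`, `g = e_a + e_l`.

* `bf_eq` : the Cartan form is the scalar product of the `ε`-coordinates;
* `isoRt` : `∃ b s g, IsoRt cs h r b s g` for every root `r` of `TypeD.M n`, `n ≥ 3`.
-/

set_option autoImplicit false
set_option linter.unusedSectionVars false

namespace Cfsg.Agent.OddHalf.D7Ex.IsoD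

open CoxeterSystem Cfsg.Agent.ChevalleyStructure.CoxeterGeom Cfsg.Agent.Tits.Roots Cfsg.Agent.Tits.Core
  Cfsg.Agent.Nodes.Reps Cfsg.Agent.Nodes.SimplyLaced Cfsg.Agent.OddHalf.SL.Index
  Cfsg.Agent.Nodes.TypeD Cfsg.Agent.OddHalf.D7Ex.DLastOf
open Cfsg.Agent.Nodes.TypeC (wt wt_apply ng wt_ng ng_ng ng_fst ng_snd)

variable {n : ℕ}

/-! ### The Cartan form in `ε`-coordinates -/

/-- the scalar product of `ε`-vectors -/
def dt (u v : Fin (n + 2) → ℤ) : ℤ := ∑ k, u k * v k

theorem dt_comm (u v : Fin (n + 2) → ℤ) : dt u v = dt v u :=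
  Finset.sum_congr rfl fun _ _ => mul_comm _ _

theorem dt_add_left (u v w : Fin (n + 2) → ℤ) : dt (u + v) w = dt u w + dt v w := by
  unfold dt
  rw [← Finset.sum_add_distrib]
  exact Finset.sum_congr rfl fun k _ => by rw [Pi.add_apply]; ring

theorem dt_add_right (u v w : Fin (n + 2) → ℤ) : dt w (u + v) = dt w u + dt w v := by
  rw [dt_comm, dt_add_left, dt_comm u, dt_comm v]

theorem dt_neg_left (u w : Fin (n + 2) → ℤ) : dt (-u) w = -dt u w := by
  unfold dt
  rw [← Finset.sum_neg_distrib]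
  exact Finset.sum_congr rfl fun k _ => by rw [Pi.neg_apply]; ring

theorem dt_neg_right (u w : Fin (n + 2) → ℤ) : dt w (-u) = -dt w u := by
  rw [dt_comm, dt_neg_left, dt_comm]

theorem dt_smul_left (c : ℤ) (u w : Fin (n + 2) → ℤ) : dt (c • u) w = c * dt u w := by
  unfold dt
  rw [Finset.mul_sum]
  exact Finset.sum_congr rfl fun k _ => by rw [Pi.smul_apply, smul_eq_mul]; ring

theorem dt_wt (x : Fin (n + 2) × Bool) (u : Fin (n + 2) → ℤ) : dt (wt x) u = if x.2 then u x.1 else -u x.1 := by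
  unfold dt
  rw [Finset.sum_eq_single x.1]
  · rw [wt_apply, if_pos rfl]
    split_ifs <;> ring
  · intro k _ hk
    rw [wt_apply, if_neg hk, zero_mul]
  · intro hk
    exact absurd (Finset.mem_univ _) hk

theorem dt_wt_ne {x y : Fin (n + 2) × Bool} (hxy : x.1 ≠ y.1) : dt (wt x) (wt y) = 0 := by
  rw [dt_wt, wt_apply, if_neg hxy]
  simp

theorem dt_wt_self (x : Fin (n + 2) × Bool) : dt (wt x) (wt x) = 1 := by
  rw [dt_wt, wt_apply, if_pos rfl]
  split_ifs <;> rfl

theorem Cf_eq (i : Fin (n + 2)) (u : Fin (n + 2) → ℤ) : Cf i u = dt (bt i) u := by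
  unfold Cf
  rw [bt, dt_add_left, dt_wt, dt_wt, nx]
  split_ifs <;> simp_all
  ring

theorem bf_eq (x y : Fin (n + 2) → ℤ) : Bf (A n) x y = dt (ee x) (ee y) := by
  unfold Bf
  rw [dt_comm]
  unfold ee
  have : dt (∑ j, y j • bt j) (∑ j, x j • bt j) = ∑ i, y i * dt (bt i) (∑ j, x j • bt j) := by
    have key : ∀ s : Finset (Fin (n + 2)), dt (∑ j ∈ s, y j • bt j) (∑ j, x j • bt j) =
        ∑ i ∈ s, y i * dt (bt i) (∑ j, x j • bt j) := by
      intro s
      induction s using Finset.induction_on with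
      | empty => simp [dt]
      | insert a s ha ih => rw [Finset.sum_insert ha, Finset.sum_insert ha, dt_add_left, dt_smul_left, ih]
    exact key _
  rw [this]
  exact Finset.sum_congr rfl fun i _ => by rw [← Cf_eq, ← Cf_ee, ee]

/-! ### The isolated root -/

/-- three indices miss a fifth one -/
theorem exists_index (hn : 3 ≤ n) (i j k l : Fin (n + 2)) : ∃ m : Fin (n + 2), m ≠ i ∧ m ≠ j ∧ m ≠ k ∧ m ≠ l := by
  by_contra hcon
  push Not at hcon
  have h1 : (Finset.univ : Finset (Fin (n + 2))) ⊆ {i, j, k, l} := by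
    intro m _
    rw [Finset.mem_insert, Finset.mem_insert, Finset.mem_insert, Finset.mem_singleton]
    by_contra h2
    push Not at h2
    exact h2.2.2.2 (hcon m h2.1 h2.2.1 h2.2.2.1)
  have h2 := Finset.card_le_card h1
  have h3 : ({i, j, k, l} : Finset (Fin (n + 2))).card ≤ 4 := Finset.card_le_four
  rw [Finset.card_univ, Fintype.card_fin] at h2
  omega

variable {W : Type*} [Group W]

theorem isoRt_std (hn : 3 ≤ n) (cs : CoxeterSystem (M n) W) {r : Fin (n + 2) → ℤ}
    (hr : IsRoot cs (isCartan n) r) : ∃ b s g, IsoRt cs (isCartan n) r b s g := by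
  obtain ⟨a, b, hab, er⟩ := exists_of_isRoot cs hr
  have hab1 : a.1 ≠ b.1 := hab
  obtain ⟨k, hka, hkb, -, -⟩ := exists_index hn a.1 b.1 a.1 b.1
  obtain ⟨l, hla, hlb, hlk, -⟩ := exists_index hn a.1 b.1 k k
  have hok1 : Ok a (ng b) := hab1
  have hok2 : Ok a (k, true) := Ne.symm hka
  have hok3 : Ok a (l, true) := Ne.symm hla
  obtain ⟨β, hβ, eβ⟩ := rt_of_ok (cs := cs) hok1
  obtain ⟨σ, hσ, eσ⟩ := rt_of_ok (cs := cs) hok2
  obtain ⟨γ, hγ, eγ⟩ := rt_of_ok (cs := cs) hok3
  rw [wt_ng] at eβ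
  have aa := dt_wt_self a
  have bb := dt_wt_self b
  have ab : dt (wt a) (wt b) = 0 := dt_wt_ne hab1
  have ba : dt (wt b) (wt a) = 0 := dt_wt_ne (Ne.symm hab1)
  have ka : dt (wt (k, true)) (wt a) = 0 := dt_wt_ne hka
  have kb : dt (wt (k, true)) (wt b) = 0 := dt_wt_ne hkb
  have la : dt (wt (l, true)) (wt a) = 0 := dt_wt_ne hla
  have lb : dt (wt (l, true)) (wt b) = 0 := dt_wt_ne hlb
  have al : dt (wt a) (wt (l, true)) = 0 := dt_wt_ne (Ne.symm hla)
  have kl : dt (wt (k, true)) (wt (l, true)) = 0 := dt_wt_ne (Ne.symm hlk)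
  refine ⟨β, σ, γ, hβ, ?_, ?_, ?_, hσ, hγ, ?_, ?_, ?_, ?_, ?_⟩
  · rw [bf_eq, er, eβ, dt_add_left, dt_add_right, dt_add_right, dt_neg_left, dt_neg_left, aa, ab, ba, bb]
    norm_num
  · intro d hd h0 h1
    rw [bf_eq, er, dt_add_right] at h0
    rw [bf_eq, eβ, dt_add_right, dt_neg_right] at h1
    omega
  · intro d hd h0
    obtain ⟨x, y, hxy, ed⟩ := exists_of_isRoot cs hd
    have hxy1 : x.1 ≠ y.1 := hxy
    rw [bf_eq, er, ed, dt_add_right, dt_add_left, dt_add_left] at h0
    -- the scalar products of signed indices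
    have val : ∀ x z : Fin (n + 2) × Bool, dt (wt x) (wt z) = if x = z then 1 else if x = ng z then -1 else 0 := by
      intro x z
      by_cases h1 : x = z
      · rw [if_pos h1, h1, dt_wt_self]
      · rw [if_neg h1]
        by_cases h2 : x = ng z
        · rw [if_pos h2, h2, wt_ng, dt_neg_left, dt_wt_self]
        · rw [if_neg h2]
          apply dt_wt_ne
          intro h3
          rcases x with ⟨x1, x2⟩
          rcases z with ⟨z1, z2⟩
          obtain rfl : x1 = z1 := h3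
          cases x2 <;> cases z2 <;> simp [ng] at h1 h2
    have inv1 : ∀ {x z : Fin (n + 2) × Bool}, dt (wt x) (wt z) = 1 → x = z := by
      intro x z h1
      rw [val] at h1
      by_contra h2
      rw [if_neg h2] at h1
      split_ifs at h1; omega
    have inv2 : ∀ {x z : Fin (n + 2) × Bool}, dt (wt x) (wt z) = -1 → x = ng z := by
      intro x z h1
      rw [val] at h1
      by_contra h2
      rw [if_neg h2] at h1
      split_ifs at h1
    have fst : ∀ {x z : Fin (n + 2) × Bool}, x.1 = z.1 → dt (wt x) (wt z) = 1 ∨ dt (wt x) (wt z) = -1 := by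
      intro x z h1
      rw [dt_wt, wt_apply, if_pos h1]
      cases x.2 <;> cases z.2 <;> simp
    -- the two exceptional cases
    have done : ∀ x y : Fin (n + 2) × Bool, x.1 ≠ y.1 → ee d = wt x + wt y →
        dt (wt x) (wt a) + dt (wt y) (wt a) + (dt (wt x) (wt b) + dt (wt y) (wt b)) = 0 → x.1 = a.1 →
        d = β ∨ d = -β := by
      intro x y hxy ed h0 hx
      have h1 : dt (wt y) (wt a) = 0 := dt_wt_ne fun e => hxy (hx.trans e.symm)
      have h2 : dt (wt x) (wt b) = 0 := dt_wt_ne fun e => hab1 (hx.symm.trans e)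
      rcases fst hx with h3 | h3
      · left
        have h4 : dt (wt y) (wt b) = -1 := by omega
        apply ee_injective
        rw [ed, eβ, inv1 h3, inv2 h4, wt_ng]
      · right
        have h4 : dt (wt y) (wt b) = 1 := by omega
        apply ee_injective
        rw [ed, ee_neg, eβ, inv2 h3, inv1 h4, wt_ng]
        abel
    have done' : ∀ x y : Fin (n + 2) × Bool, x.1 ≠ y.1 → ee d = wt x + wt y →
        dt (wt x) (wt a) + dt (wt y) (wt a) + (dt (wt x) (wt b) + dt (wt y) (wt b)) = 0 → x.1 = b.1 →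
        d = β ∨ d = -β := by
      intro x y hxy ed h0 hx
      have h1 : dt (wt y) (wt b) = 0 := dt_wt_ne fun e => hxy (hx.trans e.symm)
      have h2 : dt (wt x) (wt a) = 0 := dt_wt_ne fun e => hab1 (e.symm.trans hx)
      rcases fst hx with h3 | h3
      · right
        have h4 : dt (wt y) (wt a) = -1 := by omega
        apply ee_injective
        rw [ed, ee_neg, eβ, inv1 h3, inv2 h4, wt_ng]
        abel
      · left
        have h4 : dt (wt y) (wt a) = 1 := by omega
        apply ee_injective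
        rw [ed, eβ, inv2 h3, inv1 h4, wt_ng]
        abel
    have h0' : dt (wt y) (wt a) + dt (wt x) (wt a) + (dt (wt y) (wt b) + dt (wt x) (wt b)) = 0 := by
      rw [← h0]; ring
    have ed' : ee d = wt y + wt x := ed.trans (add_comm (wt x) (wt y))
    have fin : d = β ∨ d = -β → d = β ∨ d = -β ∨ ∃ d', IsRoot cs (isCartan n) d' ∧ Bf (A n) d' r = 0 ∧
        Bf (A n) d d' = 1 := by
      rintro (h1 | h1)
      · exact Or.inl h1
      · exact Or.inr (Or.inl h1)
    by_cases h1 : x.1 = a.1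
    · exact fin (done x y hxy1 ed h0 h1)
    by_cases h2 : x.1 = b.1
    · exact fin (done' x y hxy1 ed h0 h2)
    by_cases h3 : y.1 = a.1
    · exact fin (done y x (Ne.symm hxy1) ed' h0' h3)
    by_cases h4 : y.1 = b.1
    · exact fin (done' y x (Ne.symm hxy1) ed' h0' h4)
    right; right
    obtain ⟨m, hma, hmb, hmx, hmy⟩ := exists_index hn a.1 b.1 x.1 y.1
    have hok4 : Ok x (m, true) := Ne.symm hmx
    obtain ⟨δ, hδ, eδ⟩ := rt_of_ok (cs := cs) hok4
    refine ⟨δ, hδ, ?_, ?_⟩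
    · have e1 : dt (wt x) (wt a) = 0 := dt_wt_ne h1
      have e2 : dt (wt x) (wt b) = 0 := dt_wt_ne h2
      have e3 : dt (wt (m, true)) (wt a) = 0 := dt_wt_ne hma
      have e4 : dt (wt (m, true)) (wt b) = 0 := dt_wt_ne hmb
      rw [bf_eq, er, eδ, dt_add_left, dt_add_right, dt_add_right, e1, e2, e3, e4]; norm_num
    · have e1 : dt (wt y) (wt x) = 0 := dt_wt_ne (Ne.symm hxy1)
      have e2 : dt (wt x) (wt (m, true)) = 0 := dt_wt_ne (Ne.symm hmx)
      have e3 : dt (wt y) (wt (m, true)) = 0 := dt_wt_ne (Ne.symm hmy)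
      rw [bf_eq, ed, eδ, dt_add_left, dt_add_right, dt_add_right, dt_wt_self, e1, e2, e3]; norm_num
  · rw [bf_eq, er, eσ, dt_add_left, dt_add_right, dt_add_right, aa, ab, ka, kb]; norm_num
  · rw [bf_eq, eβ, eσ, dt_add_left, dt_add_right, dt_add_right, dt_neg_right, dt_neg_right, aa, ab, ka, kb]; norm_num
  · rw [bf_eq, er, eγ, dt_add_left, dt_add_right, dt_add_right, aa, ab, la, lb]; norm_num
  · rw [bf_eq, eβ, eγ, dt_add_left, dt_add_right, dt_add_right, dt_neg_right, dt_neg_right, aa, ab, la, lb]; norm_num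
  · rw [bf_eq, eγ, eσ, dt_add_left, dt_add_right, dt_add_right, aa, al, ka, kl]; norm_num

/-- **`D_m`, `m ≥ 5`: the isolated root.** -/
theorem isoRt (hn : 3 ≤ n) {cs : CoxeterSystem (M n) W} {A' : Fin (n + 2) → Fin (n + 2) → ℤ}
    (h : IsCartan (M n) A') {r : Fin (n + 2) → ℤ} (hr : IsRoot cs h r) : ∃ b s g, IsoRt cs h r b s g := by
  have h4 : ∀ i j, M n i j ≠ 4 := fun i j => (Cfsg.Agent.KFacts.SLRow.OmegaPlus.M_ne n i j).1
  have h6 : ∀ i j, M n i j ≠ 6 := fun i j => (Cfsg.Agent.KFacts.SLRow.OmegaPlus.M_ne n i j).2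
  obtain rfl : A' = A n := by
    funext i j
    rw [cart_eq h4 h6 h, cart_eq h4 h6 (isCartan n)]
  exact isoRt_std hn cs hr

end Cfsg.Agent.OddHalf.D7Ex.IsoD
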