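import Cfsg.Agent.OddHalf.D7Ex.KRD
import Cfsg.Agent.OddHalf.D7Ex.DLastOf

/-!
# `D_n(2)`: the combinatorial input of the last point from the nodes

* `isoRt` : `IsoRt cs h r (-sr o) (sr j) (sr j + sr (f κ))`;
* `base0` : `BaseG` gives `Base0`; `mem_P0` : the root groups of the good roots lie in `P₀`.
-/

set_option autoImplicit false
set_option linter.unusedSectionVars false

namespace Cfsg.Agent.OddHalf.D7Ex.IsoOf

open Cfsg.Agent.OddHalf.SL Cfsg.Agent.KFacts CoxeterSystem Cfsg.Agent.ChevalleyStructure.CoxeterGeom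
  Cfsg.Agent.Tits.Roots Cfsg.Agent.Tits.Core
  Cfsg.Agent.Tits.RootComb Cfsg.Agent.Nodes.Comb Cfsg.Agent.Nodes.Reps Cfsg.Agent.Nodes.BNOf
  Cfsg.Agent.Nodes.Bruhat Cfsg.Agent.Nodes.Coroot Cfsg.Agent.OddHalf.SL.Index Cfsg.Agent.OddHalf.SL.OfRGD
  Cfsg.Agent.Nodes.StabComb Cfsg.Agent.Nodes.LeviDec Cfsg.Agent.Nodes.Sub Cfsg.Agent.Nodes.SubComb
  Cfsg.Agent.OddHalf.D7Ex.KTwo Cfsg.Agent.OddHalf.D7Ex.TriComb
  Cfsg.Agent.OddHalf.D7Ex.TriGrp Cfsg.Agent.OddHalf.D7Ex.TriE Cfsg.Agent.OddHalf.SL.OfDatum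
  Cfsg.Agent.OddHalf.D7Ex.KData Cfsg.Agent.KFacts.SLRow.Def Cfsg.Agent.OddHalf.D7Ex.KRD
  Cfsg.Agent.OddHalf.D7Ex.DLast Cfsg.Agent.OddHalf.D7Ex.DLastOf Cfsg.Agent.OddHalf.D7Ex.OutBase
  Cfsg.Agent.OddHalf.D7Ex.KFull

variable {I J W G : Type*} [Fintype I] [DecidableEq I] [Fintype J] [DecidableEq J] [Group W] [Group G]
  {M : CoxeterMatrix I} {cs : CoxeterSystem M W} {A : I → I → ℤ} {h : IsCartan M A}

variable [Finite W] {f : J ↪ I} {j : I} {κ : J} {r : I → ℤ} {o : I}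

/-- the combinatorial input -/
theorem isoRt (h4 : ∀ i j, M i j ≠ 4) (h6 : ∀ i j, M i j ≠ 6) (N : Nodes cs h f j κ r o)
    (hnb : ∀ i, ∃ i', Bf A (sr (f i)) (sr (f i')) = -1) :
    IsoRt cs h r (-sr o) (sr j) (sr j + sr (f κ)) := by
  have hR := roots cs h h4 h6
  have ho := isRoot_sr cs h o
  have hj := isRoot_sr cs h j
  have hk := isRoot_sr cs h (f κ)
  have or0 : Bf A (sr o) r = 0 := N.nd.di o N.oj
  have jk : Bf A (sr j) (sr (f κ)) = -1 := by rw [hR.symm]; exact N.nd.kj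
  have jo : Bf A (sr j) (sr o) = -1 := by rw [hR.symm]; exact N.jo
  have ko : Bf A (sr (f κ)) (sr o) = 0 := by rw [hR.symm]; exact N.nd.rest o N.oj N.fo κ
  exact
    { hb := ho.neg
      br := by rw [hR.neg_left, or0, neg_zero]
      iso := fun d hd h0 h1 => by
        rw [hR.neg_right] at h1
        rcases orth_cases h4 h6 N hd h0 with e | e | e
        · rw [e, hR.two _ ho] at h1; omega
        · rw [e, hR.neg_left, hR.two _ ho] at h1; omega
        · rw [RootsJ_o h4 h6 N e] at h1; omega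
      gd := fun a ha h0 => by
        rcases orth_cases h4 h6 N ha h0 with e | e | e
        · exact Or.inr (Or.inl (by rw [neg_neg]; exact e))
        · exact Or.inl e
        · obtain ⟨d, hd, h1⟩ := exists_nb h4 h6 hnb e
          exact Or.inr (Or.inr ⟨d, hd.1, RootsJ_zero h4 h6 N.nd hd, h1⟩)
      hs := hj
      hg := hR.add _ hj _ hk jk
      sr := N.nd.dj
      sb := by rw [hR.neg_right, jo]; norm_num
      gr := by rw [hR.add_left, N.nd.dj, N.nd.di _ (N.nd.fj κ)]; norm_num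
      gb := by rw [hR.neg_right, hR.add_left, jo, ko]; norm_num
      sg := by rw [hR.add_right, hR.two _ hj, jk]; norm_num }

section

variable [Finite G] {T : Subgroup G} {n : I → G} {X : (I → ℤ) → Subgroup G} {K : Subgroup G}

/-- the root groups of the good roots lie in `P₀` -/
theorem mem_P0 (D : Datum K 2 cs h T n X) (N : Nodes cs h f j κ r o) {a : I → ℤ} (ha : IsRoot cs h a)
    (hg : Gd (Bf A) {x | IsRoot cs h x} a r) : X a ≤ Lv cs h X f ⊔ Qr cs h X r := by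
  have hR := roots cs h D.h4 D.h6
  have ho := isRoot_sr cs h o
  rcases hg with h1 | ⟨h1, d, hd, h2, h3⟩
  · refine le_trans ?_ le_sup_right
    have h2 := hR.le a ha r N.nd.hr
    rcases (show Bf A a r = 1 ∨ Bf A a r = 2 by omega) with h3 | h3
    · exact le_QS X r (show a ∈ Ph1 (Bf A) {x | IsRoot cs h x} r from ⟨ha, h3⟩)
    · rw [hR.eq a ha r N.nd.hr h3]
      exact X_le_QS X _ r
  · refine le_trans ?_ le_sup_left
    refine RGD.le_Sup ?_
    -- no neighbour of `± o`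
    have key : Bf A (sr o) d ≠ 1 ∧ Bf A (sr o) d ≠ -1 := by
      rcases orth_cases D.h4 D.h6 N hd h2 with e | e | e
      · rw [e, hR.two _ ho]; norm_num
      · rw [e, hR.neg_right, hR.two _ ho]; norm_num
      · rw [hR.symm, RootsJ_o D.h4 D.h6 N e]; norm_num
    rcases orth_cases D.h4 D.h6 N ha h1 with e | e | e
    · rw [e] at h3; exact absurd h3 key.1
    · rw [e, hR.neg_left] at h3; exact absurd (by omega) key.2
    · exact e

end

/-- **`Base0` from `BaseG`.** -/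
theorem base0 [Finite G] {K : Subgroup G} {t : G} {T₀ : Subgroup ↥K} {n₀ : I → ↥K} {X₀ : (I → ℤ) → Subgroup ↥K}
    (D₀ : Datum (⊤ : Subgroup ↥K) 2 cs h T₀ n₀ X₀) (C : CT t K) (N : Nodes cs h f j κ r o)
    (hnb : ∀ i, ∃ i', Bf A (sr (f i)) (sr (f i')) = -1) {V₀ : Subgroup G}
    (B : BaseG (dm D₀).rgd t r V₀) : Base0.Base0 (dm D₀).rgd t r V₀ :=
  DLastOf.base0 D₀ C B (isoRt D₀.h4 D₀.h6 N hnb)

end Cfsg.Agent.OddHalf.D7Ex.IsoOf
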