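import Cfsg.Agent.OddHalf.D7Ex.KData
import Cfsg.Agent.KFacts.RgdAutN

/-!
# The existence of the doubled root group in all of `C_G(t)` (outer part allowed)

* `CT t K` : the facts on `C_G(t)`: `K ⊴ C(t)`, `C(t) ∩ C(K) = ⟨t⟩`, perfect subgroups of `C(t)` lie in `K`;
* `k1` : `C_{C(t)}(⟨X a : (a, r) ≥ 1⟩) ≤ ⟨t⟩ X r`, all `q`;
* `kr_of`, `kr` : `KR` for `q > 2`; `exists_out` : the doubled root group at one root.
-/

set_option autoImplicit false
set_option linter.unusedSectionVars false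

namespace Cfsg.Agent.OddHalf.D7Ex.KFull

open Cfsg.Agent.OddHalf.SL Cfsg.Agent.KFacts CoxeterSystem Cfsg.Agent.ChevalleyStructure.CoxeterGeom Cfsg.Agent.Tits.Roots Cfsg.Agent.Tits.Core
  Cfsg.Agent.Tits.RootComb Cfsg.Agent.Nodes.Comb Cfsg.Agent.Nodes.Reps Cfsg.Agent.Nodes.BNOf
  Cfsg.Agent.Nodes.Bruhat Cfsg.Agent.Nodes.Coroot Cfsg.Agent.OddHalf.SL.Index Cfsg.Agent.OddHalf.SL.OfRGD
  Cfsg.Agent.OddHalf.SL.PreOf Cfsg.Agent.KFacts.RgdPar Cfsg.Agent.KFacts.RgdSL Cfsg.Agent.KFacts.RgdTI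
  Cfsg.Agent.KFacts.RgdCent Cfsg.Agent.KFacts.RgdOdd Cfsg.Agent.KFacts.RgdEx Cfsg.Agent.KFacts.SLRow.Def
  Cfsg.Agent.OddHalf.SL.OfDatum Cfsg.Agent.OddHalf.D7Ex.KData
open scoped commutatorElement

/-- The facts on `C_G(t)`. -/
structure CT {G : Type*} [Group G] (t : G) (K : Subgroup G) : Prop where
  tt : t * t = 1
  tK : t ∉ K
  Kt : ∀ k ∈ K, t * k = k * t
  nrm : ∀ g, g * t = t * g → ∀ u ∈ K, g * u * g⁻¹ ∈ K
  cK : ∀ g, g * t = t * g → (∀ u ∈ K, g * u = u * g) → g = 1 ∨ g = t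
  perf : ∀ L : Subgroup G, L ≤ Subgroup.centralizer {t} → L ≤ ⁅L, L⁆ → L ≤ K

namespace CT

variable {G : Type*} [Group G] {t : G} {K : Subgroup G} (C : CT t K)

include C

theorem comm_inv {c : G} (hc : c * t = t * c) : c⁻¹ * t = t * c⁻¹ := by
  rw [inv_mul_eq_iff_eq_mul, ← mul_assoc, hc, mul_inv_cancel_right]

/-- The automorphism of `K` induced by an element of `C_G(t)`. -/
def aut {c : G} (hc : c * t = t * c) : MulAut ↥K where
  toFun u := ⟨c * u * c⁻¹, C.nrm c hc u u.2⟩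
  invFun u := ⟨c⁻¹ * u * c, by simpa using C.nrm c⁻¹ (C.comm_inv hc) u u.2⟩
  left_inv u := Subtype.ext (by
    show c⁻¹ * (c * u * c⁻¹) * c = u
    group)
  right_inv u := Subtype.ext (by
    show c * (c⁻¹ * u * c) * c⁻¹ = u
    group)
  map_mul' u v := Subtype.ext (by
    show c * (u * v) * c⁻¹ = c * u * c⁻¹ * (c * v * c⁻¹)
    group)

theorem aut_apply {c : G} (hc : c * t = t * c) (u : ↥K) : ((C.aut hc u : ↥K) : G) = c * u * c⁻¹ := rfl

/-- An element of `C_G(t)` inducing an inner automorphism. -/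
theorem of_inner {c : G} (hc : c * t = t * c) {z : ↥K} (h : C.aut hc = MulAut.conj z) : c = z ∨ t * c = z := by
  have h1 : ∀ u ∈ K, (z : G)⁻¹ * c * u = u * ((z : G)⁻¹ * c) := by
    intro u hu
    have h2 := congrArg Subtype.val (DFunLike.congr_fun h ⟨u, hu⟩)
    have h3 : c * u * c⁻¹ = z * u * (z : G)⁻¹ := h2
    calc (z : G)⁻¹ * c * u = (z : G)⁻¹ * (c * u * c⁻¹) * c := by group
      _ = u * ((z : G)⁻¹ * c) := by rw [h3]; group
  have hz : (z : G)⁻¹ * t = t * (z : G)⁻¹ := (C.Kt _ (inv_mem z.2)).symm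
  have h2 : (z : G)⁻¹ * c * t = t * ((z : G)⁻¹ * c) := by
    rw [mul_assoc, hc, ← mul_assoc, hz, mul_assoc]
  rcases C.cK _ h2 h1 with h3 | h3
  · left
    exact (inv_mul_eq_one.1 h3).symm
  · right
    have h4 : c = z * t := by rw [← h3]; group
    rw [h4, ← C.Kt _ z.2, ← mul_assoc, C.tt, one_mul]

end CT

variable {I W G : Type*} [Fintype I] [DecidableEq I] [Group W] [Group G] {M : CoxeterMatrix I}
  {cs : CoxeterSystem M W} {A : I → I → ℤ} {h : IsCartan M A} {K : Subgroup G} {q : ℕ} {t : G}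

section

variable [Finite W] [Finite G] {T₀ : Subgroup ↥K} {n₀ : I → ↥K} {X₀ : (I → ℤ) → Subgroup ↥K}
  (D : Datum (⊤ : Subgroup ↥K) q cs h T₀ n₀ X₀) (C : CT t K)

include D C

/-- **(K1) in all of `C_G(t)`**, all `q`. -/
theorem k1 {r : I → ℤ} (hr : IsRoot cs h r) {c : G} (hct : t * c = c * t)
    (hc : ∀ a, IsRoot cs h a → 1 ≤ Bf A a r → ∀ x ∈ (X₀ a).map K.subtype, c * x = x * c) :
    c ∈ (X₀ r).map K.subtype ∨ t * c ∈ (X₀ r).map K.subtype := by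
  have hR := roots cs h D.h4 D.h6
  have hs := PreOf.sl (cs := cs) (h := h) D.h4 D.h6
  have hL := OfDatum.lr D
  let f : (I → ℤ) →+ ℤ :=
    { toFun := fun x => Bf A x r
      map_zero' := hR.zero_left r
      map_add' := fun x y => bf_add_left x y r }
  have hf : ∀ x, f x = Bf A x r := fun x => rfl
  have hsing : RGD.Sup X₀ ({r} : Set (I → ℤ)) = X₀ r := by
    apply le_antisymm
    · refine RGD.Sup_le fun z hz => ?_
      rw [Set.mem_singleton_iff] at hz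
      rw [hz]
    · exact RGD.le_Sup (S := {r}) rfl
  obtain ⟨z, hz, e⟩ := RgdAutN.autN D.rgd D.gen (fun i a ha b hb => (hL _ (isRoot_sr cs h i)).comm _ (isRoot_sr cs h i)
      (by rw [cpr_self cs h (isRoot_sr cs h i)]; norm_num) a ha b hb) f
    (S := {r}) (α := C.aut hct.symm) (by
      intro c hc
      obtain rfl : c = r := hc
      obtain ⟨s, hs', hrs⟩ := exists_neg_one D.h4 D.h6 D.irr D.three hr
      refine ⟨hr, c + s, -s, hR.add c hr s hs' hrs, hs'.neg, ?_, ?_, by abel⟩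
      · rw [hf, hR.add_left, hR.two c hr, hR.symm s c, hrs]; norm_num
      · rw [hf, hR.neg_left, hR.symm s c, hrs]; norm_num) (by
      intro g hg
      rw [hsing]
      refine f3_rad hs hr (orth' D hr) D.rgd hL D.cent (by rw [D.GG_eq]; exact Subgroup.mem_top _) ?_
      intro a ha v hv
      refine hg a ha.1 ?_ v hv
      rw [hf, bf_eq_cpr D.h4 D.h6 _ hr]
      exact lt_of_lt_of_le one_pos ha.2) (by
      intro x hx hfx v hv
      rw [hf] at hfx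
      apply Subtype.ext
      rw [C.aut_apply, hc x hx (by omega) v ⟨v, hv, rfl⟩, mul_inv_cancel_right])
  rw [hsing] at hz
  rcases C.of_inner hct.symm e with h1 | h1
  · left
    rw [h1]
    exact ⟨z, hz, rfl⟩
  · right
    rw [h1]
    exact ⟨z, hz, rfl⟩

end

/-! ### `KR` -/

section

variable [Finite W] [Finite G] {T : Subgroup G} {n : I → G} {X : (I → ℤ) → Subgroup G}
  (D : Datum K q cs h T n X) (C : CT t K)

include D C

theorem tX' : ∀ a ∈ {x | IsRoot cs h x}, ∀ x ∈ X a, t * x = x * t := fun a ha x hx => C.Kt x (D.XK ha hx)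

theorem PR_le_K {r : I → ℤ} : PR (Bf A) {x | IsRoot cs h x} X r ≤ K := PR_le fun b hb _ => D.XK hb

/-- `P` perfect in `C(⟨t⟩ X r)`: an element normalising `X r` and `t X r` takes it into `K ∩ C(X r)`. -/
theorem conj_le {r : I → ℤ} (hr : IsRoot cs h r) {P : Subgroup G} (hP : P ≤ PR (Bf A) {x | IsRoot cs h x} X r)
    (perf : P ≤ ⁅P, P⁆) {n' : G} (hX : ∀ x ∈ X r, n' * x * n'⁻¹ ∈ X r) (ht : t * (n' * t * n'⁻¹) ∈ X r) :
    P.map (MulAut.conj n').toMonoidHom ≤ T ⊔ PR (Bf A) {x | IsRoot cs h x} X r := by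
  have hPC : P ≤ CC t (X r) := fun p hp => by
    rw [mem_CC]
    exact ⟨(C.Kt p (PR_le_K D C (hP hp))).symm, fun x hx => ((rg D).XP hr hx (hP hp)).symm⟩
  have hRC : P.map (MulAut.conj n').toMonoidHom ≤ CC t (X r) := by
    rintro _ ⟨p, hp, rfl⟩
    exact conj_CC C.tt hX ht (hPC hp)
  have hRp : P.map (MulAut.conj n').toMonoidHom ≤
      ⁅P.map (MulAut.conj n').toMonoidHom, P.map (MulAut.conj n').toMonoidHom⁆ := by
    rw [← Subgroup.map_commutator]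
    exact Subgroup.map_mono perf
  have hRK : P.map (MulAut.conj n').toMonoidHom ≤ K := by
    refine C.perf _ (fun x hx => ?_) hRp
    rw [Subgroup.mem_centralizer_singleton_iff]
    exact (mem_CC.1 (hRC hx)).1
  intro x hx
  obtain ⟨z, hz, hz1⟩ := exists_ne D.rgd hr
  have h1 := (lr D r hr).le_PS_of_comm (g := x) (by rw [D.GG_eq]; exact hRK hx) hz hz1
    ((mem_CC.1 (hRC hx)).2 z hz)
  rw [← sup_Ge D hr]
  exact h1

/-- `[T P, T P] ≤ P`. -/
theorem comm_le (Tab : ∀ g ∈ T, ∀ k ∈ T, g * k = k * g) {r : I → ℤ} :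
    ⁅T ⊔ PR (Bf A) {x | IsRoot cs h x} X r, T ⊔ PR (Bf A) {x | IsRoot cs h x} X r⁆ ≤
      PR (Bf A) {x | IsRoot cs h x} X r := by
  set P := PR (Bf A) {x | IsRoot cs h x} X r with hP
  have hT : T ≤ Subgroup.normalizer (P : Set G) := by
    intro g hg
    rw [Subgroup.mem_normalizer_iff]
    intro p
    refine ⟨fun hp => TP' D g hg p hp, fun hp => ?_⟩
    have h1 := TP' D g⁻¹ (inv_mem hg) _ hp
    have e : g⁻¹ * (g * p * g⁻¹) * g⁻¹⁻¹ = p := by group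
    rwa [e] at h1
  have hTP : ∀ x ∈ T ⊔ P, ∃ g ∈ T, ∃ p ∈ P, x = g * p := by
    intro x hx
    rw [← SetLike.mem_coe, Subgroup.coe_mul_of_left_le_normalizer_right _ _ hT] at hx
    obtain ⟨g, hg, p, hp, e⟩ := hx
    exact ⟨g, hg, p, hp, e.symm⟩
  rw [Subgroup.commutator_le]
  intro x hx y hy
  obtain ⟨g, hg, p, hp, rfl⟩ := hTP x hx
  obtain ⟨k, hk, p', hp', rfl⟩ := hTP y hy
  have cj1 : ∀ g ∈ T, ∀ p ∈ P, g * p * g⁻¹ ∈ P := fun g hg p hp => TP' D g hg p hp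
  have e : ⁅g * p, k * p'⁆ = (g * p * g⁻¹) * ((k * g) * p' * (k * g)⁻¹) * (k * (g * p⁻¹ * g⁻¹) * k⁻¹) *
      (k * p'⁻¹ * k⁻¹) := by
    have hgk := Tab g hg k hk
    rw [commutatorElement_def]
    calc g * p * (k * p') * (g * p)⁻¹ * (k * p')⁻¹ = g * p * (g⁻¹ * (g * k)) * p' * p⁻¹ * g⁻¹ * p'⁻¹ * k⁻¹ := by group
      _ = (g * p * g⁻¹) * (k * g) * p' * p⁻¹ * g⁻¹ * p'⁻¹ * k⁻¹ := by rw [hgk]; group
      _ = (g * p * g⁻¹) * ((k * g) * p' * (k * g)⁻¹) * (k * (g * p⁻¹ * g⁻¹) * k⁻¹) * (k * p'⁻¹ * k⁻¹) := by group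
  rw [e]
  exact mul_mem (mul_mem (mul_mem (cj1 g hg p hp) (cj1 _ (mul_mem hk hg) p' hp'))
    (cj1 k hk _ (cj1 g hg _ (inv_mem hp)))) (cj1 k hk _ (inv_mem hp'))

theorem core' {r : I → ℤ} (hr : IsRoot cs h r) {P R' : Subgroup G} (hP : P ≤ PR (Bf A) {x | IsRoot cs h x} X r)
    (hR' : R' ≤ P) (h2 : IsPGroup 2 R')
    (hn : ∀ p ∈ PR (Bf A) {x | IsRoot cs h x} X r, ∀ x ∈ R', p * x * p⁻¹ ∈ R') :
    R' ≤ QS X (Ph1 (Bf A) {x | IsRoot cs h x} r) r := by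
  have : Fact (Nat.Prime 2) := ⟨Nat.prime_two⟩
  refine (core_le D.rgd hr (D := R') ?_ h2 ?_).trans (sup_Rad_le D hr)
  · rw [D.GG_eq]; exact (hR'.trans hP).trans (PR_le_K D C)
  · intro u hu
    rw [sup_Ge D hr] at hu
    apply le_antisymm
    · rintro _ ⟨x, hx, rfl⟩
      exact hn u hu x hx
    · intro x hx
      have := hn u⁻¹ (inv_mem hu) x hx
      rw [mem_cj]
      rwa [inv_inv] at this

/-- **`KR`, `q > 2`, all of `C_G(t)`.** -/
theorem kr (Tab : ∀ g ∈ T, ∀ k ∈ T, g * k = k * g) (hq : 2 < q)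
    {r : I → ℤ} (hr : IsRoot cs h r)
    (hK1 : ∀ c, t * c = c * t → (∀ a, IsRoot cs h a → 1 ≤ Bf A a r → ∀ x ∈ X a, c * x = x * c) →
      c ∈ X r ∨ t * c ∈ X r) :
    KR t (Bf A) {x | IsRoot cs h x} X r (PR (Bf A) {x | IsRoot cs h x} X r) T := by
  refine ⟨rg D, hr, pg D hr, C.tt, tX' D C, fun ht => C.tK (D.XK hr ht), fun g hg => C.Kt g (D.TK hg),
    fun g hg => TX' D g hg r hr, TP' D, Tab, ?_, perf D hq hr, ?_, ?_⟩
  · intro c hct hc
    exact hK1 c hct fun a ha h1 x hx => hc x (le_PR X ha (by omega) hx)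
  · intro n' hX ht
    have h1 := conj_le D C hr le_rfl (perf D hq hr) hX ht
    have h2 : (PR (Bf A) {x | IsRoot cs h x} X r).map (MulAut.conj n').toMonoidHom ≤
        ⁅(PR (Bf A) {x | IsRoot cs h x} X r).map (MulAut.conj n').toMonoidHom,
          (PR (Bf A) {x | IsRoot cs h x} X r).map (MulAut.conj n').toMonoidHom⁆ := by
      rw [← Subgroup.map_commutator]
      exact Subgroup.map_mono (perf D hq hr)
    have h3 := h2.trans ((Subgroup.commutator_mono h1 h1).trans (comm_le D C Tab))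
    exact fun p hp => h3 ⟨p, hp, rfl⟩
  · intro R' hR' h2 hn
    exact core' D C hr le_rfl hR' h2 hn

/-- **The doubled root group at one root, `q > 2`, all of `C_G(t)`.** -/
theorem exists_out (Tab : ∀ g ∈ T, ∀ k ∈ T, g * k = k * g) (hq : 2 < q) {r : I → ℤ} (hr : IsRoot cs h r)
    (hK1 : ∀ c, t * c = c * t → (∀ a, IsRoot cs h a → 1 ≤ Bf A a r → ∀ x ∈ X a, c * x = x * c) →
      c ∈ X r ∨ t * c ∈ X r)
    (hT : 4 ≤ Fintype.card I ∨ ∃ β g k, Tor (Bf A) {x | IsRoot cs h x} X r T β g k)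
    {n' : G} (hX : ∀ x ∈ X r, n' * x * n'⁻¹ ∈ X r) (ht : t * (n' * t * n'⁻¹) ∈ X r) (hnt : n' * t * n'⁻¹ ≠ t) :
    ∃ V, KR.Out t (X r) (PR (Bf A) {x | IsRoot cs h x} X r) T V := by
  have hR := roots cs h D.h4 D.h6
  have hK := kr D C Tab hq hr hK1
  obtain ⟨g, hg, hne⟩ := exists_h D hq hr
  have hgT := (Subgroup.mem_inf.1 hg).1
  have hs := PreOf.sl (cs := cs) (h := h) D.h4 D.h6
  have h0 : ∀ b ∈ {x | IsRoot cs h x}, Bf A b r = 0 → ∀ x ∈ X b, g * x = x * g := by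
    intro b hb hbr x hx
    exact orth_comm D.rgd hs hr hb (by rw [← bf_eq_cpr D.h4 D.h6 _ hr]; exact hbr) (Subgroup.mem_inf.1 hg).2 hx
  have hodd : Odd (Nat.card T) := by
    rw [← Nat.coprime_two_right]; exact D.rgd.tcop
  have hg1 : g ^ Nat.card T = 1 := congrArg Subtype.val (pow_card_eq_one' (G := T) (x := ⟨g, hgT⟩))
  have Ce : Cent t (X r) (PR (Bf A) {x | IsRoot cs h x} X r) := by
    rcases hT with hT | ⟨β, g', k, hT⟩
    · exact cent_of_sep hK (pt D hT hr) (TX' D) (trans D hr) hgT h0 hne hX ht hnt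
    · exact cent_of_tor hK (orth D.h4 D.h6 D.irr) (TX' D) (trans D hr) hT hX ht hnt
  exact hK.out_big Ce (trans D hr) hgT hodd hg1 hne

end

end Cfsg.Agent.OddHalf.D7Ex.KFull
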