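import Cfsg.Agent.OddHalf.D7Ex.Roots

/-!
# A 2-element commuting with `P` on `Q/X` is trivial there
-/

set_option autoImplicit false
set_option linter.style.haveILetI false
set_option linter.unusedSectionVars false
set_option linter.unusedVariables false

namespace Cfsg.Agent.OddHalf.D7Ex

open Subgroup Cfsg.Agent.OddHalf.SL.Defs
open scoped commutatorElement

section Fix

variable {G : Type*} [Group G]

/-- A 2-element normalising `A Z` and `Z` fixes a nontrivial coset `a Z`. -/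
theorem exists_fix {A Z : Subgroup G} [Finite A] {n : G} {k : ℕ} (hn : n ^ 2 ^ k = 1)
    (hA : 2 ∣ Nat.card A) (hAZ : ∀ x ∈ A, x ∈ Z → x = 1) (hZn : ∀ z ∈ Z, n * z * n⁻¹ ∈ Z)
    (hdec : ∀ u ∈ A, ∃ u' ∈ A, ∃ z ∈ Z, n * u * n⁻¹ = u' * z) :
    ∃ u ∈ A, u ≠ 1 ∧ u⁻¹ * (n * u * n⁻¹) ∈ Z := by
  classical
  haveI : Fintype A := Fintype.ofFinite A
  haveI : Fact (Nat.Prime 2) := ⟨Nat.prime_two⟩
  choose! g hgA z hz hg using hdec
  let f : Function.End A := fun u => ⟨g u, hgA u u.2⟩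
  have huniq : ∀ u ∈ A, ∀ v ∈ A, ∀ z ∈ Z, u = v * z → u = v := by
    intro u hu v hv z hz e
    have h1 : v⁻¹ * u = 1 := hAZ _ (mul_mem (inv_mem hv) hu) (by rw [e, inv_mul_cancel_left]; exact hz)
    exact (inv_mul_eq_one.1 h1).symm
  have hpow : ∀ j : ℕ, ∀ u : A, ∃ z ∈ Z, n ^ j * (u : G) * (n ^ j)⁻¹ = ((f ^ j) u : A) * z := by
    intro j
    induction j with
    | zero =>
      intro u
      refine ⟨1, one_mem _, ?_⟩
      have e0 : ((f ^ 0) u : A) = u := by rw [pow_zero]; rfl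
      rw [e0, pow_zero]; group
    | succ j ih =>
      intro u
      obtain ⟨z1, hz1, e1⟩ := ih u
      have e2 := hg ((f ^ j) u : A) ((f ^ j) u).2
      refine ⟨z ((f ^ j) u : A) * (n * z1 * n⁻¹), mul_mem (hz _ ((f ^ j) u).2) (hZn z1 hz1), ?_⟩
      have e3 : ((f ^ (j + 1)) u : A) = f ((f ^ j) u) := by
        rw [pow_succ' f j]; rfl
      rw [e3]
      show n ^ (j + 1) * (u : G) * (n ^ (j + 1))⁻¹ = g ((f ^ j) u : A) * (z ((f ^ j) u : A) * (n * z1 * n⁻¹))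
      calc n ^ (j + 1) * (u : G) * (n ^ (j + 1))⁻¹ = n * (n ^ j * (u : G) * (n ^ j)⁻¹) * n⁻¹ := by
            rw [pow_succ' n j]; group
        _ = (n * ((f ^ j) u : A) * n⁻¹) * (n * z1 * n⁻¹) := by rw [e1]; group
        _ = _ := by rw [e2]; group
  have hf : f ^ 2 ^ k = 1 := by
    funext u
    obtain ⟨z1, hz1, e1⟩ := hpow (2 ^ k) u
    rw [hn, one_mul, inv_one, mul_one] at e1
    exact Subtype.ext (huniq _ u.2 _ ((f ^ 2 ^ k) u).2 z1 hz1 e1).symm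
  have hf1 : f 1 = 1 := by
    have e1 := hg 1 (one_mem _)
    rw [mul_one, mul_inv_cancel] at e1
    exact Subtype.ext (huniq 1 (one_mem _) _ (hgA 1 (one_mem _)) _ (hz 1 (one_mem _)) e1).symm
  have hcard := Equiv.Perm.card_fixedPoints_modEq hf
  rw [Nat.card_eq_fintype_card] at hA
  have h2 : 2 ∣ Fintype.card f.fixedPoints := (Nat.modEq_zero_iff_dvd.1
    (hcard.symm.trans (Nat.modEq_zero_iff_dvd.2 hA)))
  have h1mem : (1 : A) ∈ f.fixedPoints := hf1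
  have h3 : 1 < Fintype.card f.fixedPoints := by
    have : 0 < Fintype.card f.fixedPoints := Fintype.card_pos_iff.2 ⟨⟨1, h1mem⟩⟩
    omega
  obtain ⟨⟨u, hu⟩, hne⟩ := Fintype.exists_ne_of_one_lt_card h3 ⟨1, h1mem⟩
  have hu' : f u = u := hu
  refine ⟨u, u.2, fun h => hne (Subtype.ext (Subtype.ext h)), ?_⟩
  have e1 := hg u u.2
  have e2 : g u = u := congrArg Subtype.val hu'
  rw [e1, e2, inv_mul_cancel_left]
  exact hz u u.2

end Fix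

variable {L : Type*} [AddCommGroup L] {G : Type*} [Group G]

/-- The subgroup `⟨X b : (b, r) = 1 = (b, d)⟩ X r`. -/
def Rd (B : L → L → ℤ) (Φ : Set L) (X : L → Subgroup G) (r d : L) : Subgroup G :=
  QS X {b | b ∈ Ph1 B Φ r ∧ B b d = 1} r

/-- Enough root groups in `P` to separate, and enough torus. -/
structure PT (B : L → L → ℤ) (Φ : Set L) (X : L → Subgroup G) (r : L) (P : Subgroup G) : Prop where
  sep : ∀ b ∈ Ph1 B Φ r, ∀ b' ∈ Ph1 B Φ r, b' ≠ b → ∃ d ∈ Φ, X d ≤ P ∧ B d r = 0 ∧ B b d = 1 ∧ B b' d ≠ 1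
  tor : ∀ b ∈ Ph1 B Φ r, ∀ x ∈ X b, ∀ y ∈ X b, x ≠ 1 → y ≠ 1 → ∃ p ∈ P, p * x * p⁻¹ = y

namespace RG

variable {B : L → L → ℤ} {Φ : Set L} {X : L → Subgroup G}

/-- `[X d, Q] ≤ Rd`. -/
theorem comm_mem_Rd (h : RG B Φ X) {r d : L} (hr : r ∈ Φ) (hd : d ∈ Φ) (hdr : B d r = 0) {p q : G} (hp : p ∈ X d)
    (hq : q ∈ QS X (Ph1 B Φ r) r) : p * q * p⁻¹ * q⁻¹ ∈ Rd B Φ X r d := by
  have hS : {b | b ∈ Ph1 B Φ r ∧ B b d = 1} ⊆ Ph1 B Φ r := fun b hb => hb.1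
  let D : Subgroup G :=
    { carrier := {q | q ∈ QS X (Ph1 B Φ r) r ∧ p * q * p⁻¹ * q⁻¹ ∈ Rd B Φ X r d}
      one_mem' := ⟨one_mem _, by rw [mul_one, mul_inv_cancel, inv_one, mul_one]; exact one_mem _⟩
      mul_mem' := by
        rintro a b ⟨ha, ha2⟩ ⟨hb, hb2⟩
        refine ⟨mul_mem ha hb, ?_⟩
        have e : p * (a * b) * p⁻¹ * (a * b)⁻¹ = (p * a * p⁻¹ * a⁻¹) * (a * (p * b * p⁻¹ * b⁻¹) * a⁻¹) := by group
        rw [e]
        exact mul_mem ha2 (h.Q_norm hr _ ha hS hb2)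
      inv_mem' := by
        rintro a ⟨ha, ha2⟩
        refine ⟨inv_mem ha, ?_⟩
        have e : p * a⁻¹ * p⁻¹ * a⁻¹⁻¹ = a⁻¹ * (p * a * p⁻¹ * a⁻¹)⁻¹ * a⁻¹⁻¹ := by group
        rw [e]
        exact h.Q_norm hr _ (inv_mem ha) hS (inv_mem ha2) }
  have hle : QS X (Ph1 B Φ r) r ≤ D := by
    refine QS_le (fun x hx => ⟨X_le_QS X _ r hx, ?_⟩) fun b hb x hx => ⟨le_QS X r hb hx, ?_⟩
    · have e : p * x * p⁻¹ * x⁻¹ = 1 := by
        rw [h.pos d hd r hr (by rw [hdr]) p hp x hx]; group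
      rw [e]; exact one_mem _
    · rcases h.cases hd hb.1 with h1 | h1 | h1
      · have e : p * x * p⁻¹ * x⁻¹ = 1 := by
          rw [h.pos d hd b hb.1 h1 p hp x hx]; group
        rw [e]; exact one_mem _
      · have h2 := h.roots.add d hd b hb.1 h1
        refine le_QS X (S := {b | b ∈ Ph1 B Φ r ∧ B b d = 1}) r ⟨⟨h2, ?_⟩, ?_⟩ (h.neg d hd b hb.1 h1 p hp x hx)
        · rw [h.roots.add_left, hdr, hb.2]; norm_num
        · rw [h.roots.add_left, h.roots.two d hd, h.roots.symm b d, h1]; norm_num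
      · exfalso
        rw [h1, h.roots.neg_left, hb.2] at hdr
        omega
  exact (hle hq).2

/-- An element trivial on `P/Q` normalises `Rd`. -/
theorem conj_mem_Rd (h : RG B Φ X) {r d : L} (hr : r ∈ Φ) (hd : d ∈ Φ) (hdr : B d r = 0) {P : Subgroup G}
    (hdP : X d ≤ P) {n : G} (hnQ : ∀ q ∈ QS X (Ph1 B Φ r) r, n * q * n⁻¹ ∈ QS X (Ph1 B Φ r) r)
    (hnP : ∀ p ∈ P, n * p * n⁻¹ * p⁻¹ ∈ QS X (Ph1 B Φ r) r) {b : L} (hb : b ∈ Ph1 B Φ r) (hbd : B b d = 1)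
    {u : G} (hu : u ∈ X b) : n * u * n⁻¹ ∈ Rd B Φ X r d := by
  have R := h.roots
  have hS : {b | b ∈ Ph1 B Φ r ∧ B b d = 1} ⊆ Ph1 B Φ r := fun b hb => hb.1
  have ha : b - d ∈ Φ := R.sub_mem hb.1 hd hbd
  have ha1 : b - d ∈ Ph1 B Φ r := ⟨ha, by rw [R.sub_left, hb.2, hdr]; norm_num⟩
  have hda : B d (b - d) = -1 := by rw [R.sub_right, R.symm d b, hbd, R.two d hd]; norm_num
  obtain ⟨p, hp, hp1⟩ := h.ne d hd
  obtain ⟨x, hx, eu⟩ := h.sur d hd _ ha hda p hp hp1 u (by rw [add_sub_cancel]; exact hu)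
  have hx' := hnQ x (le_QS X r ha1 hx)
  have hq1 := hnP p (hdP hp)
  set x' := n * x * n⁻¹ with hx'd
  set q1 := n * p * n⁻¹ * p⁻¹ with hq1d
  have e : n * u * n⁻¹ = q1 * (p * x' * p⁻¹ * x'⁻¹) * q1⁻¹ * (q1 * x' * q1⁻¹ * x'⁻¹) := by
    rw [← eu, hq1d, hx'd]; group
  rw [e]
  exact mul_mem (h.Q_norm hr _ hq1 hS (h.comm_mem_Rd hr hd hdr hp hx'))
    (X_le_QS X _ r (h.QQ hr hq1 hx'))

/-- An element trivial on `P/Q` normalises `X b X r`. -/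
theorem conj_mem_b (h : RG B Φ X) {r : L} (hr : r ∈ Φ) {P : Subgroup G} (hT : PT B Φ X r P) {n : G}
    (hnQ : ∀ q ∈ QS X (Ph1 B Φ r) r, n * q * n⁻¹ ∈ QS X (Ph1 B Φ r) r)
    (hnP : ∀ p ∈ P, n * p * n⁻¹ * p⁻¹ ∈ QS X (Ph1 B Φ r) r) {b : L} (hb : b ∈ Ph1 B Φ r)
    {u : G} (hu : u ∈ X b) : ∃ u' ∈ X b, ∃ z ∈ X r, n * u * n⁻¹ = u' * z := by
  have h1 : n * u * n⁻¹ ∈ QS X (Ph1 B Φ r ∩ {b}) r := by
    refine h.mem_QS hr (hnQ u (le_QS X r hb hu)) fun b' hb' hne y hy => ?_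
    obtain ⟨d, hd, hdP, hdr, hbd, hbd'⟩ := hT.sep b hb b' hb' hne
    exact h.comm_of_not_mem hr (S := {b | b ∈ Ph1 B Φ r ∧ B b d = 1}) (fun b hb => hb.1) hb'
      (fun h => hbd' h.2) (h.conj_mem_Rd hr hd hdr hdP hnQ hnP hb hbd hu) hy
  have hbm : b ∈ Ph1 B Φ r ∩ {b} := ⟨hb, rfl⟩
  have hsub : Ph1 B Φ r ∩ {b} ⊆ Ph1 B Φ r := Set.inter_subset_left
  obtain ⟨u', hu', z, hz, e⟩ := h.split hr hsub hbm h1
  have h2 : QS X ((Ph1 B Φ r ∩ {b}) \ {b}) r ≤ X r := QS_le le_rfl fun c hc => absurd hc.1.2 hc.2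
  exact ⟨u', hu', z, h2 hz, e⟩

/-- A 2-element commuting with `P` on `Q/X` is trivial there. -/
theorem lin (h : RG B Φ X) [Finite G] {r : L} (hr : r ∈ Φ) {P : Subgroup G} (hPP : P ≤ PR B Φ X r)
    (hT : PT B Φ X r P) {n : G}
    (hn2 : IsPGroup 2 (zpowers n))
    (hnQ : ∀ q ∈ QS X (Ph1 B Φ r) r, n * q * n⁻¹ ∈ QS X (Ph1 B Φ r) r) (hnX : ∀ x ∈ X r, n * x * n⁻¹ ∈ X r)
    (hnP : ∀ p ∈ P, n * p * n⁻¹ * p⁻¹ ∈ QS X (Ph1 B Φ r) r) {q : G} (hq : q ∈ QS X (Ph1 B Φ r) r) :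
    n * q * n⁻¹ * q⁻¹ ∈ X r := by
  obtain ⟨k, hk⟩ := hn2 ⟨n, mem_zpowers n⟩
  have hk' : n ^ 2 ^ k = 1 := congrArg Subtype.val hk
  -- on `X b`
  have hb : ∀ b ∈ Ph1 B Φ r, ∀ u ∈ X b, n * u * n⁻¹ * u⁻¹ ∈ X r := by
    intro b hb u hu
    by_cases hu1 : u = 1
    · rw [hu1, mul_one, mul_inv_cancel, inv_one, mul_one]; exact one_mem _
    have hcard : 2 ∣ Nat.card (X b) := by
      have h1 : orderOf u = 2 := orderOf_eq_prime (by rw [pow_two]; exact h.X2 b hb.1 u hu) hu1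
      rw [← h1, ← Subgroup.orderOf_mk u hu]
      exact orderOf_dvd_natCard _
    obtain ⟨u0, hu0, hu01, hfix⟩ := exists_fix (Z := X r) hk' hcard (fun x hx hx' => h.inf_eq hr hb hx hx') hnX
      (fun u hu => h.conj_mem_b hr hT hnQ hnP hb hu)
    obtain ⟨p, hp, e⟩ := hT.tor b hb u0 hu0 u hu hu01 hu1
    have hq1 := hnP p hp
    set q1 := n * p * n⁻¹ * p⁻¹ with hq1d
    set z := u0⁻¹ * (n * u0 * n⁻¹) with hzd
    have huQ : u ∈ QS X (Ph1 B Φ r) r := le_QS X r hb hu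
    have hzu := h.XP hr hfix (h.QS_le_PR hr subset_rfl huQ)
    have hzp := h.XP hr hfix (inv_mem (hPP hp))
    have e2 : n * u * n⁻¹ * u⁻¹ = (q1 * u * q1⁻¹ * u⁻¹) * z := by
      calc n * u * n⁻¹ * u⁻¹ = (q1 * p) * (u0 * z) * (q1 * p)⁻¹ * u⁻¹ := by
            rw [← e, hq1d, hzd]; group
        _ = q1 * p * u0 * (z * p⁻¹) * q1⁻¹ * u⁻¹ := by group
        _ = q1 * (p * u0 * p⁻¹) * (z * q1⁻¹) * u⁻¹ := by rw [hzp]; group
        _ = q1 * u * q1⁻¹ * (z * u⁻¹) := by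
          rw [e, h.XP hr hfix (h.QS_le_PR hr subset_rfl (inv_mem hq1))]; group
        _ = _ := by rw [h.XP hr hfix (h.QS_le_PR hr subset_rfl (inv_mem huQ))]; group
    rw [e2]
    exact mul_mem (h.QQ hr hq1 huQ) hfix
  let D : Subgroup G :=
    { carrier := {q | q ∈ QS X (Ph1 B Φ r) r ∧ n * q * n⁻¹ * q⁻¹ ∈ X r}
      one_mem' := ⟨one_mem _, by rw [mul_one, mul_inv_cancel, inv_one, mul_one]; exact one_mem _⟩
      mul_mem' := by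
        rintro a b ⟨ha, ha2⟩ ⟨hb, hb2⟩
        refine ⟨mul_mem ha hb, ?_⟩
        have e : n * (a * b) * n⁻¹ * (a * b)⁻¹ = (n * a * n⁻¹ * a⁻¹) * (a * (n * b * n⁻¹ * b⁻¹) * a⁻¹) := by group
        rw [e, ← h.XP hr hb2 (h.QS_le_PR hr subset_rfl ha), mul_inv_cancel_right]
        exact mul_mem ha2 hb2
      inv_mem' := by
        rintro a ⟨ha, ha2⟩
        refine ⟨inv_mem ha, ?_⟩
        have e : n * a⁻¹ * n⁻¹ * a⁻¹⁻¹ = a⁻¹ * ((n * a * n⁻¹ * a⁻¹)⁻¹ * a) := by group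
        rw [e, h.XP hr (inv_mem ha2) (h.QS_le_PR hr subset_rfl ha), inv_mul_cancel_left]
        exact inv_mem ha2 }
  have hle : QS X (Ph1 B Φ r) r ≤ D := by
    refine QS_le (fun x hx => ⟨X_le_QS X _ r hx, mul_mem (hnX x hx) (inv_mem hx)⟩) fun b hb' x hx =>
      ⟨le_QS X r hb' hx, hb b hb' x hx⟩
  exact (hle hq).2

end RG

end Cfsg.Agent.OddHalf.D7Ex
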