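import Cfsg.Agent.OddHalf.D7Ex.Lin

/-!
# `q = 2`, an isolated root `b` of `r^⊥`: the elements trivial on `P/Q` (helper875)

`P = ⟨X d : (d, r) = (d, b) = 0⟩ Q`, `(c, b) = ± 1` for all `c` with `(c, r) = 1`: `Q/X` is a sum of pairs
`{c, c ∓ b}`, on which an element `n` trivial on `P/Q` acts by one and the same matrix; some `a ∈ ⟨X b, X (-b)⟩` acts
in the same way: **`exists_A`** : `a⁻¹ n` is trivial on `Q/X`.
-/

set_option autoImplicit false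
set_option linter.style.haveILetI false
set_option linter.unusedSectionVars false
set_option linter.unusedVariables false

namespace Cfsg.Agent.OddHalf.D7Ex

open Subgroup Cfsg.Agent.OddHalf.SL.Defs
open scoped commutatorElement

variable {L : Type*} [AddCommGroup L] {G : Type*} [Group G]

/-- `b` is an isolated root of `r^⊥` and `P = ⟨X d : (d, r) = (d, b) = 0⟩ Q`. -/
structure PA (B : L → L → ℤ) (Φ : Set L) (X : L → Subgroup G) (r b : L) (P : Subgroup G) : Prop where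
  hb : b ∈ Φ
  br : B b r = 0
  pm : ∀ c ∈ Ph1 B Φ r, B c b = 1 ∨ B c b = -1
  ld : ∀ d ∈ Φ, B d r = 0 → B d b = 0 → X d ≤ P
  lt : P ≤ (⨆ d ∈ {d | d ∈ Φ ∧ B d r = 0 ∧ B d b = 0}, X d) ⊔ QS X (Ph1 B Φ r) r
  ex : ∀ c ∈ Ph1 B Φ r, ∃ d ∈ Φ, B d r = 0 ∧ B d b = 0 ∧ B c d = 1
  two : ∀ a ∈ Φ, ∀ x ∈ X a, ∀ y ∈ X a, x ≠ 1 → y ≠ 1 → x = y

namespace PA

variable {B : L → L → ℤ} {Φ : Set L} {X : L → Subgroup G} {r b : L} {P : Subgroup G}

theorem neg (R : Roots B Φ) (p : PA B Φ X r b P) : PA B Φ X r (-b) P where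
  hb := R.neg_mem b p.hb
  br := by rw [R.neg_left, p.br, neg_zero]
  pm := fun c hc => by
    rcases p.pm c hc with h | h
    · right; rw [R.neg_right, h]
    · left; rw [R.neg_right, h]; norm_num
  ld := fun d hd h1 h2 => p.ld d hd h1 (by rw [R.neg_right] at h2; omega)
  lt := by
    refine p.lt.trans (sup_le_sup_right (biSup_mono fun d hd => ⟨hd.1, hd.2.1, ?_⟩) _)
    rw [R.neg_right, hd.2.2, neg_zero]
  ex := fun c hc => by
    obtain ⟨d, hd, h1, h2, h3⟩ := p.ex c hc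
    exact ⟨d, hd, h1, by rw [R.neg_right, h2, neg_zero], h3⟩
  two := p.two

/-- `c + b` for `(c, b) = -1` -/
theorem add_mem (R : Roots B Φ) (p : PA B Φ X r b P) {c : L} (hc : c ∈ Ph1 B Φ r) (h1 : B c b = -1) :
    c + b ∈ Ph1 B Φ r ∧ B (c + b) b = 1 := by
  refine ⟨⟨R.add c hc.1 b p.hb h1, ?_⟩, ?_⟩
  · rw [R.add_left, hc.2, p.br]; norm_num
  · rw [R.add_left, h1, R.two b p.hb]; norm_num

/-- `c - b` for `(c, b) = 1` -/
theorem sub_mem (R : Roots B Φ) (p : PA B Φ X r b P) {c : L} (hc : c ∈ Ph1 B Φ r) (h1 : B c b = 1) :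
    c - b ∈ Ph1 B Φ r ∧ B (c - b) b = -1 := by
  refine ⟨⟨R.sub_mem hc.1 p.hb h1, ?_⟩, ?_⟩
  · rw [R.sub_left, hc.2, p.br]; norm_num
  · rw [R.sub_left, h1, R.two b p.hb]; norm_num

/-- two roots of `Ph1` on the same side of `b` -/
theorem rel (h : RG B Φ X) (hr : r ∈ Φ) (p : PA B Φ X r b P) {c c' : L} (hc : c ∈ Ph1 B Φ r) (hc' : c' ∈ Ph1 B Φ r)
    (h1 : B c b = 1) (h1' : B c' b = 1) : c = c' ∨ B c c' = 1 ∨ c' = r + b - c := by
  have R := h.roots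
  rcases h.cases hc.1 hc'.1 with h2 | h2 | h2
  · have h3 := R.le c hc.1 c' hc'.1
    rcases (show B c c' = 0 ∨ B c c' = 1 ∨ B c c' = 2 by omega) with h4 | h4 | h4
    · right; right
      have h5 := h.sub_mem1 hr hc
      have h6 : B (r - c) b = -1 := by
        rw [R.sub_left, R.symm r b, p.br, h1]; norm_num
      have h7 := (p.add_mem R h5 h6).1
      have h8 : B (r - c + b) c' = 2 := by
        rw [R.add_left, R.sub_left, R.symm r, hc'.2, h4, R.symm b, h1']; norm_num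
      rw [← R.eq _ h7.1 _ hc'.1 h8]; abel
    · exact Or.inr (Or.inl h4)
    · exact Or.inl (R.eq _ hc.1 _ hc'.1 h4)
  · exfalso
    have h3 := h.add_eq hr hc hc' h2
    have h4 := R.add_left c c' b
    rw [h3, R.symm r b, p.br, h1, h1'] at h4
    omega
  · exfalso
    have h3 := hc.2
    rw [h2, R.neg_left, hc'.2] at h3
    omega

/-- separation of different pairs, one side -/
theorem sep1 (h : RG B Φ X) (hr : r ∈ Φ) (p : PA B Φ X r b P) {c c' : L} (hc : c ∈ Ph1 B Φ r)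
    (hc' : c' ∈ Ph1 B Φ r) (h1 : B c b = 1) (h1' : B c' b = 1) (hne : c' ≠ c) :
    ∃ d ∈ Φ, B d r = 0 ∧ B d b = 0 ∧ B c d = 1 ∧ B c' d ≠ 1 := by
  have R := h.roots
  rcases p.rel h hr hc hc' h1 h1' with h2 | h2 | h2
  · exact absurd h2.symm hne
  · refine ⟨c - c', R.sub_mem hc.1 hc'.1 h2, ?_, ?_, ?_, ?_⟩
    · rw [R.sub_left, hc.2, hc'.2]; norm_num
    · rw [R.sub_left, h1, h1']; norm_num
    · rw [R.sub_right, R.two c hc.1, h2]; norm_num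
    · rw [R.sub_right, R.two c' hc'.1, R.symm c', h2]; norm_num
  · obtain ⟨d, hd, h3, h4, h5⟩ := p.ex c hc
    refine ⟨d, hd, h3, h4, h5, ?_⟩
    rw [h2, R.sub_left, R.add_left, R.symm r, h3, R.symm b, h4, h5]; norm_num

/-- separation of different pairs -/
theorem sep (h : RG B Φ X) (hr : r ∈ Φ) (p : PA B Φ X r b P) {c c' : L} (hc : c ∈ Ph1 B Φ r)
    (hc' : c' ∈ Ph1 B Φ r) (h1 : B c b = 1) (hne : c' ∉ ({c, c - b} : Set L)) :
    ∃ d ∈ Φ, B d r = 0 ∧ B d b = 0 ∧ B c d = 1 ∧ B c' d ≠ 1 := by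
  have R := h.roots
  rw [Set.mem_insert_iff, Set.mem_singleton_iff, not_or] at hne
  rcases p.pm c' hc' with h2 | h2
  · exact p.sep1 h hr hc hc' h1 h2 hne.1
  · obtain ⟨h3, h4⟩ := p.add_mem R hc' h2
    obtain ⟨d, hd, h5, h6, h7, h8⟩ := p.sep1 h hr hc h3 h1 h4 (fun e => hne.2 (eq_sub_of_add_eq e))
    refine ⟨d, hd, h5, h6, h7, fun e => h8 ?_⟩
    rw [R.add_left, e, R.symm b, h6]; norm_num

/-- an element trivial on `P/Q` preserves the pairs -/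
theorem conj_pair (h : RG B Φ X) (hr : r ∈ Φ) (p : PA B Φ X r b P) {n : G}
    (hnQ : ∀ q ∈ QS X (Ph1 B Φ r) r, n * q * n⁻¹ ∈ QS X (Ph1 B Φ r) r)
    (hnP : ∀ p ∈ P, n * p * n⁻¹ * p⁻¹ ∈ QS X (Ph1 B Φ r) r) {c : L} (hc : c ∈ Ph1 B Φ r) (h1 : B c b = 1)
    {u : G} (hu : u ∈ X c) : ∃ x ∈ X c, ∃ y ∈ X (c - b), ∃ z ∈ X r, n * u * n⁻¹ = x * y * z := by
  have R := h.roots
  have hs := p.sub_mem R hc h1
  have h2 : n * u * n⁻¹ ∈ QS X (Ph1 B Φ r ∩ {c, c - b}) r := by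
    refine h.mem_QS hr (hnQ u (le_QS X r hc hu)) fun c' hc' hne y hy => ?_
    obtain ⟨d, hd, hdr, hdb, hcd, hcd'⟩ := p.sep h hr hc hc' h1 hne
    exact h.comm_of_not_mem hr (S := {b | b ∈ Ph1 B Φ r ∧ B b d = 1}) (fun b hb => hb.1) hc'
      (fun h => hcd' h.2) (h.conj_mem_Rd hr hd hdr (p.ld d hd hdr hdb) hnQ hnP hc hcd hu) hy
  have hsub : Ph1 B Φ r ∩ {c, c - b} ⊆ Ph1 B Φ r := Set.inter_subset_left
  obtain ⟨x, hx, w, hw, e⟩ := h.split hr hsub (b := c) ⟨hc, Set.mem_insert _ _⟩ h2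
  have hcb : c - b ≠ c := by
    intro e
    have h3 := hs.2
    rw [e, h1] at h3
    omega
  obtain ⟨y, hy, z, hz, e'⟩ := h.split hr (S := (Ph1 B Φ r ∩ {c, c - b}) \ {c}) (fun a ha => ha.1.1) (b := c - b)
    ⟨⟨hs.1, Set.mem_insert_of_mem _ rfl⟩, hcb⟩ hw
  have h3 : QS X (((Ph1 B Φ r ∩ {c, c - b}) \ {c}) \ {c - b}) r ≤ X r := QS_le le_rfl fun a ha => by
    rcases ha.1.1.2 with h4 | h4
    · exact absurd h4 ha.1.2
    · exact absurd h4 ha.2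
  exact ⟨x, hx, y, hy, z, h3 hz, by rw [e, e', mul_assoc]⟩

/-- the elements of `X b` are trivial on `P/Q` -/
theorem comm_P (h : RG B Φ X) (hr : r ∈ Φ) (p : PA B Φ X r b P) {β : G} (hβ : β ∈ X b) :
    ∀ y ∈ P, β * y * β⁻¹ * y⁻¹ ∈ QS X (Ph1 B Φ r) r := by
  have hβP : β ∈ PR B Φ X r := le_PR X p.hb (by rw [p.br]) hβ
  let D : Subgroup G :=
    { carrier := {y | y ∈ PR B Φ X r ∧ β * y * β⁻¹ * y⁻¹ ∈ QS X (Ph1 B Φ r) r}
      one_mem' := ⟨one_mem _, by rw [mul_one, mul_inv_cancel, inv_one, mul_one]; exact one_mem _⟩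
      mul_mem' := by
        rintro a c ⟨ha, ha2⟩ ⟨hc, hc2⟩
        refine ⟨mul_mem ha hc, ?_⟩
        have e : β * (a * c) * β⁻¹ * (a * c)⁻¹ = (β * a * β⁻¹ * a⁻¹) * (a * (β * c * β⁻¹ * c⁻¹) * a⁻¹) := by group
        rw [e]
        exact mul_mem ha2 (h.PQ hr ha hc2)
      inv_mem' := by
        rintro a ⟨ha, ha2⟩
        refine ⟨inv_mem ha, ?_⟩
        have e : β * a⁻¹ * β⁻¹ * a⁻¹⁻¹ = a⁻¹ * (β * a * β⁻¹ * a⁻¹)⁻¹ * a⁻¹⁻¹ := by group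
        rw [e]
        exact h.PQ hr (inv_mem ha) (inv_mem ha2) }
  have hle : (⨆ d ∈ {d | d ∈ Φ ∧ B d r = 0 ∧ B d b = 0}, X d) ⊔ QS X (Ph1 B Φ r) r ≤ D := by
    refine sup_le (iSup₂_le fun d hd y hy => ⟨le_PR X hd.1 (by rw [hd.2.1]) hy, ?_⟩) fun y hy =>
      ⟨h.QS_le_PR hr subset_rfl hy, mul_mem (h.PQ hr hβP hy) (inv_mem hy)⟩
    have e : β * y * β⁻¹ * y⁻¹ = 1 := by
      rw [h.pos b p.hb d hd.1 (by rw [h.roots.symm, hd.2.2]) β hβ y hy]; group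
    rw [e]; exact one_mem _
  exact fun y hy => (hle (p.lt hy)).2

theorem A_le_PR (h : RG B Φ X) (p : PA B Φ X r b P) : X b ⊔ X (-b) ≤ PR B Φ X r :=
  sup_le (le_PR X p.hb (by rw [p.br])) (le_PR X (h.roots.neg_mem b p.hb) (by rw [h.roots.neg_left, p.br]; norm_num))

/-- the elements of `⟨X b, X (-b)⟩` are trivial on `P/Q` -/
theorem A_comm (h : RG B Φ X) (hr : r ∈ Φ) (p : PA B Φ X r b P) :
    ∀ a ∈ X b ⊔ X (-b), ∀ y ∈ P, a * y * a⁻¹ * y⁻¹ ∈ QS X (Ph1 B Φ r) r := by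
  have hA := p.A_le_PR h
  let D : Subgroup G :=
    { carrier := {a | a ∈ PR B Φ X r ∧ ∀ y ∈ P, a * y * a⁻¹ * y⁻¹ ∈ QS X (Ph1 B Φ r) r}
      one_mem' := ⟨one_mem _, fun y _ => by rw [one_mul, inv_one, mul_one, mul_inv_cancel]; exact one_mem _⟩
      mul_mem' := by
        rintro a c ⟨ha, ha2⟩ ⟨hc, hc2⟩
        refine ⟨mul_mem ha hc, fun y hy => ?_⟩
        have e : (a * c) * y * (a * c)⁻¹ * y⁻¹ = (a * (c * y * c⁻¹ * y⁻¹) * a⁻¹) * (a * y * a⁻¹ * y⁻¹) := by group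
        rw [e]
        exact mul_mem (h.PQ hr ha (hc2 y hy)) (ha2 y hy)
      inv_mem' := by
        rintro a ⟨ha, ha2⟩
        refine ⟨inv_mem ha, fun y hy => ?_⟩
        have e : a⁻¹ * y * a⁻¹⁻¹ * y⁻¹ = a⁻¹ * (a * y * a⁻¹ * y⁻¹)⁻¹ * a⁻¹⁻¹ := by group
        rw [e]
        exact h.PQ hr (inv_mem ha) (inv_mem (ha2 y hy)) }
  have hle : X b ⊔ X (-b) ≤ D := sup_le (fun a ha => ⟨hA (mem_sup_left ha), p.comm_P h hr ha⟩)
    fun a ha => ⟨hA (mem_sup_right ha), (p.neg h.roots).comm_P h hr ha⟩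
  exact fun a ha => (hle ha).2

/-- triviality at `c` implies triviality at `d + c`, `(d, c) = -1` -/
theorem transport (h : RG B Φ X) (hr : r ∈ Φ) (hPP : P ≤ PR B Φ X r) {n : G}
    (hnX : ∀ x ∈ X r, n * x * n⁻¹ ∈ X r)
    (hnP : ∀ p ∈ P, n * p * n⁻¹ * p⁻¹ ∈ QS X (Ph1 B Φ r) r) {c d : L} (hc : c ∈ Ph1 B Φ r) (hd : d ∈ Φ)
    (hdP : X d ≤ P) (hdr : B d r = 0) (hdc : B d c = -1) (H : ∀ u ∈ X c, n * u * n⁻¹ * u⁻¹ ∈ X r) :
    ∀ v ∈ X (d + c), n * v * n⁻¹ * v⁻¹ ∈ X r := by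
  intro v hv
  obtain ⟨y, hy, hy1⟩ := h.ne d hd
  obtain ⟨u, hu, e⟩ := h.sur d hd c hc.1 hdc y hy hy1 v hv
  have hq := hnP y (hdP hy)
  have hz := H u hu
  have huQ : u ∈ QS X (Ph1 B Φ r) r := le_QS X r hc hu
  have huP := h.QS_le_PR hr subset_rfl huQ
  have hdc1 : d + c ∈ Ph1 B Φ r := ⟨h.roots.add d hd c hc.1 hdc, by rw [h.roots.add_left, hdr, hc.2]; norm_num⟩
  have hvQ : v ∈ QS X (Ph1 B Φ r) r := le_QS X r hdc1 hv
  set q := n * y * n⁻¹ * y⁻¹ with hqd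
  set z := n * u * n⁻¹ * u⁻¹ with hzd
  have hqP := h.QS_le_PR hr subset_rfl hq
  have hyP := hPP (hdP hy)
  have e1 : n * v * n⁻¹ * v⁻¹ = (q * v * q⁻¹ * v⁻¹) * (v * (q * u * q⁻¹ * u⁻¹) * v⁻¹) := by
    have e2 : n * y * n⁻¹ = q * y := by rw [hqd]; group
    have e3 : n * u * n⁻¹ = u * z := by
      rw [← h.XP hr hz huP, hzd]; group
    have c1 : z * (q * y)⁻¹ = (q * y)⁻¹ * z := h.XP hr hz (inv_mem (mul_mem hqP hyP))
    calc n * v * n⁻¹ * v⁻¹ = (n * y * n⁻¹) * (n * u * n⁻¹) * (n * y * n⁻¹)⁻¹ * (n * u * n⁻¹)⁻¹ * v⁻¹ := by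
          rw [← e]; group
      _ = (q * y) * (u * z) * (q * y)⁻¹ * (u * z)⁻¹ * v⁻¹ := by rw [e2, e3]
      _ = (q * y) * u * (z * (q * y)⁻¹) * (u * z)⁻¹ * v⁻¹ := by group
      _ = q * (y * u * y⁻¹ * u⁻¹) * u * q⁻¹ * u⁻¹ * v⁻¹ := by rw [c1]; group
      _ = _ := by rw [e]; group
  rw [e1]
  have h4 := h.QQ hr hq huQ
  refine mul_mem (h.QQ hr hq hvQ) ?_
  rw [← h.XP hr h4 (h.QS_le_PR hr subset_rfl hvQ), mul_inv_cancel_right]
  exact h4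

/-- triviality at `c` implies triviality at `c'`, `(c, b) = 1 = (c', b)` -/
theorem conn (h : RG B Φ X) (hr : r ∈ Φ) (hPP : P ≤ PR B Φ X r) (p : PA B Φ X r b P) {n : G}
    (hnX : ∀ x ∈ X r, n * x * n⁻¹ ∈ X r)
    (hnP : ∀ p ∈ P, n * p * n⁻¹ * p⁻¹ ∈ QS X (Ph1 B Φ r) r) {c c' : L} (hc : c ∈ Ph1 B Φ r) (hc' : c' ∈ Ph1 B Φ r)
    (h1 : B c b = 1) (h1' : B c' b = 1) (H : ∀ u ∈ X c, n * u * n⁻¹ * u⁻¹ ∈ X r) :
    ∀ v ∈ X c', n * v * n⁻¹ * v⁻¹ ∈ X r := by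
  have R := h.roots
  have step : ∀ e ∈ Ph1 B Φ r, ∀ e' ∈ Ph1 B Φ r, B e b = 1 → B e' b = 1 → B e e' = 1 →
      (∀ u ∈ X e, n * u * n⁻¹ * u⁻¹ ∈ X r) → ∀ v ∈ X e', n * v * n⁻¹ * v⁻¹ ∈ X r := by
    intro e he e' he' h2 h2' h3 H
    have hd : e' - e ∈ Φ := R.sub_mem he'.1 he.1 (by rw [R.symm, h3])
    have hdr : B (e' - e) r = 0 := by rw [R.sub_left, he.2, he'.2]; norm_num
    have hdb : B (e' - e) b = 0 := by rw [R.sub_left, h2, h2']; norm_num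
    have := transport h hr hPP hnX hnP he hd (p.ld _ hd hdr hdb) hdr (by
      rw [R.sub_left, R.symm e', h3, R.two e he.1]; norm_num) H
    rwa [sub_add_cancel] at this
  rcases p.rel h hr hc hc' h1 h1' with h2 | h2 | h2
  · rw [← h2]; exact H
  · exact step c hc c' hc' h1 h1' h2 H
  · obtain ⟨d, hd, h3, h4, h5⟩ := p.ex c hc
    have he : c - d ∈ Ph1 B Φ r := ⟨R.sub_mem hc.1 hd h5, by rw [R.sub_left, hc.2, h3]; norm_num⟩
    have heb : B (c - d) b = 1 := by rw [R.sub_left, h1, h4]; norm_num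
    refine step (c - d) he c' hc' heb h1' ?_ (step c hc (c - d) he h1 heb ?_ H)
    · rw [h2, R.sub_right, R.add_right, he.2, heb, R.sub_left, R.two c hc.1, R.symm d, h5]; norm_num
    · rw [R.sub_right, R.two c hc.1, h5]; norm_num

/-- `g` maps `x` to `x'` modulo `Z` -/
def Em (Z : Subgroup G) (g x x' : G) : Prop := ∃ z ∈ Z, g * x * g⁻¹ = x' * z

theorem Em.comp {Z : Subgroup G} {g g' x x' x'' : G} (hg' : ∀ z ∈ Z, g' * z * g'⁻¹ ∈ Z) (h1 : Em Z g x x')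
    (h2 : Em Z g' x' x'') : Em Z (g' * g) x x'' := by
  obtain ⟨z, hz, e⟩ := h1
  obtain ⟨z', hz', e'⟩ := h2
  refine ⟨z' * (g' * z * g'⁻¹), mul_mem hz' (hg' z hz), ?_⟩
  calc g' * g * x * (g' * g)⁻¹ = g' * (g * x * g⁻¹) * g'⁻¹ := by group
    _ = (g' * x' * g'⁻¹) * (g' * z * g'⁻¹) := by rw [e]; group
    _ = _ := by rw [e']; group

theorem Em.mul {Z : Subgroup G} {g x x' y y' : G} (hc : ∀ z ∈ Z, z * y' = y' * z) (h1 : Em Z g x x')
    (h2 : Em Z g y y') : Em Z g (x * y) (x' * y') := by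
  obtain ⟨z, hz, e⟩ := h1
  obtain ⟨z', hz', e'⟩ := h2
  refine ⟨z * z', mul_mem hz hz', ?_⟩
  calc g * (x * y) * g⁻¹ = (g * x * g⁻¹) * (g * y * g⁻¹) := by group
    _ = x' * (z * y') * z' := by rw [e, e']; group
    _ = _ := by rw [hc z hz]; group

/-- an element trivial on `P/Q` agrees on one pair with an element of `⟨X b, X (-b)⟩` -/
theorem exists_pair (h : RG B Φ X) (hr : r ∈ Φ) (p : PA B Φ X r b P) {n : G}
    (hnX' : ∀ x ∈ X r, n⁻¹ * x * n ∈ X r) 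
    (hnQ : ∀ q ∈ QS X (Ph1 B Φ r) r, n * q * n⁻¹ ∈ QS X (Ph1 B Φ r) r)
    (hnP : ∀ p ∈ P, n * p * n⁻¹ * p⁻¹ ∈ QS X (Ph1 B Φ r) r) (hnX : ∀ x ∈ X r, n * x * n⁻¹ ∈ X r)
    {c : L} (hc : c ∈ Ph1 B Φ r) (h1 : B c b = 1) {x0 y0 β β' : G} (hx0 : x0 ∈ X c) (hx1 : x0 ≠ 1)
    (hy0 : y0 ∈ X (c - b)) (hy1 : y0 ≠ 1) (hβ : β ∈ X b) (hβ1 : β ≠ 1) (hβ' : β' ∈ X (-b)) (hβ1' : β' ≠ 1) :
    ∃ a ∈ X b ⊔ X (-b), Em (X r) (a * n) x0 x0 ∧ Em (X r) (a * n) y0 y0 := by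
  have R := h.roots
  have hs := p.sub_mem R hc h1
  have hnb : -b ∈ Φ := R.neg_mem b p.hb
  have hx0P := h.QS_le_PR hr subset_rfl (le_QS X r hc hx0)
  have hy0P := h.QS_le_PR hr subset_rfl (le_QS X r hs.1 hy0)
  have hβP : β ∈ PR B Φ X r := le_PR X p.hb (by rw [p.br]) hβ
  have hβP' : β' ∈ PR B Φ X r := le_PR X hnb (by rw [R.neg_left, p.br]; norm_num) hβ'
  have cx : ∀ z ∈ X r, z * x0 = x0 * z := fun z hz => h.XP hr hz hx0P
  have cy : ∀ z ∈ X r, z * y0 = y0 * z := fun z hz => h.XP hr hz hy0P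
  have nβ : ∀ z ∈ X r, β * z * β⁻¹ ∈ X r := fun z hz => by
    rw [← h.XP hr hz hβP, mul_inv_cancel_right]; exact hz
  have nβ' : ∀ z ∈ X r, β' * z * β'⁻¹ ∈ X r := fun z hz => by
    rw [← h.XP hr hz hβP', mul_inv_cancel_right]; exact hz
  have exy : x0 * y0 = y0 * x0 := h.pos c hc.1 _ hs.1.1 (by
    rw [R.sub_right, R.two c hc.1, h1]; norm_num) x0 hx0 y0 hy0
  have ex2 : x0 * x0 = 1 := h.X2 c hc.1 x0 hx0
  have ey2 : y0 * y0 = 1 := h.X2 _ hs.1.1 y0 hy0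
  -- the action of `β`
  have b1 : β * x0 * β⁻¹ = x0 := by
    rw [h.pos b p.hb c hc.1 (by rw [R.symm, h1]; norm_num) β hβ x0 hx0, mul_inv_cancel_right]
  have b2 : β * y0 * β⁻¹ = x0 * y0 := by
    have h2 : B b (c - b) = -1 := by rw [R.sub_right, R.symm, h1, R.two b p.hb]; norm_num
    have h3 := h.neg b p.hb _ hs.1.1 h2 β hβ y0 hy0
    rw [add_sub_cancel] at h3
    have h4 : β * y0 * β⁻¹ * y0⁻¹ ≠ 1 := by
      intro e
      have h5 : β * y0 = y0 * β := by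
        calc β * y0 = (β * y0 * β⁻¹ * y0⁻¹) * (y0 * β) := by group
          _ = y0 * β := by rw [e, one_mul]
      rcases h.inj b p.hb _ hs.1.1 h2 β hβ y0 hy0 h5 with h6 | h6
      · exact hβ1 h6
      · exact hy1 h6
    have h5 := p.two c hc.1 _ h3 x0 hx0 h4 hx1
    rw [← h5]; group
  have b3 : β' * x0 * β'⁻¹ = y0 * x0 := by
    have h2 : B (-b) c = -1 := by rw [R.neg_left, R.symm, h1]
    have h3 := h.neg _ hnb c hc.1 h2 β' hβ' x0 hx0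
    rw [neg_add_eq_sub] at h3
    have h4 : β' * x0 * β'⁻¹ * x0⁻¹ ≠ 1 := by
      intro e
      have h5 : β' * x0 = x0 * β' := by
        calc β' * x0 = (β' * x0 * β'⁻¹ * x0⁻¹) * (x0 * β') := by group
          _ = x0 * β' := by rw [e, one_mul]
      rcases h.inj _ hnb c hc.1 h2 β' hβ' x0 hx0 h5 with h6 | h6
      · exact hβ1' h6
      · exact hx1 h6
    have h5 := p.two _ hs.1.1 _ h3 y0 hy0 h4 hy1
    rw [← h5]; group
  have b4 : β' * y0 * β'⁻¹ = y0 := by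
    rw [h.pos _ hnb _ hs.1.1 (by rw [R.neg_left, R.symm, hs.2]; norm_num) β' hβ' y0 hy0, mul_inv_cancel_right]
  have Eb1 : Em (X r) β x0 x0 := ⟨1, one_mem _, by rw [b1, mul_one]⟩
  have Eb2 : Em (X r) β y0 (x0 * y0) := ⟨1, one_mem _, by rw [b2, mul_one]⟩
  have Eb3 : Em (X r) β' (x0 * y0) x0 := ⟨1, one_mem _, by
    calc β' * (x0 * y0) * β'⁻¹ = (β' * x0 * β'⁻¹) * (β' * y0 * β'⁻¹) := by group
      _ = x0 * (y0 * y0) := by rw [b3, b4, ← exy]; group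
      _ = x0 * 1 := by rw [ey2]⟩
  have Eb4 : Em (X r) β (x0 * y0) y0 := ⟨1, one_mem _, by
    calc β * (x0 * y0) * β⁻¹ = (β * x0 * β⁻¹) * (β * y0 * β⁻¹) := by group
      _ = (x0 * x0) * y0 := by rw [b1, b2]; group
      _ = y0 * 1 := by rw [ex2, one_mul, mul_one]⟩
  have Eb5 : Em (X r) β' y0 y0 := ⟨1, one_mem _, by rw [b4, mul_one]⟩
  -- `x0, y0, x0 y0 ∉ X r`
  have nx : ∀ w, w ∈ X c → w ≠ 1 → ∀ v ∈ X (c - b), w * v ∉ X r := by
    intro w hw hw1 v hv hwv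
    have hrc := h.sub_mem1 hr hc
    obtain ⟨a, ha, ha1⟩ := h.ne _ hrc.1
    have haP := h.QS_le_PR hr subset_rfl (le_QS X r hrc ha)
    have h2 : w * v * a = a * (w * v) := h.XP hr hwv haP
    have h3 : v * a = a * v := h.comm1 hr hs.1 hrc (by
      intro e
      have h4 : (c - b) + (r - c) = r - b := by abel
      rw [h4] at e
      have h5 : b = 0 := by simpa using e
      have h6 := R.two b p.hb
      rw [h5, R.zero_left] at h6
      omega) hv ha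
    have h4 : w * a = a * w := by
      have h5 : w * a * v = a * w * v := by
        calc w * a * v = w * (v * a) := by rw [h3]; group
          _ = w * v * a := by group
          _ = a * w * v := by rw [h2]; group
      exact mul_right_cancel h5
    have h5 : B c (r - c) = -1 := by rw [R.sub_right, hc.2, R.two c hc.1]; norm_num
    rcases h.inj c hc.1 _ hrc.1 h5 w hw a ha h4 with h6 | h6
    · exact hw1 h6
    · exact ha1 h6
  have ny : ∀ v ∈ X (c - b), v ≠ 1 → v ∉ X r := fun v hv hv1 hvr => hv1 (h.inf_eq hr hs.1 hv hvr)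
  -- the first step
  have key : ∀ w ∈ QS X (Ph1 B Φ r) r, w ∉ X r → ∀ g, (∀ x ∈ X r, g⁻¹ * x * g ∈ X r) → g * w * g⁻¹ ∉ X r := by
    intro w hw hwr g hg hc
    apply hwr
    have := hg _ hc
    have e : g⁻¹ * (g * w * g⁻¹) * g = w := by group
    rwa [e] at this
  obtain ⟨a1, ha1, E1⟩ : ∃ a ∈ X b ⊔ X (-b), Em (X r) (a * n) x0 x0 := by
    obtain ⟨x, hx, y, hy, z, hz, e⟩ := p.conj_pair h hr hnQ hnP hc h1 hx0
    have hne : n * x0 * n⁻¹ ∉ X r := key x0 (le_QS X r hc hx0) (fun hh => hx1 (h.inf_eq hr hc hx0 hh)) n hnX'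
    by_cases hxx : x = 1
    · by_cases hyy : y = 1
      · exfalso; apply hne
        rw [e, hxx, hyy, one_mul, one_mul]; exact hz
      · have hyy' := p.two _ hs.1.1 _ hy y0 hy0 hyy hy1
        refine ⟨β' * β, mul_mem (mem_sup_right hβ') (mem_sup_left hβ), ?_⟩
        have E0 : Em (X r) n x0 y0 := ⟨z, hz, by rw [e, hxx, hyy', one_mul]⟩
        rw [mul_assoc]
        exact (E0.comp nβ Eb2).comp nβ' Eb3
    · have hxx' := p.two _ hc.1 _ hx x0 hx0 hxx hx1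
      by_cases hyy : y = 1
      · exact ⟨1, one_mem _, z, hz, by rw [one_mul, e, hxx', hyy, mul_one]⟩
      · have hyy' := p.two _ hs.1.1 _ hy y0 hy0 hyy hy1
        refine ⟨β', mem_sup_right hβ', ?_⟩
        have E0 : Em (X r) n x0 (x0 * y0) := ⟨z, hz, by rw [e, hxx', hyy']⟩
        exact E0.comp nβ' Eb3
  -- the second step
  have hA : X b ⊔ X (-b) ≤ PR B Φ X r := p.A_le_PR h
  have hAP := p.A_comm h hr
  set m := a1 * n with hm
  have hmQ : ∀ q ∈ QS X (Ph1 B Φ r) r, m * q * m⁻¹ ∈ QS X (Ph1 B Φ r) r := fun q hq => by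
    have := h.PQ hr (hA ha1) (hnQ q hq)
    have e : m * q * m⁻¹ = a1 * (n * q * n⁻¹) * a1⁻¹ := by rw [hm]; group
    rwa [e]
  have hmX' : ∀ x ∈ X r, m⁻¹ * x * m ∈ X r := fun x hx => by
    have h2 := hnX' x hx
    have e : m⁻¹ * x * m = n⁻¹ * x * n := by
      calc m⁻¹ * x * m = n⁻¹ * a1⁻¹ * (x * a1) * n := by rw [hm]; group
        _ = n⁻¹ * x * n := by rw [h.XP hr hx (hA ha1)]; group
    rwa [e]
  have hmP : ∀ y ∈ P, m * y * m⁻¹ * y⁻¹ ∈ QS X (Ph1 B Φ r) r := fun y hy => by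
    have e : m * y * m⁻¹ * y⁻¹ = (a1 * (n * y * n⁻¹ * y⁻¹) * a1⁻¹) * (a1 * y * a1⁻¹ * y⁻¹) := by rw [hm]; group
    rw [e]
    exact mul_mem (h.PQ hr (hA ha1) (hnP y hy)) (hAP a1 ha1 y hy)
  have hbb : B (c - b) (-b) = 1 := by rw [R.neg_right, hs.2]; norm_num
  obtain ⟨y, hy, x, hx, z, hz, e⟩ := (p.neg R).conj_pair h hr hmQ hmP hs.1 hbb hy0
  have ecb : c - b - -b = c := by abel
  rw [ecb] at hx
  have hne : m * y0 * m⁻¹ ∉ X r := key y0 (le_QS X r hs.1 hy0) (ny y0 hy0 hy1) m hmX'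
  have hne2 : m * (x0 * y0) * m⁻¹ ∉ X r := key _ (mul_mem (le_QS X r hc hx0) (le_QS X r hs.1 hy0))
    (nx x0 hx0 hx1 y0 hy0) m hmX'
  by_cases hyy : y = 1
  · exfalso
    by_cases hxx : x = 1
    · apply hne
      rw [e, hxx, hyy, one_mul, one_mul]; exact hz
    · have hxx' := p.two _ hc.1 _ hx x0 hx0 hxx hx1
      apply hne2
      obtain ⟨z', hz', e'⟩ := E1
      have e2 : m * (x0 * y0) * m⁻¹ = z' * z := by
        calc m * (x0 * y0) * m⁻¹ = (m * x0 * m⁻¹) * (m * y0 * m⁻¹) := by group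
          _ = x0 * z' * (x0 * z) := by rw [e', e, hyy, hxx', one_mul]
          _ = x0 * (z' * x0) * z := by group
          _ = (x0 * x0) * z' * z := by rw [cx z' hz']; group
          _ = z' * z := by rw [ex2, one_mul]
      rw [e2]; exact mul_mem hz' hz
  · have hyy' := p.two _ hs.1.1 _ hy y0 hy0 hyy hy1
    by_cases hxx : x = 1
    · exact ⟨a1, ha1, E1, z, hz, by rw [e, hxx, hyy', mul_one]⟩
    · have hxx' := p.two _ hc.1 _ hx x0 hx0 hxx hx1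
      refine ⟨β * a1, mul_mem (mem_sup_left hβ) ha1, ?_, ?_⟩
      · rw [mul_assoc]; exact E1.comp nβ Eb1
      · rw [mul_assoc]
        have E2 : Em (X r) m y0 (x0 * y0) := ⟨z, hz, by rw [e, hxx', hyy', exy]⟩
        exact E2.comp nβ Eb4

/-- **An element trivial on `P/Q` agrees with an element of `⟨X b, X (-b)⟩` on `Q/X`.** -/
theorem exists_A (h : RG B Φ X) (hr : r ∈ Φ) (hPP : P ≤ PR B Φ X r) (p : PA B Φ X r b P) {t : G} {H : Subgroup G}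
    (S : Setup t (X r) (QS X (Ph1 B Φ r) r) P H) (tA : ∀ a ∈ X b ⊔ X (-b), t * a = a * t) {n : G} (hn : n ∈ S.C4) :
    ∃ a ∈ X b ⊔ X (-b), a * n ∈ S.D := by
  have R := h.roots
  -- a root of `Ph1`
  obtain ⟨c, hc, h1⟩ : ∃ c ∈ Ph1 B Φ r, B c b = 1 := by
    obtain ⟨c, hc, hc1⟩ := h.one r hr
    rcases p.pm c ⟨hc, hc1⟩ with h1 | h1
    · exact ⟨c, ⟨hc, hc1⟩, h1⟩
    · exact ⟨_, p.add_mem R ⟨hc, hc1⟩ h1⟩
  have hs := p.sub_mem R hc h1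
  obtain ⟨x0, hx0, hx1⟩ := h.ne c hc.1
  obtain ⟨y0, hy0, hy1⟩ := h.ne _ hs.1.1
  obtain ⟨β, hβ, hβ1⟩ := h.ne b p.hb
  obtain ⟨β', hβ', hβ1'⟩ := h.ne _ (R.neg_mem b p.hb)
  obtain ⟨a, ha, ⟨z, hz, E1⟩, z', hz', E2⟩ := p.exists_pair h hr hn.1.2.1 (fun q hq => S.N_Q hn.1 hq) hn.2 hn.1.1 hc h1
    hx0 hx1 hy0 hy1 hβ hβ1 hβ' hβ1'
  have haP := p.A_le_PR h ha
  have haC : a ∈ S.C4 := by
    refine ⟨⟨fun x hx => ?_, fun x hx => ?_, ?_⟩, p.A_comm h hr a ha⟩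
    · rw [← h.XP hr hx haP, mul_inv_cancel_right]; exact hx
    · rw [mul_assoc, h.XP hr hx haP, inv_mul_cancel_left]; exact hx
    · rw [← tA a ha, mul_inv_cancel_right, S.tt]; exact one_mem _
  have hm := mul_mem haC hn
  refine ⟨a, ha, hm, ?_⟩
  set m := a * n with hmd
  have hmX := hm.1.1
  have hc1 : ∀ u ∈ X c, m * u * m⁻¹ * u⁻¹ ∈ X r := by
    intro u hu
    by_cases hu1 : u = 1
    · rw [hu1, mul_one, mul_inv_cancel, inv_one, mul_one]; exact one_mem _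
    · rw [p.two c hc.1 u hu x0 hx0 hu1 hx1, E1, ← h.XP hr hz (h.QS_le_PR hr subset_rfl (le_QS X r hc hx0)),
        mul_inv_cancel_right]
      exact hz
  have hc2 : ∀ u ∈ X (c - b), m * u * m⁻¹ * u⁻¹ ∈ X r := by
    intro u hu
    by_cases hu1 : u = 1
    · rw [hu1, mul_one, mul_inv_cancel, inv_one, mul_one]; exact one_mem _
    · rw [p.two _ hs.1.1 u hu y0 hy0 hu1 hy1, E2, ← h.XP hr hz' (h.QS_le_PR hr subset_rfl (le_QS X r hs.1 hy0)),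
        mul_inv_cancel_right]
      exact hz'
  have hall : ∀ c' ∈ Ph1 B Φ r, ∀ u ∈ X c', m * u * m⁻¹ * u⁻¹ ∈ X r := by
    intro c' hc'
    rcases p.pm c' hc' with h2 | h2
    · exact p.conn h hr hPP hmX hm.2 hc hc' h1 h2 hc1
    · exact (p.neg R).conn h hr hPP hmX hm.2 hs.1 hc' (by rw [R.neg_right, hs.2]; norm_num)
        (by rw [R.neg_right, h2]; norm_num) hc2
  let D : Subgroup G :=
    { carrier := {q | q ∈ QS X (Ph1 B Φ r) r ∧ m * q * m⁻¹ * q⁻¹ ∈ X r}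
      one_mem' := ⟨one_mem _, by rw [mul_one, mul_inv_cancel, inv_one, mul_one]; exact one_mem _⟩
      mul_mem' := by
        rintro a b ⟨ha, ha2⟩ ⟨hb, hb2⟩
        refine ⟨mul_mem ha hb, ?_⟩
        have e : m * (a * b) * m⁻¹ * (a * b)⁻¹ = (m * a * m⁻¹ * a⁻¹) * (a * (m * b * m⁻¹ * b⁻¹) * a⁻¹) := by group
        rw [e, ← h.XP hr hb2 (h.QS_le_PR hr subset_rfl ha), mul_inv_cancel_right]
        exact mul_mem ha2 hb2
      inv_mem' := by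
        rintro a ⟨ha, ha2⟩
        refine ⟨inv_mem ha, ?_⟩
        have e : m * a⁻¹ * m⁻¹ * a⁻¹⁻¹ = a⁻¹ * ((m * a * m⁻¹ * a⁻¹)⁻¹ * a) := by group
        rw [e, h.XP hr (inv_mem ha2) (h.QS_le_PR hr subset_rfl ha), inv_mul_cancel_left]
        exact inv_mem ha2 }
  have hle : QS X (Ph1 B Φ r) r ≤ D := by
    refine QS_le (fun x hx => ⟨X_le_QS X _ r hx, mul_mem (hmX x hx) (inv_mem hx)⟩) fun c' hc' x hx =>
      ⟨le_QS X r hc' hx, hall c' hc' x hx⟩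
  exact fun q hq => (hle hq).2

end PA

end Cfsg.Agent.OddHalf.D7Ex
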