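import Cfsg.Agent.OddHalf.D7Ex.Move

/-!
# Existence of the doubled root group, `q > 2`, with a torus element (helper991)

No linearity of the action on `Q/X`: it is enough that one `h ∈ C4`, fixed point free on `X`, commutes with `C4` modulo
`D`. (For `A₃` the 2-elements of `C4` can act nontrivially on `Q/X`.)

* `exists_moveAux` : abstract form;
* `Setup.exists_moveH`, `Setup.exists_cent_of_h`.
-/

set_option autoImplicit false

namespace Cfsg.Agent.OddHalf.D7Ex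

open Subgroup

variable {G : Type*} [Group G]

/-- `D, C ⊴ N`, `N` transitive on `tX`, `h ∈ C` centralises `t`, is fixed point free on `X` and `[C, h] ≤ D`: then `D`
moves `t`. -/
theorem exists_moveAux {t h : G} {X N C D : Subgroup G} (ht : h * t = t * h)
    (htr : ∀ x ∈ X, ∃ m ∈ N, m * t * m⁻¹ = t * x)
    (hC : ∀ n ∈ N, ∀ c ∈ C, n * c * n⁻¹ ∈ C) (hD : ∀ n ∈ N, ∀ d ∈ D, n * d * n⁻¹ ∈ D)
    (hCt : ∀ c ∈ C, t * (c * t * c⁻¹) ∈ X) (tt : t * t = 1)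
    (hhC : h ∈ C) (hfix : ∀ x ∈ X, h * x = x * h → x = 1) (hcD : ∀ c ∈ C, h * c * h⁻¹ * c⁻¹ ∈ D)
    (hne : ∃ x ∈ X, x ≠ 1) : ∃ d ∈ D, d * t * d⁻¹ ≠ t := by
  by_contra hcon
  push Not at hcon
  -- `D` fixes `tX`
  have hDX : ∀ d ∈ D, ∀ x ∈ X, d * (t * x) * d⁻¹ = t * x := by
    intro d hd x hx
    obtain ⟨m, hm, hmt⟩ := htr x hx
    have h1 := hcon _ (by simpa using hD m⁻¹ (inv_mem hm) d hd : m⁻¹ * d * m ∈ D)
    rw [← hmt]
    calc d * (m * t * m⁻¹) * d⁻¹ = m * ((m⁻¹ * d * m) * t * (m⁻¹ * d * m)⁻¹) * m⁻¹ := by group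
      _ = m * t * m⁻¹ := by rw [h1]
  -- `C` fixes `t`
  have hCfix : ∀ c ∈ C, c * t * c⁻¹ = t := by
    intro c hc
    have hx := hCt c hc
    set x := t * (c * t * c⁻¹) with hxd
    have e1 : c * t * c⁻¹ = t * x := by rw [hxd, ← mul_assoc, tt, one_mul]
    have h1 := hcD c hc
    have h2 := hDX _ h1 x hx
    have h3 : h * (t * x) * h⁻¹ = t * x := by
      calc h * (t * x) * h⁻¹ = h * (c * t * c⁻¹) * h⁻¹ := by rw [e1]
        _ = (h * c * h⁻¹) * (h * t * h⁻¹) * (h * c * h⁻¹)⁻¹ := by group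
        _ = (h * c * h⁻¹) * t * (h * c * h⁻¹)⁻¹ := by rw [ht, mul_inv_cancel_right]
        _ = (h * c * h⁻¹ * c⁻¹) * (c * t * c⁻¹) * (h * c * h⁻¹ * c⁻¹)⁻¹ := by group
        _ = (h * c * h⁻¹ * c⁻¹) * (t * x) * (h * c * h⁻¹ * c⁻¹)⁻¹ := by rw [e1]
        _ = t * x := h2
    have h4 : t * (h * x * h⁻¹) = t * x := by
      rw [← h3, ← mul_assoc t, ← mul_assoc t, ← ht]; group
    have h5 : h * x = x * h := by
      have := mul_left_cancel h4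
      calc h * x = (h * x * h⁻¹) * h := by group
        _ = x * h := by rw [this]
    rw [e1, hfix x hx h5, mul_one]
  obtain ⟨x, hx, hx1⟩ := hne
  apply hx1
  apply hfix x hx
  obtain ⟨m, hm, hmt⟩ := htr x hx
  have h1 := hCfix _ (by simpa using hC m⁻¹ (inv_mem hm) h hhC : m⁻¹ * h * m ∈ C)
  have h2 : h * (t * x) * h⁻¹ = t * x := by
    rw [← hmt]
    calc h * (m * t * m⁻¹) * h⁻¹ = m * ((m⁻¹ * h * m) * t * (m⁻¹ * h * m)⁻¹) * m⁻¹ := by group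
      _ = m * t * m⁻¹ := by rw [h1]
  have h4 : t * (h * x * h⁻¹) = t * x := by
    rw [← h2, ← mul_assoc t, ← mul_assoc t, ← ht]; group
  have := mul_left_cancel h4
  calc h * x = (h * x * h⁻¹) * h := by group
    _ = x * h := by rw [this]

/-- **Existence, `q > 2`**, with a torus element `h` commuting with `C4` modulo `D`. -/
theorem Setup.exists_cent_of_h {t : G} {X Q P H : Subgroup G} (S : Setup t X Q P H)
    (Htr : ∀ x ∈ X, ∀ y ∈ X, x ≠ 1 → y ≠ 1 → ∃ h ∈ H, h * x * h⁻¹ = y) {h : G} (hH : h ∈ H)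
    (hP : ∀ p ∈ P, h * p * h⁻¹ * p⁻¹ ∈ Q) (hfix : ∀ x ∈ X, h * x = x * h → x = 1)
    (hcD : ∀ c ∈ S.C4, ∀ q ∈ Q, (h * c * h⁻¹ * c⁻¹) * q * (h * c * h⁻¹ * c⁻¹)⁻¹ * q⁻¹ ∈ X)
    {n : G} (hn : n ∈ S.N) (hnt : n * t * n⁻¹ ≠ t) {x : G} (hx : x ∈ X) :
    ∃ b : G, (∀ p ∈ P, b * p = p * b) ∧ b * t * b⁻¹ = t * x := by
  by_cases h1 : x = 1
  · exact ⟨1, fun p _ => by rw [one_mul, mul_one], by rw [h1]; group⟩
  have hhC : h ∈ S.C4 := ⟨S.H_le hH, hP⟩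
  obtain ⟨d, hd, hdt⟩ := exists_moveAux (N := S.N) (C := S.C4) (D := S.D) (S.tH h hH).symm
    (fun x hx => S.exists_N Htr hn hnt hx) (fun n hn c hc => S.conj_C4 hn hc) (fun n hn d hd => S.conj_D hn hd)
    (fun c hc => hc.1.2.2) S.tt hhC hfix
    (fun c hc => ⟨mul_mem (mul_mem (mul_mem hhC hc) (inv_mem hhC)) (inv_mem hc), hcD c hc⟩) ⟨x, hx, h1⟩
  set z := t * (d * t * d⁻¹) with hz
  have hzX : z ∈ X := hd.1.1.2.2
  have hz1 : z ≠ 1 := by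
    intro h
    apply hdt
    have : t * (d * t * d⁻¹) = t * t := by rw [← hz, h, S.tt]
    exact mul_left_cancel this
  obtain ⟨g, hg, hgz⟩ := Htr z hzX x hx hz1 h1
  obtain ⟨b, hb, hbt⟩ := S.exists_cent (S.conj_D (S.H_le hg) hd)
  refine ⟨b, hb, ?_⟩
  have e1 : d * t * d⁻¹ = t * z := by rw [hz, ← mul_assoc, S.tt, one_mul]
  have e2 : g⁻¹ * t = t * g⁻¹ := (S.tH _ (inv_mem hg)).symm
  rw [hbt]
  calc g * d * g⁻¹ * t * (g * d * g⁻¹)⁻¹ = g * d * (g⁻¹ * t) * g * d⁻¹ * g⁻¹ := by group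
    _ = g * (d * t * d⁻¹) * g⁻¹ := by rw [e2]; group
    _ = g * t * z * g⁻¹ := by rw [e1]; group
    _ = t * (g * z * g⁻¹) := by rw [← S.tH g hg]; group
    _ = t * x := by rw [hgz]

end Cfsg.Agent.OddHalf.D7Ex
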