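import Mathlib

/-!
# `q = 2`: the element moving `t` to `tz` does not interchange the two transvection groups (helper991)

`A`, `B` two subgroups of `C_G(t)`, not conjugate in `C_G(t)`, whose stabilisers in `C_G(t)` are transitive on `A#`, `B#`,
`z ∈ A ∩ B`, `z² = 1`. If `n t n⁻¹ = tz` and `n` interchanges `A` and `B`, then `A = ⟨z⟩`.
-/

set_option autoImplicit false

namespace Cfsg.Agent.OddHalf.D7Ex

open Subgroup

variable {G : Type*} [Group G]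

/-- `n A n⁻¹ = A'`, elementwise. -/
def Cj (n : G) (A A' : Subgroup G) : Prop := ∀ x, x ∈ A ↔ n * x * n⁻¹ ∈ A'

theorem Cj.mul {n m : G} {A A' A'' : Subgroup G} (h : Cj n A' A'') (h' : Cj m A A') : Cj (n * m) A A'' := by
  intro x
  rw [h' x, h]
  have e : n * (m * x * m⁻¹) * n⁻¹ = n * m * x * (n * m)⁻¹ := by group
  rw [e]

theorem Cj.inv {n : G} {A A' : Subgroup G} (h : Cj n A A') : Cj n⁻¹ A' A := by
  intro x
  rw [h (n⁻¹ * x * n⁻¹⁻¹)]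
  have e : n * (n⁻¹ * x * n⁻¹⁻¹) * n⁻¹ = x := by group
  rw [e]

/-- **No swap.** -/
theorem no_swap {t z n : G} {A B : Subgroup G} (hz : z * z = 1) (hzA : z ∈ A) (hzt : z * t = t * z)
    (hA : ∀ w ∈ A, w ≠ 1 → ∃ c, c * t = t * c ∧ c * z * c⁻¹ = w ∧ Cj c A A)
    (hB : ∀ w ∈ B, w ≠ 1 → ∃ c, c * t = t * c ∧ c * z * c⁻¹ = w ∧ Cj c B B)
    (hAB : ∀ c, c * t = t * c → ¬ Cj c A B) {z' : G} (hz'A : z' ∈ A) (hz'1 : z' ≠ 1) (hz'z : z' ≠ z)
    (hn : n * t * n⁻¹ = t * z) (hnA : Cj n A B) (hnB : Cj n B A) : False := by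
  -- `A` is of type `B` for `t w`
  have h1 : ∀ w ∈ A, w ≠ 1 → ∃ g, g * t * g⁻¹ = t * w ∧ Cj g B A := by
    intro w hw hw1
    obtain ⟨c, hc, hcz, hcA⟩ := hA w hw hw1
    refine ⟨c * n, ?_, hcA.mul hnB⟩
    calc c * n * t * (c * n)⁻¹ = c * (n * t * n⁻¹) * c⁻¹ := by group
      _ = (c * t) * z * c⁻¹ := by rw [hn]; group
      _ = t * (c * z * c⁻¹) := by rw [hc]; group
      _ = t * w := by rw [hcz]
  -- of type `B` for `d` gives type `A` for `d w`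
  have h2 : ∀ d w g, g * t * g⁻¹ = d → Cj g B A → w ∈ A → w ≠ 1 → ∃ g', g' * t * g'⁻¹ = d * w ∧ Cj g' A A := by
    intro d w g hg hgB hw hw1
    have h3 := (hgB.inv w).1 hw
    obtain ⟨c, hc, hcz, hcB⟩ := hB (g⁻¹ * w * g⁻¹⁻¹) h3 (by
      intro h4
      apply hw1
      calc w = g * (g⁻¹ * w * g⁻¹⁻¹) * g⁻¹ := by group
        _ = 1 := by rw [h4]; group)
    refine ⟨g * c * n, ?_, (hgB.mul hcB).mul hnA⟩
    calc g * c * n * t * (g * c * n)⁻¹ = g * c * (n * t * n⁻¹) * c⁻¹ * g⁻¹ := by group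
      _ = g * (c * t) * z * c⁻¹ * g⁻¹ := by rw [hn]; group
      _ = g * t * (c * z * c⁻¹) * g⁻¹ := by rw [hc]; group
      _ = (g * t * g⁻¹) * w := by rw [hcz]; group
      _ = d * w := by rw [hg]
  have hz1 : z ≠ 1 := by
    rintro rfl
    obtain ⟨c, hc, hcz, hcA⟩ := hA z' hz'A hz'1
    apply hz'1
    rw [← hcz]; group
  obtain ⟨g1, hg1, hg1B⟩ := h1 z hzA hz1
  obtain ⟨g2, hg2, hg2B⟩ := h1 z' hz'A hz'1
  have hne : z * z' ≠ 1 := by
    intro h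
    apply hz'z
    have : z * z' = z * z := by rw [h, hz]
    exact mul_left_cancel this
  obtain ⟨g3, hg3, hg3A⟩ := h2 (t * z) (z * z') g1 hg1 hg1B (mul_mem hzA hz'A) hne
  have e : t * z * (z * z') = t * z' := by
    rw [mul_assoc, ← mul_assoc z z z', hz, one_mul]
  rw [e] at hg3
  refine hAB (g2⁻¹ * g3) ?_ (hg2B.inv.mul hg3A)
  have h4 : g2 * t * g2⁻¹ = g3 * t * g3⁻¹ := by rw [hg2, hg3]
  calc g2⁻¹ * g3 * t = g2⁻¹ * (g3 * t * g3⁻¹) * g3 := by group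
    _ = g2⁻¹ * (g2 * t * g2⁻¹) * g3 := by rw [h4]
    _ = t * (g2⁻¹ * g3) := by group

end Cfsg.Agent.OddHalf.D7Ex
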