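import Cfsg.Agent.OddHalf.D7Ex.OutBase
import Cfsg.Agent.OddHalf.D7Out.FrontSL

/-!
# The doubled root group at the highest root from the output of the front (`FrontSL.Out`), `q > 2`

* `ct` : `CT t K`; `conj_z` : `m⁻¹ z m ∈ Z`; `normX` : `m` normalises `X ρ`; `exists_base0`.
-/

set_option autoImplicit false
set_option linter.unusedSectionVars false

namespace Cfsg.Agent.OddHalf.D7Ex.OfFront

open Cfsg.Agent.OddHalf.SL Cfsg.Agent.KFacts CoxeterSystem Cfsg.Agent.ChevalleyStructure.CoxeterGeom Cfsg.Agent.Tits.Roots Cfsg.Agent.Tits.Core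
  Cfsg.Agent.Tits.RootComb Cfsg.Agent.Nodes.Comb Cfsg.Agent.Nodes.Reps Cfsg.Agent.Nodes.BNOf
  Cfsg.Agent.Nodes.Bruhat Cfsg.Agent.Nodes.Coroot Cfsg.Agent.OddHalf.SL.Index Cfsg.Agent.OddHalf.SL.OfRGD
  Cfsg.Agent.OddHalf.SL.PreOf Cfsg.Agent.KFacts.RgdPar Cfsg.Agent.KFacts.RgdSL Cfsg.Agent.KFacts.RgdTI
  Cfsg.Agent.KFacts.RgdCent Cfsg.Agent.KFacts.RgdOdd Cfsg.Agent.KFacts.RgdEx Cfsg.Agent.KFacts.SLRow.Def
  Cfsg.Agent.OddHalf.SL.OfDatum Cfsg.Agent.OddHalf.D7Ex.KData Cfsg.Agent.OddHalf.D7Ex.KFull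
  Cfsg.Agent.OddHalf.D7Ex.OutBase Cfsg.Agent.OddHalf.D7Out
open scoped commutatorElement

section Fr

variable {G : Type*} [Group G] {t v : G} {K U Z T : Subgroup G}

/-- The facts on `C_G(t)`, `|R| = 2`. -/
theorem ct_of_fr (F : Defs.Fr t v K U Z T) (R2 : ∀ r ∈ Subgroup.zpowers v, r = 1 ∨ r = t)
    (hperf : ∀ P : Subgroup G, (∀ x ∈ P, x * t = t * x) → ⁅P, P⁆ = P → P ≤ K) : CT t K where
  tt := F.tt
  tK := fun ht => F.t1 (F.KR t ht F.tR)
  Kt := fun k hk => (Front.Kt F hk).symm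
  nrm := fun g hg u hu => (Subgroup.mem_normalizer_iff.1 (F.nK g hg) u).1 hu
  cK := fun g hg hu => R2 g (F.cK g hg fun x hx => (hu x hx).symm)
  perf := fun L hL hp => hperf L (fun x hx => Subgroup.mem_centralizer_singleton_iff.1 (hL hx))
    (le_antisymm ((Subgroup.commutator_le).2 fun a ha b hb => by
      rw [commutatorElement_def]
      exact mul_mem (mul_mem (mul_mem ha hb) (inv_mem ha)) (inv_mem hb)) hp)

/-- `m⁻¹ z m ∈ Z`. -/
theorem conj_z [Finite G] (F : Defs.Fr t v K U Z T) {m z : G} (mT : m ∈ Subgroup.normalizer (T : Set G)) (zZ : z ∈ Z)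
    (zT : ∀ x ∈ T, x * z = z * x) (mt : m * t * m⁻¹ = t * z) : m⁻¹ * z * m ∈ Z := by
  have hz2 := F.Zsq z zZ
  have h1 : ∀ x ∈ T, x * (m⁻¹ * z * m) = m⁻¹ * z * m * x := by
    intro x hx
    have h2 := zT _ ((Subgroup.mem_normalizer_iff.1 mT x).1 hx)
    calc x * (m⁻¹ * z * m) = m⁻¹ * (m * x * m⁻¹ * z) * m := by group
      _ = m⁻¹ * (z * (m * x * m⁻¹)) * m := by rw [h2]
      _ = m⁻¹ * z * m * x := by group
  have h2 : m⁻¹ * z * m * (m⁻¹ * z * m) = 1 := by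
    calc m⁻¹ * z * m * (m⁻¹ * z * m) = m⁻¹ * (z * z) * m := by group
      _ = 1 := by rw [hz2]; group
  obtain ⟨z1, hz1, -, h3 | h3⟩ := Front.center_cases F h1 h2
  · rw [h3]; exact hz1
  · exfalso
    apply F.nconj z1 hz1 m⁻¹
    -- `t = m⁻¹ t m · m⁻¹ z m`
    have h4 : t = m⁻¹ * t * m * (m⁻¹ * z * m) := by
      calc t = m⁻¹ * (m * t * m⁻¹) * m := by group
        _ = m⁻¹ * t * m * (m⁻¹ * z * m) := by rw [mt]; group
    rw [h3] at h4
    have h5 : m⁻¹ * t * m * t * z1 = t := by rw [mul_assoc]; exact h4.symm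
    have h6 : z1 * t = t * z1 := Front.Kt F (Front.ZK F hz1)
    rw [inv_inv]
    calc m⁻¹ * t * m = (m⁻¹ * t * m * t * z1) * (z1⁻¹ * t⁻¹) := by group
      _ = t * (z1⁻¹ * t⁻¹) := by rw [h5]
      _ = t * (t * z1)⁻¹ := by rw [mul_inv_rev]
      _ = t * (z1 * t)⁻¹ := by rw [h6]
      _ = t * t⁻¹ * z1⁻¹ := by group
      _ = z1⁻¹ := by group
      _ = z1 := inv_eq_of_mul_eq_one_left (F.Zsq z1 hz1)

end Fr

variable {I W G : Type*} [Fintype I] [DecidableEq I] [Group W] [Group G] {M : CoxeterMatrix I}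
  {cs : CoxeterSystem M W} {A : I → I → ℤ} {h : IsCartan M A} {K : Subgroup G} {q : ℕ} {t : G}

section

variable [Finite W] [Finite G] {T : Subgroup G} {n : I → G} {X : (I → ℤ) → Subgroup G}
  (D : Datum K q cs h T n X) (C : CT t K)

include D C

/-- An element taking `t` to `t z` and `z` into `X r` normalises `X r`, `q > 2`. -/
theorem normX (Tab : ∀ g ∈ T, ∀ k ∈ T, g * k = k * g) (hq : 2 < q) {r : I → ℤ} (hr : IsRoot cs h r)
    (hK1 : ∀ c, t * c = c * t → (∀ a, IsRoot cs h a → 1 ≤ Bf A a r → ∀ x ∈ X a, c * x = x * c) →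
      c ∈ X r ∨ t * c ∈ X r)
    {m z : G} (hz : z ∈ X r) (hz1 : z ≠ 1) (mt : m * t * m⁻¹ = t * z) (hz' : m⁻¹ * z * m ∈ X r) :
    ∀ x ∈ X r, m * x * m⁻¹ ∈ X r := by
  set P := PR (Bf A) {x | IsRoot cs h x} X r with hP
  have hPp := perf D hq hr
  rw [← hP] at hPp
  have XP : ∀ x ∈ X r, ∀ p ∈ P, x * p = p * x := fun x hx p hp => (rg D).XP hr hx hp
  have XleP : X r ≤ P := le_PR X hr (by rw [(roots cs h D.h4 D.h6).two r hr]; norm_num)
  have hPK : P ≤ K := PR_le_K D C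
  set R := P.map (MulAut.conj m⁻¹).toMonoidHom with hR
  have hmem : ∀ p ∈ P, m⁻¹ * p * m ∈ R := fun p hp => ⟨p, hp, by
    show m⁻¹ * p * m⁻¹⁻¹ = _
    rw [inv_inv]⟩
  have hRC : R ≤ Subgroup.centralizer {t} := by
    rintro _ ⟨p, hp, rfl⟩
    rw [Subgroup.mem_centralizer_singleton_iff]
    show m⁻¹ * p * m⁻¹⁻¹ * t = t * (m⁻¹ * p * m⁻¹⁻¹)
    rw [inv_inv]
    have h1 : p * (m * t * m⁻¹) = m * t * m⁻¹ * p := by
      rw [mt, ← mul_assoc, ← C.Kt p (hPK hp), mul_assoc, mul_assoc, ← XP z hz p hp]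
    calc m⁻¹ * p * m * t = m⁻¹ * (p * (m * t * m⁻¹)) * m := by group
      _ = m⁻¹ * (m * t * m⁻¹ * p) * m := by rw [h1]
      _ = t * (m⁻¹ * p * m) := by group
  have hRp : R ≤ ⁅R, R⁆ := by
    rw [hR, ← Subgroup.map_commutator]
    exact Subgroup.map_mono hPp
  have hRK := C.perf R hRC hRp
  have hR1 : R ≤ T ⊔ P := by
    rintro _ ⟨p, hp, rfl⟩
    have h1 := (lr D r hr).le_PS_of_comm (g := m⁻¹ * p * m) (by rw [D.GG_eq]; exact hRK (hmem p hp)) hz' (by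
      intro h2
      apply hz1
      calc z = m * (m⁻¹ * z * m) * m⁻¹ := by group
        _ = 1 := by rw [h2]; group) (by
      calc m⁻¹ * p * m * (m⁻¹ * z * m) = m⁻¹ * (p * z) * m := by group
        _ = m⁻¹ * (z * p) * m := by rw [XP z hz p hp]
        _ = m⁻¹ * z * m * (m⁻¹ * p * m) := by group)
    show m⁻¹ * p * m⁻¹⁻¹ ∈ T ⊔ P
    rw [inv_inv, hP, ← sup_Ge D hr]
    exact h1
  have hR2 : R ≤ P := hRp.trans ((Subgroup.commutator_mono hR1 hR1).trans (comm_le D C Tab))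
  have hR3 : R = P := by
    apply Subgroup.eq_of_le_of_card_ge hR2
    have h1 : Nat.card R = Nat.card P :=
      (Nat.card_congr (P.equivMapOfInjective _ (MulAut.conj m⁻¹).injective).toEquiv).symm
    rw [h1]
  -- `m⁻¹ X m ≤ X`
  have h1 : ∀ x ∈ X r, m⁻¹ * x * m ∈ X r := by
    intro x hx
    have hxR : m⁻¹ * x * m ∈ P := hR2 (hmem x (XleP hx))
    have hxt : t * (m⁻¹ * x * m) = m⁻¹ * x * m * t :=
      (Subgroup.mem_centralizer_singleton_iff.1 (hRC (hmem x (XleP hx)))).symm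
    have hxc : ∀ a, IsRoot cs h a → 1 ≤ Bf A a r → ∀ y ∈ X a, m⁻¹ * x * m * y = y * (m⁻¹ * x * m) := by
      intro a ha h1 y hy
      have hyP : y ∈ R := by rw [hR3]; exact le_PR X ha (by omega) hy
      obtain ⟨p, hp, hpy⟩ := hyP
      have hpy' : m⁻¹ * p * m = y := by
        rw [← hpy]
        show _ = m⁻¹ * p * m⁻¹⁻¹
        rw [inv_inv]
      rw [← hpy']
      calc m⁻¹ * x * m * (m⁻¹ * p * m) = m⁻¹ * (x * p) * m := by group
        _ = m⁻¹ * (p * x) * m := by rw [XP x hx p hp]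
        _ = m⁻¹ * p * m * (m⁻¹ * x * m) := by group
    rcases hK1 _ hxt hxc with h2 | h2
    · exact h2
    · exfalso
      apply C.tK
      have h3 := mul_mem (D.XK hr h2) (inv_mem (hPK hxR))
      rwa [mul_inv_cancel_right] at h3
  -- finiteness
  let f : X r → X r := fun x => ⟨m⁻¹ * x * m, h1 x x.2⟩
  have hf : Function.Injective f := by
    intro x y hxy
    have h2 : m⁻¹ * (x : G) * m = m⁻¹ * (y : G) * m := congrArg Subtype.val hxy
    exact Subtype.ext (mul_left_cancel (mul_right_cancel h2))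
  have hs := Finite.surjective_of_injective hf
  intro x hx
  obtain ⟨y, hy⟩ := hs ⟨x, hx⟩
  have h2 : m⁻¹ * (y : G) * m = x := congrArg Subtype.val hy
  have h3 : m * x * m⁻¹ = y := by rw [← h2]; group
  rw [h3]; exact y.2

end

/-! ### From the front -/

section

variable [Finite W] [Finite G] {T₀ : Subgroup ↥K} {n₀ : I → ↥K} {X₀ : (I → ℤ) → Subgroup ↥K} {F : Type*} [Field F]
  {e : (I → ℤ) → F → ↥K} {v : G} {ρ : I → ℤ} {T : Subgroup G} {g : ↥T →* Equiv.Perm I × (F ≃+* F)} {m z : G}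

/-- `CT t K` from the front. -/
theorem ct (O : FrontSL.Out cs h T₀ X₀ e t v ρ T g m z)
    (hperf : ∀ P : Subgroup G, (∀ x ∈ P, x * t = t * x) → ⁅P, P⁆ = P → P ≤ K) : CT t K :=
  ct_of_fr O.fr.toFr O.R2 hperf

/-- **`Base0` at `ρ` from the front**, `q > 2`. -/
theorem exists_base0 (D : Datum (⊤ : Subgroup ↥K) q cs h T₀ n₀ X₀) (O : FrontSL.Out cs h T₀ X₀ e t v ρ T g m z)
    (C : CT t K) (Tab : ∀ g ∈ T₀, ∀ k ∈ T₀, g * k = k * g) (hq : 2 < q)
    (hT : 4 ≤ Fintype.card I ∨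
      ∃ β g k, Tor (Bf A) {x | IsRoot cs h x} (fun x => (X₀ x).map K.subtype) ρ (T₀.map K.subtype) β g k) :
    ∃ V, Base0.Base0 (dm D).rgd t ρ V := by
  have hX : ∀ x ∈ (X₀ ρ).map K.subtype, m * x * m⁻¹ ∈ (X₀ ρ).map K.subtype := by
    refine normX (dm D) C ?_ hq O.root (fun c hct hc => k1 D C O.root hct hc) O.zX O.z1 O.mt
      (conj_z O.fr.toFr O.mT O.zX O.zT O.mt)
    rintro _ ⟨g, hg, rfl⟩ _ ⟨k, hk, rfl⟩
    exact congrArg K.subtype (Tab g hg k hk)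
  refine exists_base0_top D C Tab hq O.root hT hX ?_ ?_
  · rw [O.mt, ← mul_assoc, C.tt, one_mul]
    exact O.zX
  · rw [O.mt]
    exact fun h => O.z1 (mul_eq_left.1 h)

end

end Cfsg.Agent.OddHalf.D7Ex.OfFront
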