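import Cfsg.Agent.OddHalf.D7Ex.KData
import Cfsg.Agent.OddHalf.D7Ex.Wab

/-!
# From the doubled root group at one root to `PreOf.Base` (`q > 2`)

* `Base0` : `PreOf.Base` without commutativity; `Base0.yData0` : transport to all roots; `YData0.preW` : the hypotheses
  of `Wab`; `Base0.ab`; `exists_base`, `exists_hom` : the end of ODD D7 for simply laced `K`, `q > 2`, clean case, from
  an element `n` with `n t n⁻¹ ∈ t X r`, `n t n⁻¹ ≠ t`, normalising `X r`.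
-/

set_option autoImplicit false
set_option linter.unusedSectionVars false

namespace Cfsg.Agent.OddHalf.D7Ex.OfKData

open Cfsg.Agent.OddHalf.SL Cfsg.Agent.KFacts CoxeterSystem Cfsg.Agent.ChevalleyStructure.CoxeterGeom
  Cfsg.Agent.Tits.Roots Cfsg.Agent.Tits.Core
  Cfsg.Agent.Tits.RootComb Cfsg.Agent.Nodes.Comb Cfsg.Agent.Nodes.Reps Cfsg.Agent.Nodes.BNOf
  Cfsg.Agent.Nodes.Bruhat Cfsg.Agent.Nodes.Coroot Cfsg.Agent.OddHalf.SL.Index Cfsg.Agent.OddHalf.SL.OfRGD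
  Cfsg.Agent.OddHalf.SL.PreOf Cfsg.Agent.KFacts.RgdPar Cfsg.Agent.KFacts.RgdSL Cfsg.Agent.KFacts.RgdTI
  Cfsg.Agent.KFacts.RgdCent Cfsg.Agent.KFacts.RgdOdd Cfsg.Agent.KFacts.RgdEx Cfsg.Agent.KFacts.SLRow.Def
  Cfsg.Agent.OddHalf.SL.OfDatum Cfsg.Agent.OddHalf.D7Ex.KData
open scoped commutatorElement

variable {I W G : Type*} [Fintype I] [DecidableEq I] [Group W] [Group G] {M : CoxeterMatrix I}
  {cs : CoxeterSystem M W} {A : I → I → ℤ} {h : IsCartan M A} {p : ℕ} {T : Subgroup G} {n : I → G}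
  {X : (I → ℤ) → Subgroup G}

/-- The doubled root groups of a root group datum, without commutativity. -/
structure YData0 (R : RGD cs h p T n X) (t : G) (V : (I → ℤ) → Subgroup G) : Prop where
  XW : ∀ r, IsRoot cs h r → X r ≤ V r
  sq : ∀ r, IsRoot cs h r → ∀ v ∈ V r, v * v ∈ X r
  brk : ∀ r, IsRoot cs h r → ∀ w ∈ V r, w⁻¹ * (t * w * t) ∈ X r
  cent : ∀ r, IsRoot cs h r → ∀ w ∈ V r, t * w = w * t → w ∈ X r
  surj : ∀ r, IsRoot cs h r → ∀ x ∈ X r, ∃ w ∈ V r, w⁻¹ * (t * w * t) = x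
  WX : ∀ r, IsRoot cs h r → ∀ a, IsRoot cs h a → 0 ≤ Bf A a r → ∀ w ∈ V r, ∀ x ∈ X a, w * x = x * w
  eqv : ∀ w k, Rp cs R.nsys w k → ∀ r, IsRoot cs h r → ∀ v ∈ V r, k * v * k⁻¹ ∈ V (rep cs h w r)

/-- The doubled root group at one root, without commutativity. -/
structure Base0 (R : RGD cs h p T n X) (t : G) (r₀ : I → ℤ) (V₀ : Subgroup G) : Prop where
  root : IsRoot cs h r₀
  XW : X r₀ ≤ V₀
  sq : ∀ v ∈ V₀, v * v ∈ X r₀
  brk : ∀ w ∈ V₀, w⁻¹ * (t * w * t) ∈ X r₀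
  cent : ∀ w ∈ V₀, t * w = w * t → w ∈ X r₀
  surj : ∀ x ∈ X r₀, ∃ w ∈ V₀, w⁻¹ * (t * w * t) = x
  WX : ∀ a, IsRoot cs h a → 0 ≤ Bf A a r₀ → ∀ w ∈ V₀, ∀ x ∈ X a, w * x = x * w
  nrm : ∀ w k, Rp cs R.nsys w k → rep cs h w r₀ = r₀ → ∀ v ∈ V₀, k * v * k⁻¹ ∈ V₀
  tN : ∀ w k, Rp cs R.nsys w k → t * k = k * t

namespace Base0

variable {R : RGD cs h p T n X} {t : G} {r₀ : I → ℤ} {V₀ : Subgroup G} (D : Base0 R t r₀ V₀)

include D

theorem wf_eq {w : W} {k : G} (hk : Rp cs R.nsys w k) : Wf R r₀ V₀ (rep cs h w r₀) = cj k V₀ := by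
  apply le_antisymm
  · refine iSup_le ?_
    rintro ⟨⟨w', k'⟩, hk', hr⟩
    intro v hv
    rw [mem_cj] at hv ⊢
    have h1 : rep cs h (w⁻¹ * w') r₀ = r₀ := by
      rw [rep_mul_apply]
      show rep cs h w⁻¹ (rep cs h w' r₀) = r₀
      rw [hr, rep_inv_apply]
    have h2 := D.nrm _ _ (hk.inv.mul hk') h1 _ hv
    have e : k⁻¹ * k' * (k'⁻¹ * v * k') * (k⁻¹ * k')⁻¹ = k⁻¹ * v * k := by group
    rwa [e] at h2
  · exact le_iSup (fun q : {q : W × G // Rp cs R.nsys q.1 q.2 ∧ rep cs h q.1 r₀ = rep cs h w r₀} =>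
      cj q.1.2 V₀) ⟨(w, k), hk, rfl⟩

theorem yData0 (htr : ∀ r, IsRoot cs h r → ∃ w, rep cs h w r₀ = r)
    (hB : ∀ (w : W) x y, Bf A (rep cs h w x) (rep cs h w y) = Bf A x y) : YData0 R t (Wf R r₀ V₀) := by
  -- every root group is the conjugate of the base
  have key : ∀ r, IsRoot cs h r → ∃ w k, Rp cs R.nsys w k ∧ rep cs h w r₀ = r ∧ Wf R r₀ V₀ r = cj k V₀ ∧
      X r = cj k (X r₀) := by
    intro r hr
    obtain ⟨w, rfl⟩ := htr r hr
    obtain ⟨k, hk⟩ := exists_rp cs R.nsys w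
    exact ⟨w, k, hk, rfl, D.wf_eq hk, (R.conj_rp hk D.root).symm⟩
  constructor
  · intro r hr
    obtain ⟨w, k, hk, -, e1, e2⟩ := key r hr
    rw [e1, e2]
    exact cj_mono k D.XW
  · intro r hr v hv
    obtain ⟨w, k, hk, -, e1, e2⟩ := key r hr
    rw [e1, mem_cj] at hv
    rw [e2, mem_cj]
    have h1 := D.sq _ hv
    have e3 : k⁻¹ * v * k * (k⁻¹ * v * k) = k⁻¹ * (v * v) * k := by group
    rwa [e3] at h1
  · intro r hr v hv
    obtain ⟨w, k, hk, -, e1, e2⟩ := key r hr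
    rw [e1, mem_cj] at hv
    rw [e2, mem_cj]
    have h1 := D.brk _ hv
    have h2 := D.tN w k hk
    have h3 : t * k⁻¹ = k⁻¹ * t := by
      have := D.tN w⁻¹ k⁻¹ hk.inv
      exact this
    have e3 : (k⁻¹ * v * k)⁻¹ * (t * (k⁻¹ * v * k) * t) = k⁻¹ * (v⁻¹ * (t * v * t)) * k := by
      calc (k⁻¹ * v * k)⁻¹ * (t * (k⁻¹ * v * k) * t) = k⁻¹ * v⁻¹ * k * ((t * k⁻¹) * v * (k * t)) := by group
        _ = k⁻¹ * v⁻¹ * k * ((k⁻¹ * t) * v * (t * k)) := by rw [h3, h2]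
        _ = k⁻¹ * (v⁻¹ * (t * v * t)) * k := by group
    rwa [e3] at h1
  · intro r hr v hv htv
    obtain ⟨w, k, hk, -, e1, e2⟩ := key r hr
    rw [e1, mem_cj] at hv
    rw [e2, mem_cj]
    apply D.cent _ hv
    have h2 := D.tN w k hk
    have h3 : t * k⁻¹ = k⁻¹ * t := D.tN w⁻¹ k⁻¹ hk.inv
    calc t * (k⁻¹ * v * k) = (t * k⁻¹) * v * k := by group
      _ = k⁻¹ * (t * v) * k := by rw [h3]; group
      _ = k⁻¹ * v * (t * k) := by rw [htv]; group
      _ = k⁻¹ * v * k * t := by rw [h2]; group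
  · intro r hr x hx
    obtain ⟨w, k, hk, -, e1, e2⟩ := key r hr
    rw [e2, mem_cj] at hx
    obtain ⟨v, hv, e⟩ := D.surj _ hx
    refine ⟨k * v * k⁻¹, by rw [e1]; exact conj_mem_cj.2 hv, ?_⟩
    have h2 := D.tN w k hk
    have h3 : t * k⁻¹ = k⁻¹ * t := D.tN w⁻¹ k⁻¹ hk.inv
    calc (k * v * k⁻¹)⁻¹ * (t * (k * v * k⁻¹) * t) = k * v⁻¹ * k⁻¹ * ((t * k) * v * (k⁻¹ * t)) := by group
      _ = k * v⁻¹ * k⁻¹ * ((k * t) * v * (t * k⁻¹)) := by rw [h2, h3]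
      _ = k * (v⁻¹ * (t * v * t)) * k⁻¹ := by group
      _ = x := by rw [e]; group
  · intro r hr a ha h0 v hv x hx
    obtain ⟨w, k, hk, e0, e1, e2⟩ := key r hr
    rw [e1, mem_cj] at hv
    have h1 := R.conj_mem' hk ha hx
    have h2 := D.WX (rep cs h w⁻¹ a) (ha.act _) (by
      rw [← hB w, rep_apply_inv, e0]; exact h0) _ hv _ h1
    have e3 : v * x = k * ((k⁻¹ * v * k) * (k⁻¹ * x * k)) * k⁻¹ := by group
    have e4 : x * v = k * ((k⁻¹ * x * k) * (k⁻¹ * v * k)) * k⁻¹ := by group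
    rw [e3, e4, h2]
  · intro w k hk r hr v hv
    obtain ⟨w', k', hk', e0, e1, e2⟩ := key r hr
    have h1 := D.wf_eq (hk.mul hk')
    rw [rep_mul_apply, e0] at h1
    rw [h1, mem_cj]
    rw [e1, mem_cj] at hv
    have e3 : (k * k')⁻¹ * (k * v * k⁻¹) * (k * k') = k'⁻¹ * v * k' := by group
    rwa [e3]

end Base0

/-! ### `PreW` -/

theorem comm_eq_inv [Finite W] (R : RGD cs h p T n X) {a b : I → ℤ} (hA : A2 cs h a b) (sqa : ∀ x ∈ X a, x * x = 1)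
    {u c d m : G} {s : W} (hs : ∀ y, rep cs h s y = y - cpr cs h y a • a) (hu : u ∈ X a) (hc : c ∈ X (-a))
    (hd : d ∈ X (-a)) (hm : Rp cs R.nsys s m) (he : m = c * u * d) {v : G} (hv : v ∈ X b) : ⁅u, v⁆ = m⁻¹ * v * m := by
  have hssq : s⁻¹ = s := by
    have : s * s = 1 := by
      refine eq_one_of_fix cs h _ fun i => ?_
      rw [rep_mul_apply, hs (Pi.single i 1), map_sub, map_smul, hs (Pi.single i 1), hs a, cpr_self cs h hA.rx]
      module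
    exact inv_eq_of_mul_eq_one_left this
  have h1 : m⁻¹ = d⁻¹ * u * c⁻¹ := by
    have : u⁻¹ = u := inv_eq_of_mul_eq_one_left (sqa u hu)
    rw [he, mul_inv_rev, mul_inv_rev, this]; group
  have hm2 : Rp cs R.nsys s m⁻¹ := by
    have := hm.inv
    rwa [hssq] at this
  have := A2.comm_eq R hA hu hv (inv_mem hd) (inv_mem hc) hs hm2 h1
  rwa [inv_inv] at this

section Main

variable [Finite W] [Finite G] {T : Subgroup G} {n : I → G} {X : (I → ℤ) → Subgroup G} {K : Subgroup G} {q : ℕ} {t : G}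
  (D : Datum K q cs h T n X) (C : Clean t K)

include D C

theorem YData0.preW (hq : 2 < q) {V : (I → ℤ) → Subgroup G} (Y : YData0 D.rgd t V) :
    PreW t (Bf A) {x | IsRoot cs h x} X V := by
  have hR := roots cs h D.h4 D.h6
  refine ⟨hR, C.tt, fun r hr x hx => C.Kt x (D.XK hr hx), (rg D).X2, Y.XW, Y.sq, Y.brk, Y.cent, Y.surj, Y.WX, ?_,
    (rg D).neg, (vzRG (rg D)).onto, K2' D C, ?_, ?_⟩
  · intro r hr s hs hrs x hx hxs
    have hne : r ≠ s := by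
      rintro rfl
      rw [hR.two r hr] at hrs
      omega
    have : x ∈ X r ⊓ X s := ⟨hx, hxs⟩
    rwa [Cfsg.Agent.Nodes.OppDec.X_inf_X D.rgd hr hs hne, Subgroup.mem_bot] at this
  · intro r hr s hs hrs x hx y hy hx1 hy1
    have ha : IsRoot cs h (r - s) := hR.sub_mem hr hs hrs
    have has : Bf A (r - s) s = -1 := by rw [hR.sub_left, hrs, hR.two s hs]; norm_num
    have hsr : Bf A s r = 1 := by rw [hR.symm]; exact hrs
    obtain ⟨g, hg, e⟩ := (vzRG (rg D)).onto (r - s) ha s hs has y hy hy1 x (by rw [sub_add_cancel]; exact hx)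
    have hg1 : g ≠ 1 := by
      rintro rfl
      apply hx1
      rw [← e]; group
    obtain ⟨s', hs', c, hc, d, hd, m, hm, he⟩ := exists_mu D.rgd ha hg hg1
    have hA := a2 D.h4 D.h6 ha hs has
    have e1 := A2.comm_eq D.rgd hA hg hy hc hd hs' hm he
    have e2 := comm_eq_inv D.rgd hA ((rg D).X2 _ ha) hs' hg hc hd hm he hy
    rw [commutatorElement_def, e] at e1 e2
    have hr' : rep cs h s' r = s := by
      rw [hs', ← bf_eq_cpr D.h4 D.h6 _ ha, hR.sub_right, hR.two r hr, hrs]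
      module
    have hs'' : rep cs h s' s = r := by
      rw [hs', ← bf_eq_cpr D.h4 D.h6 _ ha, hR.sub_right, hsr, hR.two s hs]
      module
    have hmK : m ∈ K := by
      rw [← D.GG_eq]
      exact NN_le_GG D.rgd ⟨_, hm⟩
    refine ⟨m, (C.Kt m hmK).symm, ?_, e1.symm, fun w hw => ?_, fun w hw => ?_⟩
    · rw [e2]; group
    · have := Y.eqv s' m hm r hr w hw
      rwa [hr'] at this
    · have := Y.eqv s' m hm s hs w hw
      rwa [hs''] at this
  · intro r hr x _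
    obtain ⟨y, hy, z, hz, hy1, hz1, hyz⟩ := KData.exists_two D hq hr
    by_cases hxy : y = x
    · exact ⟨z, hz, hz1, fun e => hyz (hxy.trans e.symm)⟩
    · exact ⟨y, hy, hy1, hxy⟩

/-- **`PreOf.Base`.** -/
theorem exists_base (Tab : ∀ g ∈ T, ∀ k ∈ T, g * k = k * g) (hq : 2 < q) {r : I → ℤ} (hr : IsRoot cs h r)
    (hT : 4 ≤ Fintype.card I ∨ ∃ β g k, Tor (Bf A) {x | IsRoot cs h x} X r T β g k)
    {n' : G} (hX : ∀ x ∈ X r, n' * x * n'⁻¹ ∈ X r) (ht : t * (n' * t * n'⁻¹) ∈ X r) (hnt : n' * t * n'⁻¹ ≠ t) :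
    ∃ V, Base D.rgd t r V := by
  have hR := roots cs h D.h4 D.h6
  obtain ⟨V, O⟩ := exists_out D C Tab hq hr hT hX ht hnt
  have hN : ∀ w k, Rp cs D.rgd.nsys w k → k ∈ K := by
    intro w k hk
    rw [← D.GG_eq]
    exact NN_le_GG D.rgd ⟨_, hk⟩
  have B : Base0 D.rgd t r V := by
    refine ⟨hr, O.dbl.XW, O.sq, O.dbl.brk, O.dbl.cent, O.dbl.surj, ?_, ?_, fun w k hk => C.Kt k (hN w k hk)⟩
    · intro a ha h0 w hw x hx
      exact O.dbl.WP w hw x (le_PR X ha h0 hx)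
    · intro w k hk hwr v hv
      refine O.nrm k ?_ v hv
      have h1 := ((lr D r hr).mem_normalizer_iff hk).2 hwr
      have h2 : k ∈ PS T X (Ge cs h r) := by
        rw [← (lr D r hr).normalizer]
        exact ⟨h1, by rw [D.GG_eq]; exact hN w k hk⟩
      unfold PS at h2
      rwa [sup_Ge D hr] at h2
  -- transport
  have htr : ∀ s, IsRoot cs h s → ∃ w, rep cs h w r = s := by
    have h2 : 2 ≤ Fintype.card I := by have := D.three; omega
    intro s hs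
    refine ind D.h4 D.h6 D.irr h2 (P := fun s => ∃ w, rep cs h w r = s) hr ⟨1, by
      rw [map_one, Module.End.one_apply]⟩ ?_ hs
    rintro _ s _ hs hrs ⟨w, rfl⟩
    have hr' : IsRoot cs h (rep cs h w r) := hr.act w
    obtain ⟨s', hs'⟩ : ∃ s' : W, ∀ y, rep cs h s' y = y - cpr cs h y (rep cs h w r - s) • (rep cs h w r - s) := by
      obtain ⟨v, i, e⟩ := hR.sub_mem hr' hs hrs
      refine ⟨v * cs.simple i * v⁻¹, fun y => ?_⟩
      rw [rep_mul_apply, rep_mul_apply, rep_simple_eq, map_sub, rep_apply_inv, map_smul,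
        ← cpr_rep_sr (cs := cs) (h := h), ← e]
    refine ⟨s'⁻¹ * w, ?_⟩
    rw [rep_mul_apply]
    have h3 := rep_sub D.h4 D.h6 hr' hs hrs hs'
    rw [← h3, rep_inv_apply]
  have Y := B.yData0 htr (bf_rep D.h4 D.h6)
  have P := YData0.preW D C hq Y
  -- commutativity
  obtain ⟨s, hs, hrs⟩ := exists_neg_one D.h4 D.h6 D.irr D.three hr
  have hab : ∀ v ∈ V, ∀ w ∈ V, v * w = w * v := by
    intro v hv w hw
    have e : Wf D.rgd r V r = V := by
      have := B.wf_eq (w := 1) (k := 1) rp_one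
      rw [map_one, Module.End.one_apply, cj_one] at this
      exact this
    refine P.ab hr hs.neg (by rw [hR.neg_right, hrs]; norm_num) ?_ ?_
    · rw [e]; exact hv
    · rw [e]; exact hw
  exact ⟨V, ⟨hr, B.XW, hab, B.brk, B.cent, B.surj, B.WX, B.nrm, B.tN⟩⟩

/-- **THEOREM SL, `q > 2`, clean case**, from one element moving `t` inside `t X r`. -/
theorem exists_hom (Tab : ∀ g ∈ T, ∀ k ∈ T, g * k = k * g) (hq : 2 < q) {r : I → ℤ} (hr : IsRoot cs h r)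
    (hT : 4 ≤ Fintype.card I ∨ ∃ β g k, Tor (Bf A) {x | IsRoot cs h x} X r T β g k)
    {n' : G} (hX : ∀ x ∈ X r, n' * x * n'⁻¹ ∈ X r) (ht : t * (n' * t * n'⁻¹) ∈ X r) (hnt : n' * t * n'⁻¹ ≠ t) :
    ∃ m : G →* ℤˣ, m t = -1 := by
  obtain ⟨V, B⟩ := exists_base D C Tab hq hr hT hX ht hnt
  exact exists_hom_base D C hq B

end Main

end Cfsg.Agent.OddHalf.D7Ex.OfKData
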