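import Mathlib

/-!
# ODD D7, `q = 2`: auxiliary group theory for the normaliser of a Sylow subgroup (helper57)

* `Two H a` : `H ∪ H a` for an involution `a` normalising `H`;
* `Rel.trick_t`, `Rel.trick_z` : if `n` centralises `z`, `z'` and `n t n⁻¹ = t z`, and `x'`, `x₀` generate the group
  `S₃` acting on `⟨z, z'⟩`, then `c = k [x', n] k⁻¹`, `k = x' x₀ x'`, satisfies `c t c⁻¹ = t z`, `c z = z c`.
-/

set_option autoImplicit false

namespace Cfsg.Agent.OddHalf.D7Ex.TriAux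

variable {G : Type*} [Group G]

/-- `H ∪ H a` -/
def Two (H : Subgroup G) (a : G) (ha : a * a = 1) (hn : ∀ y ∈ H, a * y * a⁻¹ ∈ H) : Subgroup G where
  carrier := {y | y ∈ H ∨ y * a ∈ H}
  one_mem' := Or.inl (one_mem H)
  mul_mem' := by
    have hi : a⁻¹ = a := inv_eq_of_mul_eq_one_left ha
    rintro x y (hx | hx) (hy | hy)
    · exact Or.inl (mul_mem hx hy)
    · right
      rw [mul_assoc]; exact mul_mem hx hy
    · right
      have e : x * y * a = (x * a) * (a * y * a⁻¹) := by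
        calc x * y * a = x * (a * a) * y * a := by rw [ha, mul_one]
          _ = (x * a) * (a * y * a) := by group
          _ = _ := by rw [hi]
      rw [e]
      exact mul_mem hx (hn y hy)
    · left
      have e : x * y = (x * a) * (a * (y * a) * a⁻¹) := by
        calc x * y = x * (a * a) * (y * a) * a⁻¹ := by rw [ha]; group
          _ = _ := by group
      rw [e]
      exact mul_mem hx (hn _ hy)
  inv_mem' := by
    have hi : a⁻¹ = a := inv_eq_of_mul_eq_one_left ha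
    rintro x (hx | hx)
    · exact Or.inl (inv_mem hx)
    · right
      have e : x⁻¹ * a = a * (x * a)⁻¹ * a⁻¹ := by
        rw [mul_inv_rev, ← mul_assoc, mul_inv_cancel, one_mul, hi]
      rw [e]
      exact hn _ (inv_mem hx)

theorem mem_Two {H : Subgroup G} {a : G} {ha : a * a = 1} {hn : ∀ y ∈ H, a * y * a⁻¹ ∈ H} {y : G} :
    y ∈ Two H a ha hn ↔ y ∈ H ∨ y * a ∈ H := Iff.rfl

theorem le_Two {H : Subgroup G} {a : G} {ha : a * a = 1} {hn : ∀ y ∈ H, a * y * a⁻¹ ∈ H} :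
    H ≤ Two H a ha hn := fun _ hx => Or.inl hx

theorem mem_Two_self {H : Subgroup G} {a : G} {ha : a * a = 1} {hn : ∀ y ∈ H, a * y * a⁻¹ ∈ H} :
    a ∈ Two H a ha hn := Or.inr (by rw [ha]; exact one_mem H)

/-- conjugation by `a b` -/
theorem cc (a b y : G) : a * b * y * (a * b)⁻¹ = a * (b * y * b⁻¹) * a⁻¹ := by group

theorem cm (a x y : G) : a * (x * y) * a⁻¹ = (a * x * a⁻¹) * (a * y * a⁻¹) := by group

theorem fix {a y : G} (h : a * y = y * a) : a * y * a⁻¹ = y := by rw [h, mul_inv_cancel_right]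

theorem cof {a y : G} (h : a * y * a⁻¹ = y) : a * y = y * a := mul_inv_eq_iff_eq_mul.1 h

theorem inv_conj {a y y' : G} (h : a * y * a⁻¹ = y') : a⁻¹ * y' * a⁻¹⁻¹ = y := by rw [← h]; group

/-- the relations -/
structure Rel (t z zs x' x0 n : G) : Prop where
  zz : z * z = 1
  ss : zs * zs = 1
  pp : x' * x' = 1
  oo : x0 * x0 = 1
  tp : x' * t = t * x'
  tx : x0 * t = t * x0
  zc : z * zs = zs * z
  ps : x' * zs = zs * x'
  oz : x0 * z = z * x0
  pz : x' * z * x'⁻¹ = zs * z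
  os : x0 * zs * x0⁻¹ = zs * z
  nz : n * z = z * n
  ns : n * zs = zs * n
  nt : n * t * n⁻¹ = t * z

namespace Rel

variable {t z zs x' x0 n : G} (R : Rel t z zs x' x0 n)

include R

theorem k_t : (x' * x0 * x') * t * (x' * x0 * x')⁻¹ = t := by
  rw [cc, cc, fix R.tp, fix R.tx, fix R.tp]

theorem k_s : (x' * x0 * x') * zs * (x' * x0 * x')⁻¹ = z := by
  rw [cc, cc, fix R.ps, R.os, cm x', fix R.ps, R.pz, ← mul_assoc, R.ss, one_mul]

theorem k_z : (x' * x0 * x') * z * (x' * x0 * x')⁻¹ = zs := by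
  rw [cc, cc, R.pz, cm x0, R.os, fix R.oz, mul_assoc zs, R.zz, mul_one, fix R.ps]

theorem k_inv : (x' * x0 * x')⁻¹ = x' * x0 * x' := by
  rw [mul_inv_rev, mul_inv_rev, inv_eq_of_mul_eq_one_left R.pp, inv_eq_of_mul_eq_one_left R.oo, mul_assoc]

theorem n_inv_t : n⁻¹ * t * n⁻¹⁻¹ = t * z := by
  have h1 : n * (t * z) * n⁻¹ = t := by
    rw [cm n, R.nt, fix R.nz, mul_assoc, R.zz, mul_one]
  exact inv_conj h1

theorem n_inv_s : n⁻¹ * zs * n⁻¹⁻¹ = zs := inv_conj (fix R.ns)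

theorem p_conj (y : G) : x'⁻¹ * y * x'⁻¹⁻¹ = x' * y * x'⁻¹ := by
  simp only [inv_eq_of_mul_eq_one_left R.pp]

theorem c0_t : (x' * n * x'⁻¹ * n⁻¹) * t * (x' * n * x'⁻¹ * n⁻¹)⁻¹ = t * zs := by
  rw [cc, R.n_inv_t, cc, R.p_conj, cm x', fix R.tp, R.pz, cc, cm n, cm n, R.nt, fix R.nz, fix R.ns]
  have e : t * z * (zs * z) = t * zs := by
    rw [← R.zc, mul_assoc, ← mul_assoc z z, R.zz, one_mul]
  rw [e, cm x', fix R.tp, fix R.ps]

theorem c0_s : (x' * n * x'⁻¹ * n⁻¹) * zs * (x' * n * x'⁻¹ * n⁻¹)⁻¹ = zs := by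
  rw [cc, R.n_inv_s, cc, R.p_conj, fix R.ps, cc, fix R.ns, fix R.ps]

/-- **the trick** -/
theorem trick_t : ((x' * x0 * x') * (x' * n * x'⁻¹ * n⁻¹) * (x' * x0 * x')⁻¹) * t *
    ((x' * x0 * x') * (x' * n * x'⁻¹ * n⁻¹) * (x' * x0 * x')⁻¹)⁻¹ = t * z := by
  rw [cc, cc, inv_conj R.k_t, R.c0_t, cm (x' * x0 * x'), R.k_t, R.k_s]

theorem trick_z : ((x' * x0 * x') * (x' * n * x'⁻¹ * n⁻¹) * (x' * x0 * x')⁻¹) * z *
    ((x' * x0 * x') * (x' * n * x'⁻¹ * n⁻¹) * (x' * x0 * x')⁻¹)⁻¹ = z := by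
  rw [cc, cc, inv_conj R.k_s, R.c0_s, R.k_s]

end Rel

end Cfsg.Agent.OddHalf.D7Ex.TriAux
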