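import Cfsg.Agent.OddHalf.D7Ex.KTwo
import Cfsg.Agent.OddHalf.D7Ex.GamAut
import Cfsg.Agent.Nodes.ClsSub

/-!
# ODD D7, `q = 2`: the highest root and its node (helper57)

* `Nd cs h f j κ r` : `r` is the highest root, `j` the simple root with `(j, r) = 1`, `f : J ↪ I` a subdiagram not
  containing `j`, `κ` its only node adjacent to `j`, no edge between `J` and the rest;
* `bf_r` : `(a, r) = a j`; `exists_one` : every `b` with `(b, r) = 1`, `b ≠ j`, has a simple `i ≠ j` with `(b, i) = 1`;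
  `nonneg_s` : `(b, r - j) ≥ 0` for `b > 0`, `b ≠ j`.
-/

set_option autoImplicit false
set_option linter.unusedSectionVars false

namespace Cfsg.Agent.OddHalf.D7Ex.TriComb

open Cfsg.Agent.OddHalf.SL Cfsg.Agent.KFacts CoxeterSystem Cfsg.Agent.ChevalleyStructure.CoxeterGeom
  Cfsg.Agent.Tits.Roots Cfsg.Agent.Tits.Core
  Cfsg.Agent.Tits.RootComb Cfsg.Agent.Nodes.Comb Cfsg.Agent.Nodes.Reps Cfsg.Agent.Nodes.BNOf
  Cfsg.Agent.Nodes.Bruhat Cfsg.Agent.Nodes.Coroot Cfsg.Agent.OddHalf.SL.Index Cfsg.Agent.OddHalf.SL.OfRGD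
  Cfsg.Agent.Nodes.StabComb Cfsg.Agent.Nodes.LeviDec Cfsg.Agent.Nodes.Sub Cfsg.Agent.Nodes.SubComb

variable {I J W : Type*} [Fintype I] [DecidableEq I] [Fintype J] [DecidableEq J] [Group W] {M : CoxeterMatrix I}
  {cs : CoxeterSystem M W} {A : I → I → ℤ} {h : IsCartan M A}

/-- the node data -/
structure Nd (cs : CoxeterSystem M W) (h : IsCartan M A) (f : J ↪ I) (j : I) (κ : J) (r : I → ℤ) : Prop where
  hr : IsRoot cs h r
  dj : Bf A (sr j) r = 1
  di : ∀ i, i ≠ j → Bf A (sr i) r = 0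
  fj : ∀ i, f i ≠ j
  kj : Bf A (sr (f κ)) (sr j) = -1
  nj : ∀ i, i ≠ κ → Bf A (sr (f i)) (sr j) = 0
  rest : ∀ b, b ≠ j → (∀ i, f i ≠ b) → ∀ i, Bf A (sr b) (sr (f i)) = 0

omit [Fintype J] [DecidableEq J] in
theorem bf_expand (x y : I → ℤ) : Bf A x y = ∑ i, y i * Bf A x (sr i) := by
  unfold Bf
  refine Finset.sum_congr rfl fun i _ => ?_
  congr 1
  exact (bf_sr x i).symm

variable [Finite W] (h4 : ∀ i j, M i j ≠ 4) (h6 : ∀ i j, M i j ≠ 6)

include cs h h4 h6 in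
/-- `(i, j) ≤ 0` for different simple roots -/
theorem bf_sr_nonpos {i k : I} (hik : i ≠ k) : Bf A (sr i) (sr k) ≤ 0 := by
  have hR := roots cs h h4 h6
  have h1 := hR.le _ (isRoot_sr cs h i) _ (isRoot_sr cs h k)
  by_contra hcon
  push Not at hcon
  have h2 : Bf A (sr i) (sr k) ≠ 2 := fun e => by
    have := congrFun (hR.eq _ (isRoot_sr cs h i) _ (isRoot_sr cs h k) e) i
    rw [sr_self, sr_ne hik] at this
    exact absurd this (by norm_num)
  have h3 : IsRoot cs h (sr i - sr k) := hR.sub_mem (isRoot_sr cs h i) (isRoot_sr cs h k) (by omega)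
  rcases h3.pos_or_neg with h5 | h5
  · have : (0 : ℤ) ≤ (sr i - sr k : I → ℤ) k := h5 k
    rw [Pi.sub_apply, sr_self, sr_ne hik.symm] at this
    omega
  · have : (sr i - sr k : I → ℤ) i ≤ (0 : ℤ) := h5 i
    rw [Pi.sub_apply, sr_self, sr_ne hik] at this
    omega

include h4 h6

variable {f : J ↪ I} {j : I} {κ : J} {r : I → ℤ} (N : Nd cs h f j κ r)

include N

/-- `(a, r) = a j` -/
theorem bf_r (a : I → ℤ) : Bf A a r = a j := by
  have hR := roots cs h h4 h6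
  rw [hR.symm, bf_expand, Finset.sum_eq_single j]
  · rw [hR.symm, N.dj, mul_one]
  · intro i _ hi
    rw [hR.symm, N.di i hi, mul_zero]
  · intro hj; exact absurd (Finset.mem_univ j) hj

theorem bf_r_sr : Bf A r (sr j) = 1 := by
  rw [(roots cs h h4 h6).symm]; exact N.dj

/-- `s = r - j` is a root -/
theorem hs : IsRoot cs h (r - sr j) := (roots cs h h4 h6).sub_mem N.hr (isRoot_sr cs h j) (bf_r_sr h4 h6 N)

theorem hs1 : r - sr j ∈ Ph1 (Bf A) {x | IsRoot cs h x} r := by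
  refine ⟨hs h4 h6 N, ?_⟩
  rw [(roots cs h h4 h6).sub_left, (roots cs h h4 h6).two r N.hr, N.dj]; norm_num

theorem mem_Ph1 {b : I → ℤ} : b ∈ Ph1 (Bf A) {x | IsRoot cs h x} r ↔ IsRoot cs h b ∧ b j = 1 := by
  unfold Ph1
  rw [Set.mem_setOf_eq, bf_r h4 h6 N]
  exact Iff.rfl

theorem r_j : r j = 2 := (bf_r h4 h6 N r).symm.trans ((roots cs h h4 h6).two r N.hr)

theorem Ph1_nonneg {b : I → ℤ} (hb : b ∈ Ph1 (Bf A) {x | IsRoot cs h x} r) : 0 ≤ b :=
  nonneg_of_pos_apply hb.1 (k := j) (by rw [((mem_Ph1 h4 h6 N).1 hb).2]; norm_num)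

theorem r_nonneg : 0 ≤ r := nonneg_of_pos_apply N.hr (k := j) (by rw [r_j h4 h6 N]; norm_num)

/-- every `b ∈ Ph1` different from `j` has `(b, i) = 1` for a simple root `i ≠ j` -/
theorem exists_one {b : I → ℤ} (hb : b ∈ Ph1 (Bf A) {x | IsRoot cs h x} r) (hne : b ≠ sr j) :
    ∃ i, i ≠ j ∧ Bf A b (sr i) = 1 := by
  have hR := roots cs h h4 h6
  by_contra hcon
  push Not at hcon
  have hbj := ((mem_Ph1 h4 h6 N).1 hb).2
  have h1 : ∀ i, i ≠ j → Bf A b (sr i) ≤ 0 := by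
    intro i hi
    have h2 := hR.le b hb.1 _ (isRoot_sr cs h i)
    have h3 := hcon i hi
    have h5 : Bf A b (sr i) ≠ 2 := fun e => by
      have := congrFun (hR.eq b hb.1 _ (isRoot_sr cs h i) e) j
      rw [hbj, sr_ne hi.symm] at this
      exact absurd this (by norm_num)
    omega
  have h2 := hR.two b hb.1
  rw [bf_expand, ← Finset.add_sum_erase _ _ (Finset.mem_univ j), hbj, one_mul] at h2
  have h3 : ∑ i ∈ Finset.univ.erase j, b i * Bf A b (sr i) ≤ 0 := by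
    refine Finset.sum_nonpos fun i hi => ?_
    exact mul_nonpos_of_nonneg_of_nonpos (Ph1_nonneg h4 h6 N hb i) (h1 i (Finset.ne_of_mem_erase hi))
  have h5 := hR.le b hb.1 _ (isRoot_sr cs h j)
  exact hne (hR.eq b hb.1 _ (isRoot_sr cs h j) (by omega))

/-- `(b, s) ≥ 0` for `b > 0`, `b ≠ j` -/
theorem nonneg_s {b : I → ℤ} (hb : IsRoot cs h b) (h0 : 0 ≤ b) (hne : b ≠ sr j) : 0 ≤ Bf A b (r - sr j) := by
  have hR := roots cs h h4 h6
  have hs := hs h4 h6 N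
  rcases (show 0 ≤ Bf A b (r - sr j) ∨ Bf A b (r - sr j) = -1 ∨ Bf A b (r - sr j) = -2 by
    have := hR.ge hb hs; omega) with h1 | h1 | h1
  · exact h1
  · exfalso
    rcases (show b j = 0 ∨ 1 ≤ b j by have : (0 : ℤ) ≤ b j := h0 j; omega) with h2 | h2
    · rw [hR.sub_right, bf_r h4 h6 N, h2] at h1
      have h3 : Bf A b (sr j) ≤ 0 := by
        rw [hR.symm, bf_expand]
        refine Finset.sum_nonpos fun i _ => ?_
        by_cases hij : i = j
        · rw [hij, h2, zero_mul]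
        · exact mul_nonpos_of_nonneg_of_nonpos (h0 i) (bf_sr_nonpos (cs := cs) (h := h) h4 h6 fun e => hij e.symm)
      omega
    · have h3 := hR.add b hb _ hs h1
      have h5 := hR.le _ h3 r N.hr
      rw [bf_r h4 h6 N, Pi.add_apply, Pi.sub_apply, r_j h4 h6 N, sr_self] at h5
      have h6' := hR.eq _ h3 r N.hr (by
        rw [bf_r h4 h6 N, Pi.add_apply, Pi.sub_apply, r_j h4 h6 N, sr_self]; omega)
      apply hne
      have : b = r - (r - sr j) := eq_sub_of_add_eq h6'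
      rw [this]; abel
  · exfalso
    have h2 := congrFun (hR.eq_neg hb hs h1) j
    rw [Pi.neg_apply, Pi.sub_apply, r_j h4 h6 N, sr_self] at h2
    have : (0 : ℤ) ≤ b j := h0 j
    omega

/-- `(-i, s) = 0` for `i ∈ J`, `i ≠ κ` -/
theorem bf_neg_s {i : J} (hi : i ≠ κ) : Bf A (-sr (f i)) (r - sr j) = 0 := by
  have hR := roots cs h h4 h6
  rw [hR.neg_left, hR.sub_right, N.di _ (N.fj i), N.nj i hi]; norm_num

/-- `(-κ, s) = -1` -/
theorem bf_neg_k : Bf A (-sr (f κ)) (r - sr j) = -1 := by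
  have hR := roots cs h h4 h6
  rw [hR.neg_left, hR.sub_right, N.di _ (N.fj κ), N.kj]; norm_num

/-- `s - κ ∈ Ph1` -/
theorem sk_mem : -sr (f κ) + (r - sr j) ∈ Ph1 (Bf A) {x | IsRoot cs h x} r := by
  have hR := roots cs h h4 h6
  refine ⟨hR.add _ (isRoot_sr cs h (f κ)).neg _ (hs h4 h6 N) (bf_neg_k h4 h6 N), ?_⟩
  rw [hR.add_left, (hs1 h4 h6 N).2, hR.neg_left, N.di _ (N.fj κ)]; norm_num

theorem Ph1_NotJ {b : I → ℤ} (hb : b ∈ Ph1 (Bf A) {x | IsRoot cs h x} r) : b ∈ NotJ cs h (Set.range f) := by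
  refine ⟨hb.1, Ph1_nonneg h4 h6 N hb, j, ?_, ?_⟩
  · rintro ⟨i, hi⟩; exact N.fj i hi
  · rw [((mem_Ph1 h4 h6 N).1 hb).2]; norm_num

theorem r_NotJ : r ∈ NotJ cs h (Set.range f) := by
  refine ⟨N.hr, r_nonneg h4 h6 N, j, ?_, ?_⟩
  · rintro ⟨i, hi⟩; exact N.fj i hi
  · rw [r_j h4 h6 N]; norm_num

/-- roots of the subdiagram are orthogonal to `r` -/
theorem RootsJ_zero {a : I → ℤ} (ha : a ∈ RootsJ cs h (Set.range f)) : Bf A a r = 0 := by
  rw [bf_r h4 h6 N]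
  exact ha.2 j (by rintro ⟨i, hi⟩; exact N.fj i hi)

end Cfsg.Agent.OddHalf.D7Ex.TriComb
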