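import Cfsg.Agent.OddHalf.D7Ex.TriComb

/-!
# ODD D7, `q = 2`: the nodes of `E₆`, `E₇`, `E₈` (helper57)

`nd_E6`, `nd_E7`, `nd_E8` : the node data `Nd` of the dominant root; `nb_*`, `aut_*`, `full_*`.
-/

set_option autoImplicit false
set_option linter.unusedSectionVars false

namespace Cfsg.Agent.OddHalf.D7Ex.TriNode

open Cfsg.Agent.OddHalf.SL Cfsg.Agent.KFacts CoxeterSystem Cfsg.Agent.ChevalleyStructure.CoxeterGeom
  Cfsg.Agent.Tits.Roots Cfsg.Agent.Tits.Core
  Cfsg.Agent.Tits.RootComb Cfsg.Agent.Nodes.Comb Cfsg.Agent.Nodes.Reps Cfsg.Agent.Nodes.BNOf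
  Cfsg.Agent.Nodes.Bruhat Cfsg.Agent.Nodes.Coroot Cfsg.Agent.OddHalf.SL.Index Cfsg.Agent.OddHalf.SL.OfRGD
  Cfsg.Agent.Nodes.StabComb Cfsg.Agent.Nodes.LeviDec Cfsg.Agent.Nodes.Sub Cfsg.Agent.Nodes.SubComb
  Cfsg.Agent.OddHalf.D7Ex.TriComb Cfsg.Agent.Nodes.ZFam

theorem mul3 {x y : ℤ} (hx : 3 ≤ x) (hy : 1 ≤ y) : 3 ≤ x * y := by nlinarith

theorem mul2 {x y : ℤ} (hx : 2 ≤ x) (hy : 1 ≤ y) : 2 ≤ x * y := by nlinarith

theorem mul1 {x y : ℤ} (hx : 1 ≤ x) (hy : 1 ≤ y) : 1 ≤ x * y := by nlinarith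

theorem mul4 {x y : ℤ} (hx : 2 ≤ x) (hy : 2 ≤ y) : 4 ≤ x * y := by nlinarith

theorem sq1 {m : ℤ} (hm : 0 ≤ m) (h : 2 * m * m = 2) : m = 1 := by nlinarith

section Gen

variable {I W : Type*} [Fintype I] [DecidableEq I] [Group W] {M : CoxeterMatrix I}
  {cs : CoxeterSystem M W} {A : I → I → ℤ} {h : IsCartan M A}

theorem bf_sr_sr (i k : I) : Bf A (sr i) (sr k) = A k i := by rw [bf_sr, pairing_sr']

theorem bf_val (i : I) (x : I → ℤ) : Bf A (sr i) x = ∑ k, x k * A k i := by
  rw [bf_expand]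
  exact Finset.sum_congr rfl fun k _ => by rw [bf_sr_sr]

omit [Fintype I] in
/-- the Cartan matrix of a simply laced diagram -/
theorem cartan_val (h : IsCartan M A) (h4 : ∀ i j, M i j ≠ 4) (h6 : ∀ i j, M i j ≠ 6) (i k : I) :
    A i k = if i = k then 2 else if M i k = 3 then -1 else 0 := by
  by_cases hik : i = k
  · rw [if_pos hik, hik, h.diag]
  · rw [if_neg hik]
    rcases h.rel i k hik with ⟨h0, h1, -⟩ | ⟨h0, h1, -⟩ | ⟨h0, -⟩ | ⟨h0, -⟩
    · rw [if_neg (by rw [h0]; norm_num), h1]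
    · rw [if_pos h0, h1]
    · exact absurd h0 (h4 i k)
    · exact absurd h0 (h6 i k)

variable [Finite W]

/-- the dominant root -/
theorem dom_facts (h4 : ∀ i j, M i j ≠ 4) (h6 : ∀ i j, M i j ≠ 6) {ρ : I → ℤ} (hρ : IsRoot cs h ρ)
    (hd : ∀ i, 0 ≤ cpr cs h (sr i) ρ) :
    (∀ i, 0 ≤ ρ i) ∧ (∀ i, 0 ≤ Bf A (sr i) ρ) ∧ ∑ i, ρ i * Bf A (sr i) ρ = 2 := by
  have hR := roots cs h h4 h6
  have h1 : ∀ i, 0 ≤ Bf A (sr i) ρ := fun i => by rw [bf_eq_cpr h4 h6 _ hρ]; exact hd i
  have h2 : ∑ i, ρ i * Bf A (sr i) ρ = 2 := by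
    have := hR.two ρ hρ
    rw [bf_expand] at this
    rw [← this]
    exact Finset.sum_congr rfl fun i _ => by rw [hR.symm]
  refine ⟨?_, h1, h2⟩
  rcases hρ.pos_or_neg with h3 | h3
  · exact h3
  · exfalso
    have : ∑ i, ρ i * Bf A (sr i) ρ ≤ 0 := Finset.sum_nonpos fun i _ =>
      mul_nonpos_of_nonpos_of_nonneg (h3 i) (h1 i)
    omega

end Gen

/-! ### `E₈` -/

section E8

variable {W : Type*} [Group W] [Finite W] {cs : CoxeterSystem CoxeterMatrix.E₈ W} {A : Fin 8 → Fin 8 → ℤ}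
  {h : IsCartan CoxeterMatrix.E₈ A}

theorem h4_E8 : ∀ i j, CoxeterMatrix.E₈ i j ≠ 4 := by intro i; fin_cases i <;> decide

theorem h6_E8 : ∀ i j, CoxeterMatrix.E₈ i j ≠ 6 := by intro i; fin_cases i <;> decide

/-- the subdiagram `E₇` -/
def f8 : Fin 7 ↪ Fin 8 := ⟨![0, 1, 2, 3, 4, 5, 6], by decide⟩

theorem cartan_E8 (h : IsCartan CoxeterMatrix.E₈ A) (i k : Fin 8) : A i k =
    (![![2, 0, -1, 0, 0, 0, 0, 0], ![0, 2, 0, -1, 0, 0, 0, 0], ![-1, 0, 2, -1, 0, 0, 0, 0], 
      ![0, -1, -1, 2, -1, 0, 0, 0], ![0, 0, 0, -1, 2, -1, 0, 0], ![0, 0, 0, 0, -1, 2, -1, 0], 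
      ![0, 0, 0, 0, 0, -1, 2, -1], ![0, 0, 0, 0, 0, 0, -1, 2]] : Fin 8 → Fin 8 → ℤ) i k := by
  rw [cartan_val h h4_E8 h6_E8 i k]
  revert i k
  decide

theorem nd_E8 {ρ : Fin 8 → ℤ} (hρ : IsRoot cs h ρ) (hd : ∀ i, 0 ≤ cpr cs h (sr i) ρ) :
    Nd cs h f8 7 6 ρ := by
  obtain ⟨h1, h2, h3⟩ := dom_facts h4_E8 h6_E8 hρ hd
  have e : ∀ i, Bf A (sr i) ρ = ∑ k, ρ k * A k i := fun i => bf_val i ρ
  simp only [cartan_E8 h, Fin.sum_univ_eight] at e
  have e0 := e 0
  have e1 := e 1
  have e2 := e 2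
  have e3 := e 3
  have e4 := e 4
  have e5 := e 5
  have e6 := e 6
  have e7 := e 7
  simp at e0 e1 e2 e3 e4 e5 e6 e7
  clear e
  simp only [Fin.sum_univ_eight] at h3
  have a0 := h1 0
  have a1 := h1 1
  have a2 := h1 2
  have a3 := h1 3
  have a4 := h1 4
  have a5 := h1 5
  have a6 := h1 6
  have a7 := h1 7
  have b0 := h2 0
  have b1 := h2 1
  have b2 := h2 2
  have b3 := h2 3
  have b4 := h2 4
  have b5 := h2 5
  have b6 := h2 6
  have b7 := h2 7
  have p0 := mul_nonneg a0 b0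
  have p1 := mul_nonneg a1 b1
  have p2 := mul_nonneg a2 b2
  have p3 := mul_nonneg a3 b3
  have p4 := mul_nonneg a4 b4
  have p5 := mul_nonneg a5 b5
  have p6 := mul_nonneg a6 b6
  have p7 := mul_nonneg a7 b7
  have z0 : Bf A (sr 0) ρ = 0 := by
    by_contra hne
    have hy : 1 ≤ Bf A (sr 0) ρ := by omega
    have := mul3 (x := ρ 0) (by linarith) hy
    linarith
  have z1 : Bf A (sr 1) ρ = 0 := by
    by_contra hne
    have hy : 1 ≤ Bf A (sr 1) ρ := by omega
    have := mul3 (x := ρ 1) (by linarith) hy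
    linarith
  have z2 : Bf A (sr 2) ρ = 0 := by
    by_contra hne
    have hy : 1 ≤ Bf A (sr 2) ρ := by omega
    have := mul3 (x := ρ 2) (by linarith) hy
    linarith
  have z3 : Bf A (sr 3) ρ = 0 := by
    by_contra hne
    have hy : 1 ≤ Bf A (sr 3) ρ := by omega
    have := mul3 (x := ρ 3) (by linarith) hy
    linarith
  have z4 : Bf A (sr 4) ρ = 0 := by
    by_contra hne
    have hy : 1 ≤ Bf A (sr 4) ρ := by omega
    have := mul3 (x := ρ 4) (by linarith) hy
    linarith
  have z5 : Bf A (sr 5) ρ = 0 := by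
    by_contra hne
    have hy : 1 ≤ Bf A (sr 5) ρ := by omega
    have := mul3 (x := ρ 5) (by linarith) hy
    linarith
  have z6 : Bf A (sr 6) ρ = 0 := by
    by_contra hne
    have hy : 1 ≤ Bf A (sr 6) ρ := by omega
    have := mul3 (x := ρ 6) (by linarith) hy
    linarith
  have zj : Bf A (sr 7) ρ = 1 := by
    rw [z0, z1, z2, z3, z4, z5, z6] at h3
    simp only [mul_zero, zero_add, add_zero] at h3
    have h5 : ρ 7 = 2 * Bf A (sr 7) ρ := by linarith
    rw [h5] at h3
    exact sq1 b7 h3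
  clear p0 p1 p2 p3 p4 p5 p6 p7
  refine ⟨hρ, zj, ?_, by decide, ?_, ?_, ?_⟩
  · intro i hi
    fin_cases i
    · exact z0
    · exact z1
    · exact z2
    · exact z3
    · exact z4
    · exact z5
    · exact z6
    · exact absurd rfl hi
  · rw [bf_sr_sr, cartan_E8 h]; rfl
  · intro i hi
    rw [bf_sr_sr, cartan_E8 h]
    revert i; decide
  · intro b hb hb'
    exfalso
    revert b; decide

theorem full_E8 : ∀ b : Fin 8, b ≠ 7 → ∃ i, f8 i = b := by decide

theorem nb_E8 (h : IsCartan CoxeterMatrix.E₈ A) : ∀ i, ∃ i', Bf A (sr (f8 i)) (sr (f8 i')) = -1 := by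
  intro i
  simp only [bf_sr_sr, cartan_E8 h]
  revert i; decide

theorem aut_E8 {σ : Equiv.Perm (Fin 7)}
    (hσ : ∀ i k, CoxeterMatrix.E₈ (f8 (σ i)) (f8 (σ k)) = CoxeterMatrix.E₈ (f8 i) (f8 k)) (h6 : σ 6 = 6) : σ = 1 := by
  have key : ∀ a b, CoxeterMatrix.E₈ (f8 a) (f8 b) = 3 → CoxeterMatrix.E₈ (f8 (σ a)) (f8 (σ b)) = 3 := by
    intro a b hab
    rw [hσ]; exact hab
  have ne : ∀ a b, a ≠ b → σ a ≠ σ b := fun a b h e => h (σ.injective e)
  have h5 : σ 5 = 5 := by
    have q := key 5 6 (by decide)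
    rw [h6] at q
    revert q
    generalize σ 5 = x
    revert x; decide
  have h4 : σ 4 = 4 := by
    have q := key 4 5 (by decide)
    rw [h5] at q
    have m0 := ne 4 6 (by decide)
    rw [h6] at m0
    revert q m0
    generalize σ 4 = x
    revert x; decide
  have h3 : σ 3 = 3 := by
    have q := key 3 4 (by decide)
    rw [h4] at q
    have m0 := ne 3 5 (by decide)
    rw [h5] at m0
    revert q m0
    generalize σ 3 = x
    revert x; decide
  have h2 : σ 2 = 2 := by
    have q := key 2 3 (by decide)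
    rw [h3] at q
    have m := ne 2 4 (by decide)
    rw [h4] at m
    have h2' : σ 2 = 1 ∨ σ 2 = 2 := by
      revert q m
      generalize σ 2 = x
      revert x; decide
    rcases h2' with h2' | h2'
    · exfalso
      have q2 := key 0 2 (by decide)
      rw [h2'] at q2
      have m2 := ne 0 3 (by decide)
      rw [h3] at m2
      revert q2 m2
      generalize σ 0 = x
      revert x; decide
    · exact h2'
  have h1 : σ 1 = 1 := by
    have q := key 1 3 (by decide)
    rw [h3] at q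
    have m0 := ne 1 2 (by decide)
    rw [h2] at m0
    have m1 := ne 1 4 (by decide)
    rw [h4] at m1
    revert q m0 m1
    generalize σ 1 = x
    revert x; decide
  have h0 : σ 0 = 0 := by
    have q := key 0 2 (by decide)
    rw [h2] at q
    have m0 := ne 0 3 (by decide)
    rw [h3] at m0
    revert q m0
    generalize σ 0 = x
    revert x; decide
  ext i
  fin_cases i
  · exact congrArg Fin.val h0
  · exact congrArg Fin.val h1
  · exact congrArg Fin.val h2
  · exact congrArg Fin.val h3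
  · exact congrArg Fin.val h4
  · exact congrArg Fin.val h5
  · exact congrArg Fin.val h6

end E8

/-! ### `E₇` -/

section E7

variable {W : Type*} [Group W] [Finite W] {cs : CoxeterSystem CoxeterMatrix.E₇ W} {A : Fin 7 → Fin 7 → ℤ}
  {h : IsCartan CoxeterMatrix.E₇ A}

theorem h4_E7 : ∀ i j, CoxeterMatrix.E₇ i j ≠ 4 := by intro i; fin_cases i <;> decide

theorem h6_E7 : ∀ i j, CoxeterMatrix.E₇ i j ≠ 6 := by intro i; fin_cases i <;> decide

/-- the subdiagram `D₆` -/
def f7 : Fin 6 ↪ Fin 7 := ⟨![1, 2, 3, 4, 5, 6], by decide⟩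

theorem cartan_E7 (h : IsCartan CoxeterMatrix.E₇ A) (i k : Fin 7) : A i k =
    (![![2, 0, -1, 0, 0, 0, 0], ![0, 2, 0, -1, 0, 0, 0], ![-1, 0, 2, -1, 0, 0, 0], 
      ![0, -1, -1, 2, -1, 0, 0], ![0, 0, 0, -1, 2, -1, 0], ![0, 0, 0, 0, -1, 2, -1], 
      ![0, 0, 0, 0, 0, -1, 2]] : Fin 7 → Fin 7 → ℤ) i k := by
  rw [cartan_val h h4_E7 h6_E7 i k]
  revert i k
  decide

theorem nd_E7 {ρ : Fin 7 → ℤ} (hρ : IsRoot cs h ρ) (hd : ∀ i, 0 ≤ cpr cs h (sr i) ρ) :
    Nd cs h f7 0 1 ρ := by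
  obtain ⟨h1, h2, h3⟩ := dom_facts h4_E7 h6_E7 hρ hd
  have e : ∀ i, Bf A (sr i) ρ = ∑ k, ρ k * A k i := fun i => bf_val i ρ
  simp only [cartan_E7 h, Fin.sum_univ_seven] at e
  have e0 := e 0
  have e1 := e 1
  have e2 := e 2
  have e3 := e 3
  have e4 := e 4
  have e5 := e 5
  have e6 := e 6
  simp at e0 e1 e2 e3 e4 e5 e6
  clear e
  simp only [Fin.sum_univ_seven] at h3
  have a0 := h1 0
  have a1 := h1 1
  have a2 := h1 2
  have a3 := h1 3
  have a4 := h1 4
  have a5 := h1 5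
  have a6 := h1 6
  have b0 := h2 0
  have b1 := h2 1
  have b2 := h2 2
  have b3 := h2 3
  have b4 := h2 4
  have b5 := h2 5
  have b6 := h2 6
  have p0 := mul_nonneg a0 b0
  have p1 := mul_nonneg a1 b1
  have p2 := mul_nonneg a2 b2
  have p3 := mul_nonneg a3 b3
  have p4 := mul_nonneg a4 b4
  have p5 := mul_nonneg a5 b5
  have p6 := mul_nonneg a6 b6
  have z1 : Bf A (sr 1) ρ = 0 := by
    by_contra hne
    have hy : 1 ≤ Bf A (sr 1) ρ := by omega
    have := mul3 (x := ρ 1) (by linarith) hy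
    linarith
  have z2 : Bf A (sr 2) ρ = 0 := by
    by_contra hne
    have hy : 1 ≤ Bf A (sr 2) ρ := by omega
    have := mul3 (x := ρ 2) (by linarith) hy
    linarith
  have z3 : Bf A (sr 3) ρ = 0 := by
    by_contra hne
    have hy : 1 ≤ Bf A (sr 3) ρ := by omega
    have := mul3 (x := ρ 3) (by linarith) hy
    linarith
  have z4 : Bf A (sr 4) ρ = 0 := by
    by_contra hne
    have hy : 1 ≤ Bf A (sr 4) ρ := by omega
    have := mul3 (x := ρ 4) (by linarith) hy
    linarith
  have z5 : Bf A (sr 5) ρ = 0 := by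
    by_contra hne
    have hy : 1 ≤ Bf A (sr 5) ρ := by omega
    have := mul3 (x := ρ 5) (by linarith) hy
    linarith
  have z6 : Bf A (sr 6) ρ = 0 := by
    by_contra hne
    have hy : 1 ≤ Bf A (sr 6) ρ := by omega
    have hx : 2 ≤ ρ 6 := by
      have : 1 < ρ 6 := by linarith
      omega
    have hp := mul2 hx hy
    have hy2 : Bf A (sr 6) ρ = 1 := by
      by_contra hne2
      have := mul4 hx (show 2 ≤ Bf A (sr 6) ρ by omega)
      linarith
    have w0 : Bf A (sr 0) ρ = 0 := by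
      by_contra hne3
      have hk : 1 ≤ Bf A (sr 0) ρ := by omega
      have hx3 : 1 ≤ ρ 0 := by
        have : 0 < ρ 0 := by linarith
        omega
      have := mul1 hx3 hk
      linarith
    have w1 : Bf A (sr 1) ρ = 0 := by
      by_contra hne3
      have hk : 1 ≤ Bf A (sr 1) ρ := by omega
      have hx3 : 1 ≤ ρ 1 := by
        have : 0 < ρ 1 := by linarith
        omega
      have := mul1 hx3 hk
      linarith
    have w2 : Bf A (sr 2) ρ = 0 := by
      by_contra hne3
      have hk : 1 ≤ Bf A (sr 2) ρ := by omega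
      have hx3 : 1 ≤ ρ 2 := by
        have : 0 < ρ 2 := by linarith
        omega
      have := mul1 hx3 hk
      linarith
    have w3 : Bf A (sr 3) ρ = 0 := by
      by_contra hne3
      have hk : 1 ≤ Bf A (sr 3) ρ := by omega
      have hx3 : 1 ≤ ρ 3 := by
        have : 0 < ρ 3 := by linarith
        omega
      have := mul1 hx3 hk
      linarith
    have w4 : Bf A (sr 4) ρ = 0 := by
      by_contra hne3
      have hk : 1 ≤ Bf A (sr 4) ρ := by omega
      have hx3 : 1 ≤ ρ 4 := by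
        have : 0 < ρ 4 := by linarith
        omega
      have := mul1 hx3 hk
      linarith
    have w5 : Bf A (sr 5) ρ = 0 := by
      by_contra hne3
      have hk : 1 ≤ Bf A (sr 5) ρ := by omega
      have hx3 : 1 ≤ ρ 5 := by
        have : 0 < ρ 5 := by linarith
        omega
      have := mul1 hx3 hk
      linarith
    have hf : 2 * ρ 6 = 3 := by linarith
    omega
  have zj : Bf A (sr 0) ρ = 1 := by
    rw [z1, z2, z3, z4, z5, z6] at h3
    simp only [mul_zero, zero_add, add_zero] at h3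
    have h5 : ρ 0 = 2 * Bf A (sr 0) ρ := by linarith
    rw [h5] at h3
    exact sq1 b0 h3
  clear p0 p1 p2 p3 p4 p5 p6
  refine ⟨hρ, zj, ?_, by decide, ?_, ?_, ?_⟩
  · intro i hi
    fin_cases i
    · exact absurd rfl hi
    · exact z1
    · exact z2
    · exact z3
    · exact z4
    · exact z5
    · exact z6
  · rw [bf_sr_sr, cartan_E7 h]; rfl
  · intro i hi
    rw [bf_sr_sr, cartan_E7 h]
    revert i; decide
  · intro b hb hb'
    exfalso
    revert b; decide

theorem full_E7 : ∀ b : Fin 7, b ≠ 0 → ∃ i, f7 i = b := by decide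

theorem nb_E7 (h : IsCartan CoxeterMatrix.E₇ A) : ∀ i, ∃ i', Bf A (sr (f7 i)) (sr (f7 i')) = -1 := by
  intro i
  simp only [bf_sr_sr, cartan_E7 h]
  revert i; decide

theorem aut_E7 {σ : Equiv.Perm (Fin 6)}
    (hσ : ∀ i k, CoxeterMatrix.E₇ (f7 (σ i)) (f7 (σ k)) = CoxeterMatrix.E₇ (f7 i) (f7 k)) (h1 : σ 1 = 1) : σ = 1 := by
  have key : ∀ a b, CoxeterMatrix.E₇ (f7 a) (f7 b) = 3 → CoxeterMatrix.E₇ (f7 (σ a)) (f7 (σ b)) = 3 := by
    intro a b hab
    rw [hσ]; exact hab
  have ne : ∀ a b, a ≠ b → σ a ≠ σ b := fun a b h e => h (σ.injective e)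
  have h2 : σ 2 = 2 := by
    have q := key 2 1 (by decide)
    rw [h1] at q
    revert q
    generalize σ 2 = x
    revert x; decide
  have h3 : σ 3 = 3 := by
    have q := key 3 2 (by decide)
    rw [h2] at q
    have m := ne 3 1 (by decide)
    rw [h1] at m
    have h3' : σ 3 = 0 ∨ σ 3 = 3 := by
      revert q m
      generalize σ 3 = x
      revert x; decide
    rcases h3' with h3' | h3'
    · exfalso
      have q2 := key 4 3 (by decide)
      rw [h3'] at q2
      have m2 := ne 4 2 (by decide)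
      rw [h2] at m2
      revert q2 m2
      generalize σ 4 = x
      revert x; decide
    · exact h3'
  have h0 : σ 0 = 0 := by
    have q := key 0 2 (by decide)
    rw [h2] at q
    have m0 := ne 0 1 (by decide)
    rw [h1] at m0
    have m1 := ne 0 3 (by decide)
    rw [h3] at m1
    revert q m0 m1
    generalize σ 0 = x
    revert x; decide
  have h4 : σ 4 = 4 := by
    have q := key 4 3 (by decide)
    rw [h3] at q
    have m0 := ne 4 2 (by decide)
    rw [h2] at m0
    revert q m0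
    generalize σ 4 = x
    revert x; decide
  have h5 : σ 5 = 5 := by
    have q := key 5 4 (by decide)
    rw [h4] at q
    have m0 := ne 5 3 (by decide)
    rw [h3] at m0
    revert q m0
    generalize σ 5 = x
    revert x; decide
  ext i
  fin_cases i
  · exact congrArg Fin.val h0
  · exact congrArg Fin.val h1
  · exact congrArg Fin.val h2
  · exact congrArg Fin.val h3
  · exact congrArg Fin.val h4
  · exact congrArg Fin.val h5

end E7

/-! ### `E₆` -/

section E6

variable {W : Type*} [Group W] [Finite W] {cs : CoxeterSystem CoxeterMatrix.E₆ W} {A : Fin 6 → Fin 6 → ℤ}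
  {h : IsCartan CoxeterMatrix.E₆ A}

theorem h4_E6 : ∀ i j, CoxeterMatrix.E₆ i j ≠ 4 := by intro i; fin_cases i <;> decide

theorem h6_E6 : ∀ i j, CoxeterMatrix.E₆ i j ≠ 6 := by intro i; fin_cases i <;> decide

/-- the subdiagram `A₅` -/
def f6 : Fin 5 ↪ Fin 6 := ⟨![0, 2, 3, 4, 5], by decide⟩

theorem cartan_E6 (h : IsCartan CoxeterMatrix.E₆ A) (i k : Fin 6) : A i k =
    (![![2, 0, -1, 0, 0, 0], ![0, 2, 0, -1, 0, 0], ![-1, 0, 2, -1, 0, 0], ![0, -1, -1, 2, -1, 0], 
      ![0, 0, 0, -1, 2, -1], ![0, 0, 0, 0, -1, 2]] : Fin 6 → Fin 6 → ℤ) i k := by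
  rw [cartan_val h h4_E6 h6_E6 i k]
  revert i k
  decide

theorem nd_E6 {ρ : Fin 6 → ℤ} (hρ : IsRoot cs h ρ) (hd : ∀ i, 0 ≤ cpr cs h (sr i) ρ) :
    Nd cs h f6 1 2 ρ := by
  obtain ⟨h1, h2, h3⟩ := dom_facts h4_E6 h6_E6 hρ hd
  have e : ∀ i, Bf A (sr i) ρ = ∑ k, ρ k * A k i := fun i => bf_val i ρ
  simp only [cartan_E6 h, Fin.sum_univ_six] at e
  have e0 := e 0
  have e1 := e 1
  have e2 := e 2
  have e3 := e 3
  have e4 := e 4
  have e5 := e 5
  simp at e0 e1 e2 e3 e4 e5
  clear e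
  simp only [Fin.sum_univ_six] at h3
  have a0 := h1 0
  have a1 := h1 1
  have a2 := h1 2
  have a3 := h1 3
  have a4 := h1 4
  have a5 := h1 5
  have b0 := h2 0
  have b1 := h2 1
  have b2 := h2 2
  have b3 := h2 3
  have b4 := h2 4
  have b5 := h2 5
  have p0 := mul_nonneg a0 b0
  have p1 := mul_nonneg a1 b1
  have p2 := mul_nonneg a2 b2
  have p3 := mul_nonneg a3 b3
  have p4 := mul_nonneg a4 b4
  have p5 := mul_nonneg a5 b5
  have z0 : Bf A (sr 0) ρ = 0 := by
    by_contra hne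
    have hy : 1 ≤ Bf A (sr 0) ρ := by omega
    have hx : 2 ≤ ρ 0 := by
      have : 1 < ρ 0 := by linarith
      omega
    have hp := mul2 hx hy
    have hy2 : Bf A (sr 0) ρ = 1 := by
      by_contra hne2
      have := mul4 hx (show 2 ≤ Bf A (sr 0) ρ by omega)
      linarith
    have w1 : Bf A (sr 1) ρ = 0 := by
      by_contra hne3
      have hk : 1 ≤ Bf A (sr 1) ρ := by omega
      have hx3 : 1 ≤ ρ 1 := by
        have : 0 < ρ 1 := by linarith
        omega
      have := mul1 hx3 hk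
      linarith
    have w2 : Bf A (sr 2) ρ = 0 := by
      by_contra hne3
      have hk : 1 ≤ Bf A (sr 2) ρ := by omega
      have hx3 : 1 ≤ ρ 2 := by
        have : 0 < ρ 2 := by linarith
        omega
      have := mul1 hx3 hk
      linarith
    have w3 : Bf A (sr 3) ρ = 0 := by
      by_contra hne3
      have hk : 1 ≤ Bf A (sr 3) ρ := by omega
      have hx3 : 1 ≤ ρ 3 := by
        have : 0 < ρ 3 := by linarith
        omega
      have := mul1 hx3 hk
      linarith
    have w4 : Bf A (sr 4) ρ = 0 := by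
      by_contra hne3
      have hk : 1 ≤ Bf A (sr 4) ρ := by omega
      have hx3 : 1 ≤ ρ 4 := by
        have : 0 < ρ 4 := by linarith
        omega
      have := mul1 hx3 hk
      linarith
    have w5 : Bf A (sr 5) ρ = 0 := by
      by_contra hne3
      have hk : 1 ≤ Bf A (sr 5) ρ := by omega
      have hx3 : 1 ≤ ρ 5 := by
        have : 0 < ρ 5 := by linarith
        omega
      have := mul1 hx3 hk
      linarith
    have hf : 3 * ρ 0 = 4 := by linarith
    omega
  have z2 : Bf A (sr 2) ρ = 0 := by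
    by_contra hne
    have hy : 1 ≤ Bf A (sr 2) ρ := by omega
    have := mul3 (x := ρ 2) (by linarith) hy
    linarith
  have z3 : Bf A (sr 3) ρ = 0 := by
    by_contra hne
    have hy : 1 ≤ Bf A (sr 3) ρ := by omega
    have := mul3 (x := ρ 3) (by linarith) hy
    linarith
  have z4 : Bf A (sr 4) ρ = 0 := by
    by_contra hne
    have hy : 1 ≤ Bf A (sr 4) ρ := by omega
    have := mul3 (x := ρ 4) (by linarith) hy
    linarith
  have z5 : Bf A (sr 5) ρ = 0 := by
    by_contra hne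
    have hy : 1 ≤ Bf A (sr 5) ρ := by omega
    have hx : 2 ≤ ρ 5 := by
      have : 1 < ρ 5 := by linarith
      omega
    have hp := mul2 hx hy
    have hy2 : Bf A (sr 5) ρ = 1 := by
      by_contra hne2
      have := mul4 hx (show 2 ≤ Bf A (sr 5) ρ by omega)
      linarith
    have w0 : Bf A (sr 0) ρ = 0 := by
      by_contra hne3
      have hk : 1 ≤ Bf A (sr 0) ρ := by omega
      have hx3 : 1 ≤ ρ 0 := by
        have : 0 < ρ 0 := by linarith
        omega
      have := mul1 hx3 hk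
      linarith
    have w1 : Bf A (sr 1) ρ = 0 := by
      by_contra hne3
      have hk : 1 ≤ Bf A (sr 1) ρ := by omega
      have hx3 : 1 ≤ ρ 1 := by
        have : 0 < ρ 1 := by linarith
        omega
      have := mul1 hx3 hk
      linarith
    have w2 : Bf A (sr 2) ρ = 0 := by
      by_contra hne3
      have hk : 1 ≤ Bf A (sr 2) ρ := by omega
      have hx3 : 1 ≤ ρ 2 := by
        have : 0 < ρ 2 := by linarith
        omega
      have := mul1 hx3 hk
      linarith
    have w3 : Bf A (sr 3) ρ = 0 := by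
      by_contra hne3
      have hk : 1 ≤ Bf A (sr 3) ρ := by omega
      have hx3 : 1 ≤ ρ 3 := by
        have : 0 < ρ 3 := by linarith
        omega
      have := mul1 hx3 hk
      linarith
    have w4 : Bf A (sr 4) ρ = 0 := by
      by_contra hne3
      have hk : 1 ≤ Bf A (sr 4) ρ := by omega
      have hx3 : 1 ≤ ρ 4 := by
        have : 0 < ρ 4 := by linarith
        omega
      have := mul1 hx3 hk
      linarith
    have hf : 3 * ρ 5 = 4 := by linarith
    omega
  have zj : Bf A (sr 1) ρ = 1 := by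
    rw [z0, z2, z3, z4, z5] at h3
    simp only [mul_zero, zero_add, add_zero] at h3
    have h5 : ρ 1 = 2 * Bf A (sr 1) ρ := by linarith
    rw [h5] at h3
    exact sq1 b1 h3
  clear p0 p1 p2 p3 p4 p5
  refine ⟨hρ, zj, ?_, by decide, ?_, ?_, ?_⟩
  · intro i hi
    fin_cases i
    · exact z0
    · exact absurd rfl hi
    · exact z2
    · exact z3
    · exact z4
    · exact z5
  · rw [bf_sr_sr, cartan_E6 h]; rfl
  · intro i hi
    rw [bf_sr_sr, cartan_E6 h]
    revert i; decide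
  · intro b hb hb'
    exfalso
    revert b; decide

theorem full_E6 : ∀ b : Fin 6, b ≠ 1 → ∃ i, f6 i = b := by decide

theorem nb_E6 (h : IsCartan CoxeterMatrix.E₆ A) : ∀ i, ∃ i', Bf A (sr (f6 i)) (sr (f6 i')) = -1 := by
  intro i
  simp only [bf_sr_sr, cartan_E6 h]
  revert i; decide

theorem aut_E6' {σ : Equiv.Perm (Fin 5)}
    (hσ : ∀ i k, CoxeterMatrix.E₆ (f6 (σ i)) (f6 (σ k)) = CoxeterMatrix.E₆ (f6 i) (f6 k)) (h2 : σ 2 = 2) :
    σ = 1 ∨ (∀ i, σ i = ![4, 3, 2, 1, 0] i) := by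
  have key : ∀ a b, CoxeterMatrix.E₆ (f6 a) (f6 b) = 3 → CoxeterMatrix.E₆ (f6 (σ a)) (f6 (σ b)) = 3 := by
    intro a b hab
    rw [hσ]; exact hab
  have ne : ∀ a b, a ≠ b → σ a ≠ σ b := fun a b h e => h (σ.injective e)
  have h1' : σ 1 = 1 ∨ σ 1 = 3 := by
    have q := key 1 2 (by decide)
    rw [h2] at q
    revert q
    generalize σ 1 = x
    revert x; decide
  rcases h1' with h1 | h1
  · left
    have h3 : σ 3 = 3 := by
      have q := key 3 2 (by decide)
      rw [h2] at q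
      have m := ne 3 1 (by decide)
      rw [h1] at m
      revert q m
      generalize σ 3 = x
      revert x; decide
    have h0 : σ 0 = 0 := by
      have q := key 0 1 (by decide)
      rw [h1] at q
      have m := ne 0 2 (by decide)
      rw [h2] at m
      revert q m
      generalize σ 0 = x
      revert x; decide
    have h4 : σ 4 = 4 := by
      have q := key 4 3 (by decide)
      rw [h3] at q
      have m := ne 4 2 (by decide)
      rw [h2] at m
      revert q m
      generalize σ 4 = x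
      revert x; decide
    ext i
    fin_cases i
    · exact congrArg Fin.val h0
    · exact congrArg Fin.val h1
    · exact congrArg Fin.val h2
    · exact congrArg Fin.val h3
    · exact congrArg Fin.val h4
  · right
    have h3 : σ 3 = 1 := by
      have q := key 3 2 (by decide)
      rw [h2] at q
      have m := ne 3 1 (by decide)
      rw [h1] at m
      revert q m
      generalize σ 3 = x
      revert x; decide
    have h0 : σ 0 = 4 := by
      have q := key 0 1 (by decide)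
      rw [h1] at q
      have m := ne 0 2 (by decide)
      rw [h2] at m
      revert q m
      generalize σ 0 = x
      revert x; decide
    have h4 : σ 4 = 0 := by
      have q := key 4 3 (by decide)
      rw [h3] at q
      have m := ne 4 2 (by decide)
      rw [h2] at m
      revert q m
      generalize σ 4 = x
      revert x; decide
    intro i
    fin_cases i
    · exact h0
    · exact h1
    · exact h2
    · exact h3
    · exact h4

theorem aut_E6 (σ τ : Equiv.Perm (Fin 5))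
    (hσ : ∀ i k, CoxeterMatrix.E₆ (f6 (σ i)) (f6 (σ k)) = CoxeterMatrix.E₆ (f6 i) (f6 k)) (h2 : σ 2 = 2)
    (hτ : ∀ i k, CoxeterMatrix.E₆ (f6 (τ i)) (f6 (τ k)) = CoxeterMatrix.E₆ (f6 i) (f6 k)) (h2' : τ 2 = 2)
    (hσ1 : σ ≠ 1) (hτ1 : τ ≠ 1) : σ = τ := by
  rcases aut_E6' hσ h2 with h3 | h3
  · exact absurd h3 hσ1
  rcases aut_E6' hτ h2' with h4 | h4
  · exact absurd h4 hτ1
  ext i
  rw [h3, h4]

end E6

end Cfsg.Agent.OddHalf.D7Ex.TriNode
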