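import Cfsg.Agent.OddHalf.D7Ex.TriHas
import Cfsg.Agent.OddHalf.D7Ex.TriNode

/-!
# ODD D7: `HasEx` for `E₆(2)`, `E₇(2)`, `E₈(2)` (helper57)
-/

set_option autoImplicit false
set_option linter.unusedSectionVars false

namespace Cfsg.Agent.OddHalf.D7Ex.TriEn

open Cfsg.Agent.OddHalf.SL CoxeterSystem Cfsg.Agent.ChevalleyStructure.CoxeterGeom
  Cfsg.Agent.Tits.Roots Cfsg.Agent.Tits.Core Cfsg.Agent.Nodes.Reps Cfsg.Agent.Nodes.BNOf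
  Cfsg.Agent.OddHalf.D7Ex.TriNode Cfsg.Agent.OddHalf.D7Ex.TriHas Cfsg.Agent.OddHalf.D7Out
  Cfsg.Agent.KFacts.SLRow.Def

variable {W : Type*} [Group W] [Finite W] {G : Type*} [Group G] [Finite G] {K : Subgroup G} {T₀ : Subgroup ↥K}
  {F : Type*} [Field F] {t v : G}

theorem hasEx_E6 {cs : CoxeterSystem CoxeterMatrix.E₆ W} {A : Fin 6 → Fin 6 → ℤ} {h : IsCartan CoxeterMatrix.E₆ A}
    {n : Fin 6 → ↥K} {X : (Fin 6 → ℤ) → Subgroup ↥K} {e : (Fin 6 → ℤ) → F → ↥K}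
    (D : Datum (⊤ : Subgroup ↥K) 2 cs h T₀ n X) : MainSL.HasEx D e t v :=
  hasEx_full D (by simp) fun _ hρ hd => ⟨Fin 5, inferInstance, inferInstance, f6, 1, 2, nd_E6 hρ hd, full_E6, nb_E6 h,
    fun σ τ h1 h2 h3 h4 h5 h6 => aut_E6 σ τ h1 h2 h3 h4 h5 h6⟩

theorem hasEx_E7 {cs : CoxeterSystem CoxeterMatrix.E₇ W} {A : Fin 7 → Fin 7 → ℤ} {h : IsCartan CoxeterMatrix.E₇ A}
    {n : Fin 7 → ↥K} {X : (Fin 7 → ℤ) → Subgroup ↥K} {e : (Fin 7 → ℤ) → F → ↥K}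
    (D : Datum (⊤ : Subgroup ↥K) 2 cs h T₀ n X) : MainSL.HasEx D e t v :=
  hasEx_full D (by simp) fun _ hρ hd => ⟨Fin 6, inferInstance, inferInstance, f7, 0, 1, nd_E7 hρ hd, full_E7, nb_E7 h,
    fun _ _ h1 h2 _ _ h5 _ => absurd (aut_E7 h1 h2) h5⟩

theorem hasEx_E8 {cs : CoxeterSystem CoxeterMatrix.E₈ W} {A : Fin 8 → Fin 8 → ℤ} {h : IsCartan CoxeterMatrix.E₈ A}
    {n : Fin 8 → ↥K} {X : (Fin 8 → ℤ) → Subgroup ↥K} {e : (Fin 8 → ℤ) → F → ↥K}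
    (D : Datum (⊤ : Subgroup ↥K) 2 cs h T₀ n X) : MainSL.HasEx D e t v :=
  hasEx_full D (by simp) fun _ hρ hd => ⟨Fin 7, inferInstance, inferInstance, f8, 7, 6, nd_E8 hρ hd, full_E8, nb_E8 h,
    fun _ _ h1 h2 _ _ h5 _ => absurd (aut_E8 h1 h2) h5⟩

end Cfsg.Agent.OddHalf.D7Ex.TriEn
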