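import Cfsg.Agent.OddHalf.D7Ex.TriGrp

/-!
# ODD D7, `q = 2`: the normaliser of `⟨z, z'⟩` (helper57)

`z ∈ X r`, `z' ∈ X s`, `s = r - j`.
* `fixed` : an element of `Q` commuting with `U` modulo `X r` lies in `X r X s`;
* `NE` : `{y : y z = z y, y z' y⁻¹ ∈ {z', z' z}}`; it contains `U`, `X (-i)` (`i ∈ J`, `i ≠ κ`), but not `X (-κ)`;
* `mem_NE_of` : `g ∈ NE` if `g` centralises `z`, normalises `Q`, and `g⁻¹ U g ≤ NE`;
* `levi_sym`, `levi_inner` : the action on the Levi subgroup.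
-/

set_option autoImplicit false
set_option linter.unusedSectionVars false

namespace Cfsg.Agent.OddHalf.D7Ex.TriFix

open Cfsg.Agent.OddHalf.SL Cfsg.Agent.KFacts CoxeterSystem Cfsg.Agent.ChevalleyStructure.CoxeterGeom
  Cfsg.Agent.Tits.Roots Cfsg.Agent.Tits.Core
  Cfsg.Agent.Tits.RootComb Cfsg.Agent.Nodes.Comb Cfsg.Agent.Nodes.Reps Cfsg.Agent.Nodes.BNOf
  Cfsg.Agent.Nodes.Bruhat Cfsg.Agent.Nodes.Coroot Cfsg.Agent.OddHalf.SL.Index Cfsg.Agent.OddHalf.SL.OfRGD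
  Cfsg.Agent.Nodes.StabComb Cfsg.Agent.Nodes.LeviDec Cfsg.Agent.Nodes.Sub Cfsg.Agent.Nodes.SubComb
  Cfsg.Agent.OddHalf.D7Ex.KTwo Cfsg.Agent.OddHalf.D7Ex.TriComb Cfsg.Agent.OddHalf.D7Ex.TriAux
  Cfsg.Agent.OddHalf.D7Ex.TriGrp Cfsg.Agent.OddHalf.D7Ex.GamAut
  Cfsg.Agent.OddHalf.D7Ex.KData Cfsg.Agent.KFacts.SLRow.Def
open scoped commutatorElement

/-- the normaliser of `⟨z, z'⟩` in `C(z)` -/
def NE {G : Type*} [Group G] (z zs : G) (zz : z * z = 1) : Subgroup G where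
  carrier := {y | y * z = z * y ∧ (y * zs * y⁻¹ = zs ∨ y * zs * y⁻¹ = zs * z)}
  one_mem' := ⟨by rw [one_mul, mul_one], Or.inl (by rw [one_mul, inv_one, mul_one])⟩
  mul_mem' := by
    rintro a b ⟨ha, ha2⟩ ⟨hb, hb2⟩
    refine ⟨by rw [mul_assoc, hb, ← mul_assoc, ha, mul_assoc], ?_⟩
    rw [cc]
    rcases hb2 with hb2 | hb2
    · rw [hb2]; exact ha2
    · rw [hb2, cm a, fix ha]
      rcases ha2 with ha2 | ha2
      · rw [ha2]; exact Or.inr rfl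
      · left; rw [ha2, mul_assoc, zz, mul_one]
  inv_mem' := by
    rintro a ⟨ha, ha2⟩
    have h1 : a⁻¹ * z = z * a⁻¹ := by
      rw [inv_mul_eq_iff_eq_mul, ← mul_assoc, ha, mul_inv_cancel_right]
    refine ⟨h1, ?_⟩
    rcases ha2 with ha2 | ha2
    · exact Or.inl (inv_conj ha2)
    · right
      have h2 := inv_conj ha2
      rw [cm a⁻¹, fix h1] at h2
      calc a⁻¹ * zs * a⁻¹⁻¹ = (a⁻¹ * zs * a⁻¹⁻¹) * z * z := by rw [mul_assoc _ z z, zz, mul_one]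
        _ = _ := by rw [h2]

theorem mem_NE {G : Type*} [Group G] {z zs : G} {zz : z * z = 1} {y : G} :
    y ∈ NE z zs zz ↔ y * z = z * y ∧ (y * zs * y⁻¹ = zs ∨ y * zs * y⁻¹ = zs * z) := Iff.rfl

variable {I J W G : Type*} [Fintype I] [DecidableEq I] [Fintype J] [DecidableEq J] [Group W] [Group G]
  {M : CoxeterMatrix I} {cs : CoxeterSystem M W} {A : I → I → ℤ} {h : IsCartan M A} {T : Subgroup G} {n : I → G}
  {X : (I → ℤ) → Subgroup G} {K : Subgroup G} {t : G}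

variable [Finite W] [Finite G] {f : J ↪ I} {j : I} {κ : J} {r : I → ℤ} (D : Datum K 2 cs h T n X)
  (N : Nd cs h f j κ r)

include D N

/-- the elements of `Q` commuting with `U` modulo `X r` -/
theorem fixed {q : G} (hq : q ∈ Qr cs h X r)
    (hc : ∀ u ∈ RGD.Sup X (RGD.Pos cs h), u * q * u⁻¹ * q⁻¹ ∈ X r) : ∃ y ∈ X (r - sr j), ∃ x ∈ X r, q = y * x := by
  have hR := roots cs h D.h4 D.h6
  have h1 := (rg D).mem_QS N.hr (S := {r - sr j}) hq (by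
    intro b hb hbs y hy
    have hb' := (rg D).sub_mem1 N.hr hb
    have hne : r - b ≠ sr j := by
      intro e
      apply hbs
      rw [Set.mem_singleton_iff, ← e]; abel
    obtain ⟨i, hi, hi1⟩ := exists_one D.h4 D.h6 N hb' hne
    have h2 := hR.sub_mem hb'.1 (isRoot_sr cs h i) hi1
    have h3 : Bf A (sr i) (r - b - sr i) = -1 := by
      rw [hR.sub_right, hR.symm, hi1, hR.two _ (isRoot_sr cs h i)]; norm_num
    have h5 : r - b - sr i ∈ Ph1 (Bf A) {x | IsRoot cs h x} r := by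
      refine ⟨h2, ?_⟩
      rw [hR.sub_left, hb'.2, N.di i hi]; norm_num
    obtain ⟨x, hx, hx1⟩ := exists_ne D.rgd (isRoot_sr cs h i)
    obtain ⟨w, hw, e⟩ := (rg D).sur _ (isRoot_sr cs h i) _ h2 h3 x hx hx1 y (by rw [add_sub_cancel]; exact hy)
    have hxU : x ∈ RGD.Sup X (RGD.Pos cs h) := X_le_U (isRoot_sr cs h i) (sr_nonneg i) hx
    have hwQ : w ∈ Qr cs h X r := le_QS X r h5 hw
    -- the commutators with `q`
    have hζ := hc x hxU
    have hξ := (rg D).QQ N.hr hq hwQ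
    set ζ := x * q * x⁻¹ * q⁻¹ with hζd
    set ξ := q * w * q⁻¹ * w⁻¹ with hξd
    have cen : ∀ v ∈ X r, ∀ p ∈ PR (Bf A) {x | IsRoot cs h x} X r, v * p = p * v := fun v hv p hp =>
      (rg D).XP N.hr hv hp
    have hxP := U_le_PR D N hxU
    have hwP := Q_le_PR D N hwQ
    have hyP : y ∈ PR (Bf A) {x | IsRoot cs h x} X r := Q_le_PR D N (le_QS X r hb' hy)
    have e1 : q * x * q⁻¹ = ζ⁻¹ * x := by rw [hζd]; group
    have e2 : q * w * q⁻¹ = ξ * w := by rw [hξd]; group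
    apply cof
    calc q * y * q⁻¹ = (q * x * q⁻¹) * (q * w * q⁻¹) * (q * x * q⁻¹)⁻¹ * (q * w * q⁻¹)⁻¹ := by rw [← e]; group
      _ = (ζ⁻¹ * x) * (ξ * w) * (ζ⁻¹ * x)⁻¹ * (ξ * w)⁻¹ := by rw [e1, e2]
      _ = ζ⁻¹ * (x * (ξ * w) * x⁻¹) * ζ * (ξ * w)⁻¹ := by group
      _ = ζ⁻¹ * (ζ * (x * (ξ * w) * x⁻¹)) * (ξ * w)⁻¹ := by
        rw [mul_assoc ζ⁻¹, ← cen ζ hζ (x * (ξ * w) * x⁻¹) (mul_mem (mul_mem hxP (mul_mem (Q_le_PR D N
          (X_le_QS X _ r hξ)) hwP)) (inv_mem hxP))]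
      _ = (x * ξ) * w * x⁻¹ * (ξ * w)⁻¹ := by group
      _ = ξ * (x * w * x⁻¹ * w⁻¹) * ξ⁻¹ := by rw [← cen ξ hξ x hxP]; group
      _ = ξ * y * ξ⁻¹ := by rw [e]
      _ = y := by rw [cen ξ hξ y hyP, mul_inv_cancel_right])
  have h2 : QS X (Ph1 (Bf A) {x | IsRoot cs h x} r ∩ {r - sr j}) r ≤ X (r - sr j) ⊔ X r := by
    refine QS_le le_sup_right fun b hb => ?_
    rw [Set.mem_singleton_iff.1 hb.2]; exact le_sup_left
  obtain ⟨y, hy, x, hx, e⟩ := OfDatum.mem_sup_of_comm (fun y hy x hx => (rel_zc D N hx hy).symm) (h2 h1)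
  exact ⟨y, hy, x, hx, e⟩

section

variable {z zs : G} (hz : z ∈ X r) (hz1 : z ≠ 1) (hzs : zs ∈ X (r - sr j)) (hzs1 : zs ≠ 1)

include hz hz1 hzs hzs1

theorem V1_le_NE : V1 cs h X j ≤ NE z zs (pow_two_X D N.hr hz) := fun y hy =>
  ⟨U_r D N (V1_le_U hy) hz, Or.inl (fix (V1_s D N hy hzs))⟩

theorem U_le_NE : RGD.Sup X (RGD.Pos cs h) ≤ NE z zs (pow_two_X D N.hr hz) := by
  intro y hy
  obtain ⟨x0, hx0, hx1⟩ := exists_ne D.rgd (isRoot_sr cs h j)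
  have h1 : x0 ∈ NE z zs (pow_two_X D N.hr hz) :=
    ⟨rel_oz D N hx0 hz, Or.inr (rel_os D N hx0 hx1 hz hz1 hzs hzs1)⟩
  rcases mem_U D hx0 hx1 hy with h2 | h2
  · exact V1_le_NE D N hz hz1 hzs hzs1 h2
  · have := mul_mem (V1_le_NE D N hz hz1 hzs hzs1 h2) (inv_mem h1)
    rwa [mul_inv_cancel_right] at this

theorem neg_le_NE {i : J} (hi : i ≠ κ) : X (-sr (f i)) ≤ NE z zs (pow_two_X D N.hr hz) := fun _ hy =>
  ⟨neg_r D N hy hz, Or.inl (fix (neg_s D N hi hy hzs))⟩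

theorem kappa_not_NE {x : G} (hx : x ∈ X (-sr (f κ))) (hx1 : x ≠ 1) : x ∉ NE z zs (pow_two_X D N.hr hz) := by
  rintro ⟨-, h1⟩
  have hs' := hs D.h4 D.h6 N
  have hk := bf_neg_k D.h4 D.h6 N
  have h2 := (rg D).neg _ (isRoot_sr cs h (f κ)).neg _ hs' hk x hx zs hzs
  have h3 : x * zs * x⁻¹ * zs⁻¹ ≠ 1 := by
    intro e
    rcases (rg D).inj _ (isRoot_sr cs h (f κ)).neg _ hs' hk x hx zs hzs (by
      rwa [mul_inv_eq_one, mul_inv_eq_iff_eq_mul] at e) with h4 | h4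
    · exact hx1 h4
    · exact hzs1 h4
  rcases h1 with h1 | h1
  · exact h3 (by rw [h1, mul_inv_cancel])
  · apply h3
    refine (rg D).inf_eq N.hr (sk_mem D.h4 D.h6 N) h2 ?_
    rw [h1, ← rel_zc D N hz hzs, mul_inv_cancel_right]
    exact hz

theorem mem_NE_of {g : G} (gz : g * z = z * g) (gQ : ∀ q ∈ Qr cs h X r, g * q * g⁻¹ ∈ Qr cs h X r)
    (gU : ∀ u ∈ RGD.Sup X (RGD.Pos cs h), g⁻¹ * u * g ∈ NE z zs (pow_two_X D N.hr hz)) :
    g ∈ NE z zs (pow_two_X D N.hr hz) := by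
  have zz := pow_two_X D N.hr hz
  have hs1' := hs1 D.h4 D.h6 N
  have zsQ : zs ∈ Qr cs h X r := le_QS X r hs1' hzs
  have zc := rel_zc D N hz hzs
  obtain ⟨y, hy, x, hx, e⟩ := fixed D N (gQ zs zsQ) (by
    intro u hu
    have h1 := gU u hu
    have e : u * (g * zs * g⁻¹) * u⁻¹ * (g * zs * g⁻¹)⁻¹ =
        g * ((g⁻¹ * u * g) * zs * (g⁻¹ * u * g)⁻¹ * zs⁻¹) * g⁻¹ := by group
    rw [e]
    rcases (mem_NE.1 h1).2 with h2 | h2
    · rw [h2, mul_inv_cancel, mul_one, mul_inv_cancel]; exact one_mem _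
    · rw [h2, ← zc, mul_inv_cancel_right, fix gz]; exact hz)
  refine ⟨gz, ?_⟩
  have hy' : y = 1 ∨ y = zs := by
    by_cases hy1 : y = 1
    · exact Or.inl hy1
    · exact Or.inr (eq_of_ne D hs1'.1 hy hzs hy1 hzs1)
  have hx' : x = 1 ∨ x = z := by
    by_cases hx1 : x = 1
    · exact Or.inl hx1
    · exact Or.inr (eq_of_ne D N.hr hx hz hx1 hz1)
  rcases hy' with rfl | rfl
  · exfalso
    apply hzs1
    refine (rg D).inf_eq N.hr hs1' hzs ?_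
    have h3 : g * zs * g⁻¹ = x := by rw [e, one_mul]
    have h5 : x = 1 ∨ x = z := hx'
    rcases h5 with h5 | h5
    · have : zs = 1 := by
        have h6 : zs = g⁻¹ * (g * zs * g⁻¹) * g := by group
        rw [h6, h3, h5]; group
      rw [this]; exact one_mem _
    · have : zs = z := by
        have h6 : zs = g⁻¹ * (g * zs * g⁻¹) * g := by group
        rw [h6, h3, h5, mul_assoc, ← gz, inv_mul_cancel_left]
      rw [this]; exact hz
  · rcases hx' with rfl | rfl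
    · left; rw [e, mul_one]
    · right; exact e

end

omit D in
omit [Finite G] in
theorem finite_W' {W' : Type*} [Group W'] (cs' : CoxeterSystem (leviMatrix f M) W') : Finite W' :=
  (levi_subSys (cs := cs) (h := h) f).finite cs' (levi_isCartan f h)

end Cfsg.Agent.OddHalf.D7Ex.TriFix
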