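import Cfsg.Agent.OddHalf.D7Ex.TriComb
import Cfsg.Agent.OddHalf.D7Ex.TriAux

/-!
# ODD D7, `q = 2`: the groups of a node (helper57)

`L = ⟨X a : a ∈ Φ_J⟩`, `U_J`, `Q = ⟨X b : (b, r) ≥ 1⟩`, `V₁ = ⟨X b : b > 0, b ≠ j⟩`, `s = r - j`:
`inf_P` : `H V_J ∩ L Q ≤ H Q` for `H ≤ L`; `conj_V1` : `X (± j)` normalises `V₁`; `mem_U` : `U = V₁ ∪ V₁ x₀`;
`rel_*` : the relations of `x₀ ∈ X j`, `x' ∈ X (-j)`, `z ∈ X r`, `z' ∈ X s`; `NE` : the normaliser of `⟨z, z'⟩` in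
`C(z)`; `fixed` : `{q ∈ Q : [q, U] ≤ X r} = X r X s`.
-/

set_option autoImplicit false
set_option linter.unusedSectionVars false

namespace Cfsg.Agent.OddHalf.D7Ex.TriGrp

open Cfsg.Agent.OddHalf.SL Cfsg.Agent.KFacts CoxeterSystem Cfsg.Agent.ChevalleyStructure.CoxeterGeom
  Cfsg.Agent.Tits.Roots Cfsg.Agent.Tits.Core
  Cfsg.Agent.Tits.RootComb Cfsg.Agent.Nodes.Comb Cfsg.Agent.Nodes.Reps Cfsg.Agent.Nodes.BNOf
  Cfsg.Agent.Nodes.Bruhat Cfsg.Agent.Nodes.Coroot Cfsg.Agent.OddHalf.SL.Index Cfsg.Agent.OddHalf.SL.OfRGD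
  Cfsg.Agent.Nodes.StabComb Cfsg.Agent.Nodes.LeviDec Cfsg.Agent.Nodes.Sub Cfsg.Agent.Nodes.SubComb
  Cfsg.Agent.OddHalf.D7Ex.KTwo Cfsg.Agent.OddHalf.D7Ex.TriComb Cfsg.Agent.OddHalf.D7Ex.TriAux
  Cfsg.Agent.OddHalf.D7Ex.KData Cfsg.Agent.KFacts.SLRow.Def
open scoped commutatorElement

variable {I J W G : Type*} [Fintype I] [DecidableEq I] [Fintype J] [DecidableEq J] [Group W] [Group G]
  {M : CoxeterMatrix I} {cs : CoxeterSystem M W} {A : I → I → ℤ} {h : IsCartan M A} {T : Subgroup G} {n : I → G}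
  {X : (I → ℤ) → Subgroup G} {K : Subgroup G} {t : G}

/-- `L` -/
def Lv (cs : CoxeterSystem M W) (h : IsCartan M A) (X : (I → ℤ) → Subgroup G) (f : J ↪ I) : Subgroup G :=
  RGD.Sup X (RootsJ cs h (Set.range f))

/-- `U_J` -/
def Uv (cs : CoxeterSystem M W) (h : IsCartan M A) (X : (I → ℤ) → Subgroup G) (f : J ↪ I) : Subgroup G :=
  UJ cs h X (Set.range f)

/-- `Q` -/
def Qr (cs : CoxeterSystem M W) (h : IsCartan M A) (X : (I → ℤ) → Subgroup G) (r : I → ℤ) : Subgroup G :=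
  QS X (Ph1 (Bf A) {x | IsRoot cs h x} r) r

/-- `V₁` -/
def V1 (cs : CoxeterSystem M W) (h : IsCartan M A) (X : (I → ℤ) → Subgroup G) (j : I) : Subgroup G :=
  RGD.Sup X {b | IsRoot cs h b ∧ 0 ≤ b ∧ b ≠ sr j}

theorem mem_sup_norm {H V : Subgroup G} (hn : ∀ l ∈ H, ∀ q ∈ V, l * q * l⁻¹ ∈ V) {y : G} :
    y ∈ H ⊔ V ↔ ∃ s ∈ H, ∃ q ∈ V, y = s * q := GamAut.mem_sup_iff (L := H) hn le_rfl

theorem Uv_le_Lv {f : J ↪ I} : Uv cs h X f ≤ Lv cs h X f := RGD.Sup_mono fun _ hx => PosJ_subset _ hx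

theorem Uv_le_U {f : J ↪ I} : Uv cs h X f ≤ RGD.Sup X (RGD.Pos cs h) := UJ_le_U _

theorem Lv_le_LJ {f : J ↪ I} : Lv cs h X f ≤ LJ cs h T X (Set.range f) := le_sup_right

theorem U_le {J : Set I} : RGD.Sup X (RGD.Pos cs h) ≤ UJ cs h X J ⊔ VJ cs h X J := by
  refine RGD.Sup_le fun x hx => ?_
  rcases mem_PosJ_or_NotJ J hx.1 hx.2 with h1 | h1
  · exact le_trans (RGD.le_Sup h1) le_sup_left
  · exact le_trans (RGD.le_Sup h1) le_sup_right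

theorem V1_le_U {j : I} : V1 cs h X j ≤ RGD.Sup X (RGD.Pos cs h) := RGD.Sup_mono fun _ hx => ⟨hx.1, hx.2.1⟩

theorem X_le_U {b : I → ℤ} (hb : IsRoot cs h b) (h0 : 0 ≤ b) : X b ≤ RGD.Sup X (RGD.Pos cs h) :=
  RGD.le_Sup (S := RGD.Pos cs h) ⟨hb, h0⟩

variable [Finite W] [Finite G] {f : J ↪ I} {j : I} {κ : J} {r : I → ℤ} (D : Datum K 2 cs h T n X)
  (N : Nd cs h f j κ r)

include D

theorem pow_two_X {b : I → ℤ} (hb : IsRoot cs h b) {x : G} (hx : x ∈ X b) : x * x = 1 := (rg D).X2 b hb x hx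

/-- `X (± j)` normalises `V₁` -/
theorem conj_V1 {a : I → ℤ} (ha : a = sr j ∨ a = -sr j) {x y : G} (hx : x ∈ X a) (hy : y ∈ V1 cs h X j) :
    x * y * x⁻¹ ∈ V1 cs h X j := by
  have hR := roots cs h D.h4 D.h6
  have har : IsRoot cs h a := by
    rcases ha with rfl | rfl
    · exact isRoot_sr cs h j
    · exact (isRoot_sr cs h j).neg
  have ha0 : ∀ k, k ≠ j → a k = 0 := by
    intro k hk
    rcases ha with rfl | rfl
    · exact sr_ne hk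
    · rw [Pi.neg_apply, sr_ne hk, neg_zero]
  have hle : V1 cs h X j ≤ (V1 cs h X j).comap (MulAut.conj x).toMonoidHom := by
    refine RGD.Sup_le fun b hb y hy => ?_
    show x * y * x⁻¹ ∈ V1 cs h X j
    obtain ⟨hb1, hb2, hb3⟩ := hb
    obtain ⟨k, hkj, hk⟩ : ∃ k, k ≠ j ∧ 0 < b k := by
      by_contra hcon
      push Not at hcon
      exact hb3 (hb1.eq_sr hb2 j fun k hk => le_antisymm (hcon k hk) (hb2 k))
    have hXb : X b ≤ V1 cs h X j := RGD.le_Sup (S := {b | IsRoot cs h b ∧ 0 ≤ b ∧ b ≠ sr j}) ⟨hb1, hb2, hb3⟩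
    rcases (rg D).cases har hb1 with h1 | h1 | h1
    · rw [(rg D).pos a har b hb1 h1 x hx y hy, mul_inv_cancel_right]
      exact hXb hy
    · have h2 := (rg D).neg a har b hb1 h1 x hx y hy
      have e : x * y * x⁻¹ = (x * y * x⁻¹ * y⁻¹) * y := by group
      rw [e]
      refine mul_mem ?_ (hXb hy)
      have hab := hR.add a har b hb1 h1
      have hk' : 0 < (a + b) k := by rw [Pi.add_apply, ha0 k hkj, zero_add]; exact hk
      refine RGD.le_Sup (S := {b | IsRoot cs h b ∧ 0 ≤ b ∧ b ≠ sr j}) ⟨hab, nonneg_of_pos_apply hab hk', ?_⟩ h2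
      intro e1
      rw [e1, sr_ne hkj] at hk'
      exact lt_irrefl _ hk'
    · exfalso
      have h2 := congrFun h1 k
      rw [ha0 k hkj, Pi.neg_apply] at h2
      omega
  exact hle hy

/-- `U ≤ V₁ ∪ V₁ x₀` -/
theorem mem_U {x0 : G} (hx0 : x0 ∈ X (sr j)) (hx1 : x0 ≠ 1) {y : G} (hy : y ∈ RGD.Sup X (RGD.Pos cs h)) :
    y ∈ V1 cs h X j ∨ y * x0 ∈ V1 cs h X j := by
  have h1 : RGD.Sup X (RGD.Pos cs h) ≤
      Two (V1 cs h X j) x0 (pow_two_X D (isRoot_sr cs h j) hx0) fun y hy => conj_V1 D (Or.inl rfl) hx0 hy := by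
    refine RGD.Sup_le fun b hb y hy => ?_
    by_cases hbj : b = sr j
    · subst hbj
      by_cases hy1 : y = 1
      · rw [hy1]; exact one_mem _
      · rw [eq_of_ne D hb.1 hy hx0 hy1 hx1]
        exact mem_Two_self
    · exact le_Two (RGD.le_Sup (S := {b | IsRoot cs h b ∧ 0 ≤ b ∧ b ≠ sr j}) ⟨hb.1, hb.2, hbj⟩ hy)
  exact h1 hy

include N

theorem Q_le_VJ : Qr cs h X r ≤ VJ cs h X (Set.range f) :=
  QS_le (RGD.le_Sup (r_NotJ D.h4 D.h6 N)) fun _ hb => RGD.le_Sup (Ph1_NotJ D.h4 D.h6 N hb)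

theorem Q_le_U : Qr cs h X r ≤ RGD.Sup X (RGD.Pos cs h) := (Q_le_VJ D N).trans (VJ_le_U _)

theorem Lv_le_PR : Lv cs h X f ≤ PR (Bf A) {x | IsRoot cs h x} X r :=
  RGD.Sup_le fun a ha => le_PR X ha.1 (by rw [RootsJ_zero D.h4 D.h6 N ha])

theorem U_le_PR : RGD.Sup X (RGD.Pos cs h) ≤ PR (Bf A) {x | IsRoot cs h x} X r :=
  RGD.Sup_le fun a ha => le_PR X ha.1 (by rw [bf_r D.h4 D.h6 N]; exact ha.2 j)

theorem Q_le_PR : Qr cs h X r ≤ PR (Bf A) {x | IsRoot cs h x} X r := (rg D).QS_le_PR N.hr subset_rfl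

theorem nQ : ∀ l ∈ Lv cs h X f, ∀ q ∈ Qr cs h X r, l * q * l⁻¹ ∈ Qr cs h X r := fun _ hl _ hq =>
  (rg D).PQ N.hr (Lv_le_PR D N hl) hq

theorem inf : ∀ x ∈ Lv cs h X f, x ∈ Qr cs h X r → x = 1 := fun _ hx hq =>
  eq_one_of_mem_LJ_of_mem_VJ D.rgd (Lv_le_LJ hx) (Q_le_VJ D N hq)

/-- `H V_J ∩ L Q ≤ H Q` -/
theorem inf_P {H : Subgroup G} (hH : H ≤ Lv cs h X f) {y : G} (hy : y ∈ H ⊔ VJ cs h X (Set.range f))
    (hyP : y ∈ Lv cs h X f ⊔ Qr cs h X r) : y ∈ H ⊔ Qr cs h X r := by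
  obtain ⟨l', hl', q, hq, e'⟩ := (mem_sup_norm (nQ D N)).1 hyP
  have h1 : ∀ l ∈ H, ∀ q ∈ VJ cs h X (Set.range f), l * q * l⁻¹ ∈ VJ cs h X (Set.range f) := by
    intro l hl q hq
    exact (Subgroup.mem_normalizer_iff.1 (LJ_le_normalizer_VJ (T := T) D.rgd _ (Lv_le_LJ (hH hl))) q).1 hq
  obtain ⟨l, hl, v, hv, e⟩ := (mem_sup_norm h1).1 hy
  have h2 : l⁻¹ * l' = v * q⁻¹ := by
    calc l⁻¹ * l' = l⁻¹ * (l' * q) * q⁻¹ := by group
      _ = l⁻¹ * (l * v) * q⁻¹ := by rw [← e', e]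
      _ = _ := by group
  have h3 : l⁻¹ * l' = 1 := eq_one_of_mem_LJ_of_mem_VJ (T := T) D.rgd (J := Set.range f)
    (mul_mem (inv_mem (Lv_le_LJ (hH hl))) (Lv_le_LJ hl')) (by
      rw [h2]; exact mul_mem hv (inv_mem (Q_le_VJ D N hq)))
  have h4 : l = l' := inv_mul_eq_one.1 h3
  rw [e', ← h4]
  exact mul_mem (Subgroup.mem_sup_left hl) (Subgroup.mem_sup_right hq)

/-- `U ∩ L Q = U_J Q` -/
theorem inf_U {y : G} (hy : y ∈ RGD.Sup X (RGD.Pos cs h)) (hyP : y ∈ Lv cs h X f ⊔ Qr cs h X r) :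
    y ∈ Uv cs h X f ⊔ Qr cs h X r := inf_P D N Uv_le_Lv (U_le hy) hyP

/-- `⟨U, X (-i)⟩ ∩ L Q = ⟨U_J, X (-i)⟩ Q` for `i ∈ J` -/
theorem inf_F {i : J} {y : G} (hy : y ∈ RGD.Sup X (RGD.Pos cs h) ⊔ X (-sr (f i)))
    (hyP : y ∈ Lv cs h X f ⊔ Qr cs h X r) : y ∈ (Uv cs h X f ⊔ X (-sr (f i))) ⊔ Qr cs h X r := by
  refine inf_P D N (sup_le Uv_le_Lv ?_) ?_ hyP
  · exact RGD.le_Sup (S := RootsJ cs h (Set.range f)) (RootsJ.neg (PosJ_subset _ (sr_mem_PosJ ⟨i, rfl⟩)))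
  · exact (sup_le (U_le.trans (sup_le_sup_right le_sup_left _)) (le_sup_right.trans le_sup_left) :
      RGD.Sup X (RGD.Pos cs h) ⊔ X (-sr (f i)) ≤ _) hy

/-- `V₁` centralises `X s` -/
theorem V1_s {y v : G} (hy : y ∈ V1 cs h X j) (hv : v ∈ X (r - sr j)) : y * v = v * y := by
  have hle : V1 cs h X j ≤ Subgroup.centralizer ({v} : Set G) := RGD.Sup_le fun b hb x hx => by
    rw [Subgroup.mem_centralizer_singleton_iff]
    exact (rg D).pos b hb.1 _ (hs D.h4 D.h6 N) (nonneg_s D.h4 D.h6 N hb.1 hb.2.1 hb.2.2) x hx v hv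
  exact Subgroup.mem_centralizer_singleton_iff.1 (hle hy)

/-- `U` centralises `X r` -/
theorem U_r {y v : G} (hy : y ∈ RGD.Sup X (RGD.Pos cs h)) (hv : v ∈ X r) : y * v = v * y :=
  ((rg D).XP N.hr hv (U_le_PR D N hy)).symm

theorem Uv_le_V1 : Uv cs h X f ≤ V1 cs h X j := by
  refine RGD.Sup_mono fun b hb => ⟨hb.1, hb.2.1, ?_⟩
  intro e
  have h1 := hb.2.2 j (by rintro ⟨i, hi⟩; exact N.fj i hi)
  rw [e, sr_self] at h1
  exact absurd h1 (by norm_num)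

/-- `X (-i)` centralises `X s`, `i ∈ J`, `i ≠ κ` -/
theorem neg_s {i : J} (hi : i ≠ κ) {x v : G} (hx : x ∈ X (-sr (f i))) (hv : v ∈ X (r - sr j)) : x * v = v * x :=
  (rg D).pos _ (isRoot_sr cs h _).neg _ (hs D.h4 D.h6 N) (by rw [bf_neg_s D.h4 D.h6 N hi]) x hx v hv

/-- `X (-i)` centralises `X r`, `i ∈ J` -/
theorem neg_r {i : J} {x v : G} (hx : x ∈ X (-sr (f i))) (hv : v ∈ X r) : x * v = v * x :=
  (rg D).pos _ (isRoot_sr cs h _).neg _ N.hr (by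
    rw [(roots cs h D.h4 D.h6).neg_left, N.di _ (N.fj i), neg_zero]) x hx v hv

/-- `X (-i)` centralises `X (± j)`, `i ∈ J`, `i ≠ κ` -/
theorem neg_j {i : J} (hi : i ≠ κ) {a : I → ℤ} (ha : a = sr j ∨ a = -sr j) {x v : G} (hx : x ∈ X (-sr (f i)))
    (hv : v ∈ X a) : x * v = v * x := by
  have hR := roots cs h D.h4 D.h6
  rcases ha with rfl | rfl
  · refine (rg D).pos _ (isRoot_sr cs h _).neg _ (isRoot_sr cs h j) ?_ x hx v hv
    rw [hR.neg_left, N.nj i hi, neg_zero]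
  · refine (rg D).pos _ (isRoot_sr cs h _).neg _ (isRoot_sr cs h j).neg ?_ x hx v hv
    rw [hR.neg_left, hR.neg_right, N.nj i hi, neg_zero, neg_zero]

section rel

variable {x' x0 z zs : G} (hx' : x' ∈ X (-sr j)) (hx'1 : x' ≠ 1) (hx0 : x0 ∈ X (sr j)) (hx01 : x0 ≠ 1)
  (hz : z ∈ X r) (hz1 : z ≠ 1) (hzs : zs ∈ X (r - sr j)) (hzs1 : zs ≠ 1)

include hz hzs in
theorem rel_zc : z * zs = zs * z := (rg D).pos _ N.hr _ (hs D.h4 D.h6 N) (by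
  rw [(roots cs h D.h4 D.h6).symm, (hs1 D.h4 D.h6 N).2]; norm_num) z hz zs hzs

include hx' hzs in
theorem rel_ps : x' * zs = zs * x' := by
  have hR := roots cs h D.h4 D.h6
  refine (rg D).pos _ (isRoot_sr cs h j).neg _ (hs D.h4 D.h6 N) ?_ x' hx' zs hzs
  rw [hR.neg_left, hR.sub_right, N.dj, hR.two _ (isRoot_sr cs h j)]; norm_num

include hx0 hz in
theorem rel_oz : x0 * z = z * x0 := U_r D N (X_le_U (isRoot_sr cs h j) (sr_nonneg j) hx0) hz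

include hx' hx'1 hz hz1 hzs hzs1 in
theorem rel_pz : x' * z * x'⁻¹ = zs * z := by
  have hR := roots cs h D.h4 D.h6
  have h1 : Bf A (-sr j) r = -1 := by rw [hR.neg_left, N.dj]
  have h2 := (rg D).neg _ (isRoot_sr cs h j).neg _ N.hr h1 x' hx' z hz
  have h3 : x' * z * x'⁻¹ * z⁻¹ ≠ 1 := by
    intro e
    rcases (rg D).inj _ (isRoot_sr cs h j).neg _ N.hr h1 x' hx' z hz (by
      rwa [mul_inv_eq_one, mul_inv_eq_iff_eq_mul] at e) with h4 | h4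
    · exact hx'1 h4
    · exact hz1 h4
  have e : -sr j + r = r - sr j := by abel
  rw [e] at h2
  have h4 := eq_of_ne D (hs D.h4 D.h6 N) h2 hzs h3 hzs1
  rw [← h4]; group

include hx0 hx01 hz hz1 hzs hzs1 in
theorem rel_os : x0 * zs * x0⁻¹ = zs * z := by
  have hR := roots cs h D.h4 D.h6
  have h1 : Bf A (sr j) (r - sr j) = -1 := by
    rw [hR.sub_right, N.dj, hR.two _ (isRoot_sr cs h j)]; norm_num
  have h2 := (rg D).neg _ (isRoot_sr cs h j) _ (hs D.h4 D.h6 N) h1 x0 hx0 zs hzs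
  have h3 : x0 * zs * x0⁻¹ * zs⁻¹ ≠ 1 := by
    intro e
    rcases (rg D).inj _ (isRoot_sr cs h j) _ (hs D.h4 D.h6 N) h1 x0 hx0 zs hzs (by
      rwa [mul_inv_eq_one, mul_inv_eq_iff_eq_mul] at e) with h4 | h4
    · exact hx01 h4
    · exact hzs1 h4
  rw [add_sub_cancel] at h2
  have h4 := eq_of_ne D N.hr h2 hz h3 hz1
  rw [← rel_zc D N hz hzs, ← h4]; group

/-- the relations -/
theorem rel (tK : ∀ k ∈ K, t * k = k * t) {m : G} (mz : m * z = z * m) (ms : m * zs = zs * m)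
    (mt : m * t * m⁻¹ = t * z) (hx' : x' ∈ X (-sr j)) (hx'1 : x' ≠ 1) (hx0 : x0 ∈ X (sr j)) (hx01 : x0 ≠ 1)
    (hz : z ∈ X r) (hz1 : z ≠ 1) (hzs : zs ∈ X (r - sr j)) (hzs1 : zs ≠ 1) : Rel t z zs x' x0 m where
  zz := pow_two_X D N.hr hz
  ss := pow_two_X D (hs D.h4 D.h6 N) hzs
  pp := pow_two_X D (isRoot_sr cs h j).neg hx'
  oo := pow_two_X D (isRoot_sr cs h j) hx0
  tp := (tK _ (D.XK (isRoot_sr cs h j).neg hx')).symm
  tx := (tK _ (D.XK (isRoot_sr cs h j) hx0)).symm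
  zc := rel_zc D N hz hzs
  ps := rel_ps D N hx' hzs
  oz := rel_oz D N hx0 hz
  pz := rel_pz D N hx' hx'1 hz hz1 hzs hzs1
  os := rel_os D N hx0 hx01 hz hz1 hzs hzs1
  nz := mz
  ns := ms
  nt := mt

end rel

end Cfsg.Agent.OddHalf.D7Ex.TriGrp
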