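import Cfsg.Agent.OddHalf.D7Ex.TriE
import Cfsg.Agent.OddHalf.D7Out.MainSL

/-!
# ODD D7, `q = 2`: existence of the doubled root group from the front (helper57)

* `syl_of_out` : the Sylow subgroup and the element `m` of `FrontSL.Out` form a `Tri.Syl`;
* **`hasEx_full`** : `MainSL.HasEx` for `q = 2` if `J = I ∖ {j}` (`E₆`, `E₇`, `E₈`).
-/

set_option autoImplicit false
set_option linter.unusedSectionVars false

namespace Cfsg.Agent.OddHalf.D7Ex.TriHas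

open Cfsg.Agent.OddHalf.SL Cfsg.Agent.KFacts CoxeterSystem Cfsg.Agent.ChevalleyStructure.CoxeterGeom
  Cfsg.Agent.Tits.Roots Cfsg.Agent.Tits.Core
  Cfsg.Agent.Tits.RootComb Cfsg.Agent.Nodes.Comb Cfsg.Agent.Nodes.Reps Cfsg.Agent.Nodes.BNOf
  Cfsg.Agent.Nodes.Bruhat Cfsg.Agent.Nodes.Coroot Cfsg.Agent.OddHalf.SL.Index Cfsg.Agent.OddHalf.SL.OfRGD
  Cfsg.Agent.Nodes.StabComb Cfsg.Agent.Nodes.LeviDec Cfsg.Agent.Nodes.Sub Cfsg.Agent.Nodes.SubComb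
  Cfsg.Agent.OddHalf.D7Ex.KTwo Cfsg.Agent.OddHalf.D7Ex.TriComb Cfsg.Agent.OddHalf.D7Ex.TriAux
  Cfsg.Agent.OddHalf.D7Ex.TriGrp Cfsg.Agent.OddHalf.D7Ex.TriFix Cfsg.Agent.OddHalf.D7Ex.TriLevi
  Cfsg.Agent.OddHalf.D7Ex.Tri Cfsg.Agent.OddHalf.D7Ex.GamAut Cfsg.Agent.OddHalf.SL.OfDatum
  Cfsg.Agent.OddHalf.D7Ex.KFull Cfsg.Agent.OddHalf.D7Ex.OutBase
  Cfsg.Agent.KFacts.RgdCent Cfsg.Agent.KFacts.RgdPar Cfsg.Agent.KFacts.RgdTI Cfsg.Agent.OddHalf.D7Out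
  Cfsg.Agent.OddHalf.D7Ex.KData Cfsg.Agent.KFacts.SLRow.Def
open scoped commutatorElement

variable {I W : Type*} [Fintype I] [DecidableEq I] [Group W] {M : CoxeterMatrix I}
  {cs : CoxeterSystem M W} {A : I → I → ℤ} {h : IsCartan M A}
  {G : Type*} [Group G] {K : Subgroup G} {T₀ : Subgroup ↥K} {n : I → ↥K} {X : (I → ℤ) → Subgroup ↥K}
  {F : Type*} [Field F] {e : (I → ℤ) → F → ↥K} {t v : G}

theorem fl_of_ct (C : CT t K) : Fl t K := ⟨C.tt, C.tK, C.Kt, C.nrm, C.cK⟩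

theorem perf_of_ct (C : CT t K) (P' : Subgroup G) (h1 : ∀ x ∈ P', x * t = t * x) (h2 : P' ≤ ⁅P', P'⁆) : P' ≤ K :=
  C.perf P' (fun x hx => Subgroup.mem_centralizer_singleton_iff.2 (h1 x hx)) h2

theorem map_U : RGD.Sup (fun x => (X x).map K.subtype) (RGD.Pos cs h) =
    (RGD.Sup X (RGD.Pos cs h)).map K.subtype := by
  unfold RGD.Sup
  rw [Subgroup.map_iSup]

variable [Finite W] [Finite G] (D : Datum (⊤ : Subgroup ↥K) 2 cs h T₀ n X)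
  {ρ : I → ℤ} {T : Subgroup G} {g : ↥T →* Equiv.Perm I × (F ≃+* F)} {m z : G}
  (O : FrontSL.Out cs h T₀ X e t v ρ T g m z)

include D O

theorem mz_of_out : m * z = z * m := by
  have h1 := OfFront.conj_z O.fr.toFr O.mT O.zX O.zT O.mt
  have h2 : m⁻¹ * z * m ≠ 1 := by
    intro e
    apply O.z1
    calc z = m * (m⁻¹ * z * m) * m⁻¹ := by group
      _ = 1 := by rw [e]; group
  have h3 := eq_of_ne (dm D) O.root h1 O.zX h2 O.z1
  calc m * z = m * (m⁻¹ * z * m) := by rw [h3]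
    _ = z * m := by group

theorem syl_of_out : Syl K (RGD.Sup (fun x => (X x).map K.subtype) (RGD.Pos cs h)) t z T m where
  US := by
    rw [map_U, O.fr.U_eq]; exact inf_le_left
  SK := by
    intro y hy hyK
    rw [map_U, O.fr.U_eq]; exact ⟨hy, hyK⟩
  tS := Front.tT O.fr.toFr
  St := O.fr.tc
  Sz := O.zT
  mS := fun y => (Subgroup.mem_normalizer_iff.1 O.mT y).symm
  mt := O.mt
  mz := mz_of_out D O

omit O in
/-- **`HasEx`, `q = 2`, `J = I ∖ {j}`.** -/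
theorem hasEx_full (hI : 4 ≤ Fintype.card I)
    (hN : ∀ ρ, IsRoot cs h ρ → (∀ i, 0 ≤ cpr cs h (sr i) ρ) → ∃ (J : Type) (_ : Fintype J) (_ : DecidableEq J)
      (f : J ↪ I) (j : I) (κ : J), Nd cs h f j κ ρ ∧ (∀ b, b ≠ j → ∃ i, f i = b) ∧
        (∀ i, ∃ i', Bf A (sr (f i)) (sr (f i')) = -1) ∧
        ∀ σ τ : Equiv.Perm J, (∀ i k, M (f (σ i)) (f (σ k)) = M (f i) (f k)) → σ κ = κ →
          (∀ i k, M (f (τ i)) (f (τ k)) = M (f i) (f k)) → τ κ = κ → σ ≠ 1 → τ ≠ 1 → σ = τ) :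
    MainSL.HasEx D e t v := by
  intro ρ T g m z O C
  obtain ⟨J, _, _, f, j, κ, N, hfull, hnb, haut⟩ := hN ρ O.root O.dom
  exact TriE.exists_base (dm D) N (fl_of_ct C) (perf_of_ct C) hI hfull hnb haut O.zX O.z1 (syl_of_out D O)

end Cfsg.Agent.OddHalf.D7Ex.TriHas
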