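import Cfsg.Agent.OddHalf.D7Ex.TriFix

/-!
# ODD D7, `q = 2`: the action on the Levi subgroup of a node (helper57)

* `PF` : the minimal parabolic subgroups of `L`; `act` : an element `g` normalising `X r` and `t X r` acts on `L Q / Q`;
* `levi_sym`, `levi_inner` : `Act.sym`, `Act.inner` for `L`; `K_sym`, `K_inner` : the same for `K`.
-/

set_option autoImplicit false
set_option linter.unusedSectionVars false

namespace Cfsg.Agent.OddHalf.D7Ex.TriLevi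

open Cfsg.Agent.OddHalf.SL Cfsg.Agent.KFacts CoxeterSystem Cfsg.Agent.ChevalleyStructure.CoxeterGeom
  Cfsg.Agent.Tits.Roots Cfsg.Agent.Tits.Core
  Cfsg.Agent.Tits.RootComb Cfsg.Agent.Nodes.Comb Cfsg.Agent.Nodes.Reps Cfsg.Agent.Nodes.BNOf
  Cfsg.Agent.Nodes.Bruhat Cfsg.Agent.Nodes.Coroot Cfsg.Agent.OddHalf.SL.Index Cfsg.Agent.OddHalf.SL.OfRGD
  Cfsg.Agent.Nodes.StabComb Cfsg.Agent.Nodes.LeviDec Cfsg.Agent.Nodes.Sub Cfsg.Agent.Nodes.SubComb
  Cfsg.Agent.Nodes.ClsSub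
  Cfsg.Agent.OddHalf.D7Ex.KTwo Cfsg.Agent.OddHalf.D7Ex.TriComb Cfsg.Agent.OddHalf.D7Ex.TriAux
  Cfsg.Agent.OddHalf.D7Ex.TriGrp Cfsg.Agent.OddHalf.D7Ex.GamAut
  Cfsg.Agent.OddHalf.D7Ex.KData Cfsg.Agent.KFacts.SLRow.Def
open scoped commutatorElement

variable {I J W G : Type*} [Fintype I] [DecidableEq I] [Fintype J] [DecidableEq J] [Group W] [Group G]
  {M : CoxeterMatrix I} {cs : CoxeterSystem M W} {A : I → I → ℤ} {h : IsCartan M A} {T : Subgroup G} {n : I → G}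
  {X : (I → ℤ) → Subgroup G} {K : Subgroup G} {t : G}

/-- the minimal parabolic subgroups of `L` -/
def PF (cs : CoxeterSystem M W) (h : IsCartan M A) (X : (I → ℤ) → Subgroup G) (f : J ↪ I) (i : J) : Subgroup G :=
  Uv cs h X f ⊔ X (-sr (f i))

section Levi

variable (cs h)

variable {W' : Type*} [Group W'] {f : J ↪ I} (cs' : CoxeterSystem (leviMatrix f M) W') [Finite W] [Finite W']

omit [Finite W'] in
theorem LL_levi : LL cs' (levi_isCartan f h) (fun c => X (iota (fun j => sr (f j)) c)) = Lv cs h X f := by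
  have := Fintype.ofFinite W
  have : Finite W' := (levi_subSys (cs := cs) (h := h) f).finite cs' (levi_isCartan f h)
  have := Fintype.ofFinite W'
  unfold LL Lv
  refine (Sup_eq_of_forall (fun x hx => ?_) (fun c hc => ?_)).symm
  · obtain ⟨c, hc, rfl⟩ := (mem_RootsJ_range_iff f cs').1 hx
    exact ⟨c, hc, rfl⟩
  · exact ⟨_, (mem_RootsJ_range_iff f cs').2 ⟨c, hc, rfl⟩, rfl⟩

omit [Finite W'] in
theorem UU_levi : UU cs' (levi_isCartan f h) (fun c => X (iota (fun j => sr (f j)) c)) = Uv cs h X f := by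
  have := Fintype.ofFinite W
  have : Finite W' := (levi_subSys (cs := cs) (h := h) f).finite cs' (levi_isCartan f h)
  have := Fintype.ofFinite W'
  unfold UU Uv UJ
  refine (Sup_eq_of_forall (fun x hx => ?_) (fun c hc => ?_)).symm
  · obtain ⟨c, hc, rfl⟩ := (mem_RootsJ_range_iff (h := h) f cs').1 (PosJ_subset _ hx)
    refine ⟨c, ⟨hc, fun i => ?_⟩, rfl⟩
    have h2 := hx.2.1 (f i)
    rw [iota_levi_apply] at h2
    exact h2
  · obtain ⟨hc1, hc2⟩ := hc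
    have h1 : iota (fun j => sr (f j)) c ∈ RootsJ cs h (Set.range f) :=
      (mem_RootsJ_range_iff (h := h) f cs').2 ⟨c, hc1, rfl⟩
    refine ⟨_, ⟨h1.1, fun k => ?_, h1.2⟩, rfl⟩
    by_cases hk : ∃ i, f i = k
    · obtain ⟨i, rfl⟩ := hk
      rw [iota_levi_apply]; exact hc2 i
    · push Not at hk
      rw [iota_levi_apply_ne f c hk]; rfl

omit [Finite W] [Finite W'] in
theorem X_neg_levi (i : J) : X (iota (fun j => sr (f j)) (-sr i)) = X (-sr (f i)) := by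
  rw [map_neg, iota_sr]

omit [Finite W] [Finite W'] in
theorem X_pos_levi (i : J) : X (iota (fun j => sr (f j)) (sr i)) = X (sr (f i)) := by
  rw [iota_sr]

omit [Finite W'] in
theorem PI_levi (i : J) :
    PI cs' (levi_isCartan f h) (fun c => X (iota (fun j => sr (f j)) c)) i = PF cs h X f i := by
  unfold PI PF
  rw [UU_levi cs h cs']
  congr 1
  exact X_neg_levi i

end Levi

variable [Finite W] [Finite G] {f : J ↪ I} {j : I} {κ : J} {r : I → ℤ} (D : Datum K 2 cs h T n X)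
  (N : Nd cs h f j κ r)

omit [Finite G] in
theorem PF_le (i : J) : PF cs h X f i ≤ Lv cs h X f :=
  sup_le Uv_le_Lv (RGD.le_Sup (S := RootsJ cs h (Set.range f)) (RootsJ.neg (PosJ_subset _ (sr_mem_PosJ ⟨i, rfl⟩))))

include D

include N in
/-- `g` acts on `L Q / Q` -/
theorem act {P : Subgroup G} (HK : KR t (Bf A) {x | IsRoot cs h x} X r P T) (hP : P = Lv cs h X f ⊔ Qr cs h X r)
    {g : G} (gX : ∀ x ∈ X r, g * x * g⁻¹ ∈ X r) (gt : t * (g * t * g⁻¹) ∈ X r) :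
    Act (Lv cs h X f) (Qr cs h X r) g := by
  obtain ⟨gX', gt'⟩ := HK.inv_norm gX gt
  refine ⟨nQ D N, inf D N, fun q => ⟨fun hq => ?_, fun hq => HK.nQ1 gX gt hq⟩, fun l hl => ?_⟩
  · have h1 := HK.nQ1 gX' gt' hq
    have e : g⁻¹ * (g * q * g⁻¹) * g⁻¹⁻¹ = q := by group
    rwa [e] at h1
  · have h1 := HK.nP0 g gX gt l (by rw [hP]; exact Subgroup.mem_sup_left hl)
    rw [hP] at h1
    exact (mem_sup_norm (nQ D N)).1 h1

/-- the permutation of the diagram of `L` -/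
theorem levi_sym {Q : Subgroup G} {g : G} (hA : Act (Lv cs h X f) Q g)
    (hU : ∀ x ∈ Uv cs h X f, g * x * g⁻¹ ∈ Uv cs h X f ⊔ Q) :
    ∃ σ : Equiv.Perm J, (∀ i, ∀ x ∈ PF cs h X f i, g * x * g⁻¹ ∈ PF cs h X f (σ i) ⊔ Q) ∧
      (∀ i k, (∀ x ∈ X (-sr (f i)), g * x * g⁻¹ ∈ PF cs h X f k ⊔ Q) → σ i = k) ∧
      ∀ i k, M (f (σ i)) (f (σ k)) = M (f i) (f k) := by
  let cs' := (leviMatrix f M).toCoxeterSystem
  have hW' : Finite (leviMatrix f M).Group := (levi_subSys (cs := cs) (h := h) f).finite cs' (levi_isCartan f h)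
  have R' := rgd_levi D.rgd f cs'
  obtain ⟨σ, h1, h2, h3⟩ := Act.sym R' (T_eq_bot D) (Q := Q) (g := g) (by rw [LL_levi cs h cs']; exact hA)
    (by rw [UU_levi cs h cs']; exact hU)
  refine ⟨σ, fun i x hx => ?_, fun i k hik => h2 i k fun x hx => ?_, h3⟩
  · have := h1 i x (by rw [PI_levi cs h cs']; exact hx)
    rwa [PI_levi cs h cs'] at this
  · rw [PI_levi cs h cs']
    exact hik x (by rw [← X_neg_levi (X := X)]; exact hx)

/-- rigidity for `L` -/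
theorem levi_inner {Q : Subgroup G} {g : G} (hA : Act (Lv cs h X f) Q g)
    (hU : ∀ x ∈ Uv cs h X f, g * x * g⁻¹ ∈ Uv cs h X f ⊔ Q)
    (hP : ∀ i, ∀ x ∈ X (-sr (f i)), g * x * g⁻¹ ∈ PF cs h X f i ⊔ Q) :
    ∃ u ∈ Uv cs h X f, ∀ l ∈ Lv cs h X f, ∃ q ∈ Q, g * l * g⁻¹ = (u * l * u⁻¹) * q := by
  let cs' := (leviMatrix f M).toCoxeterSystem
  have hW' : Finite (leviMatrix f M).Group := (levi_subSys (cs := cs) (h := h) f).finite cs' (levi_isCartan f h)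
  have R' := rgd_levi D.rgd f cs'
  obtain ⟨u, hu, h1⟩ := Act.inner R' (T_eq_bot D) (Q := Q) (g := g) (by rw [LL_levi cs h cs']; exact hA)
    (by rw [UU_levi cs h cs']; exact hU) (fun i x hx => by
      rw [PI_levi cs h cs']
      exact hP i x (by rw [← X_neg_levi (X := X)]; exact hx)) (fun i x hx y hy hx1 hy1 =>
      eq_of_ne D (isRoot_sr cs h (f i)) (by rw [← X_pos_levi (X := X)]; exact hx)
        (by rw [← X_pos_levi (X := X)]; exact hy) hx1 hy1)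
  rw [UU_levi cs h cs'] at hu
  refine ⟨u, hu, fun l hl => ?_⟩
  exact h1 l (by rw [LL_levi cs h cs']; exact hl)

/-! ### The same for `K` -/

theorem K_act {g : G} (gK : ∀ k ∈ K, g * k * g⁻¹ ∈ K) : Act (LL cs h X) ⊥ g := by
  have e : LL cs h X = K := LL_eq D
  rw [e]
  refine ⟨?_, fun x _ hx => Subgroup.mem_bot.1 hx, fun q => ?_, fun l hl => ⟨_, gK l hl, 1, one_mem _, (mul_one _).symm⟩⟩
  · intro l _ q hq
    rw [Subgroup.mem_bot] at hq ⊢
    rw [hq]; group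
  · rw [Subgroup.mem_bot, Subgroup.mem_bot]
    constructor
    · intro e
      have : q = g⁻¹ * (g * q * g⁻¹) * g := by group
      rw [this, e]; group
    · intro e
      rw [e]; group

/-- the permutation of the diagram of `K` -/
theorem K_sym {g : G} (gK : ∀ k ∈ K, g * k * g⁻¹ ∈ K) (gU : ∀ x ∈ RGD.Sup X (RGD.Pos cs h),
      g * x * g⁻¹ ∈ RGD.Sup X (RGD.Pos cs h)) :
    ∃ σ : Equiv.Perm I, (∀ i, ∀ x ∈ RGD.Sup X (RGD.Pos cs h) ⊔ X (-sr i),
        g * x * g⁻¹ ∈ RGD.Sup X (RGD.Pos cs h) ⊔ X (-sr (σ i))) ∧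
      (∀ i k, (∀ x ∈ X (-sr i), g * x * g⁻¹ ∈ RGD.Sup X (RGD.Pos cs h) ⊔ X (-sr k)) → σ i = k) ∧
      ∀ i k, M (σ i) (σ k) = M i k := by
  obtain ⟨σ, h1, h2, h3⟩ := Act.sym D.rgd (T_eq_bot D) (K_act D gK) (fun x hx => by
    rw [sup_bot_eq]; exact gU x hx)
  refine ⟨σ, fun i x hx => ?_, fun i k hik => h2 i k fun x hx => ?_, h3⟩
  · have := h1 i x hx
    rwa [sup_bot_eq] at this
  · rw [sup_bot_eq]
    exact hik x hx

/-- rigidity for `K` -/
theorem K_inner {g : G} (gK : ∀ k ∈ K, g * k * g⁻¹ ∈ K) (gU : ∀ x ∈ RGD.Sup X (RGD.Pos cs h),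
      g * x * g⁻¹ ∈ RGD.Sup X (RGD.Pos cs h))
    (hP : ∀ i, ∀ x ∈ X (-sr i), g * x * g⁻¹ ∈ RGD.Sup X (RGD.Pos cs h) ⊔ X (-sr i)) :
    ∃ u ∈ RGD.Sup X (RGD.Pos cs h), ∀ l ∈ K, g * l * g⁻¹ = u * l * u⁻¹ := by
  obtain ⟨u, hu, h1⟩ := Act.inner D.rgd (T_eq_bot D) (K_act D gK) (fun x hx => by
    rw [sup_bot_eq]; exact gU x hx) (fun i x hx => by rw [sup_bot_eq]; exact hP i x hx)
    (fun i x hx y hy hx1 hy1 => eq_of_ne D (isRoot_sr cs h i) hx hy hx1 hy1)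
  refine ⟨u, hu, fun l hl => ?_⟩
  obtain ⟨q, hq, e⟩ := h1 l (by rw [show LL cs h X = K from LL_eq D]; exact hl)
  rw [Subgroup.mem_bot] at hq
  rw [e, hq, mul_one]

end Cfsg.Agent.OddHalf.D7Ex.TriLevi
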